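import Cfsg.Agent.Amalgam.CosetGraph
import Cfsg.Agent.Transfer.PResidual
import Cfsg.Prelude.Def_LocalStructure

/-!
The subgroups `V_δ^{(n)}` and the action of `O^p(L_δ)` on them.
-/

set_option autoImplicit false
set_option linter.unusedSectionVars false
set_option linter.style.haveILetI false

namespace CfsgLib.Amalgam

open Cfsg MulAction
open scoped commutatorElement

variable {X : Type*} [Group X] {M₁ M₂ : Subgroup X} {p : ℕ} [Fact p.Prime]

/-- `O^p(L_δ)` in the ambient group. -/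
abbrev residualOf (p : ℕ) (δ : CosetVertex M₁ M₂) : Subgroup X :=
  (pResidual p ↥(pElementClosure p (stabilizer X δ))).map (pElementClosure p (stabilizer X δ)).subtype

theorem dist_smul_le (hgen : M₁ ⊔ M₂ = ⊤) (g : X) (a b : CosetVertex M₁ M₂) :
    (cosetGraph M₁ M₂).dist (g • a) (g • b) ≤ (cosetGraph M₁ M₂).dist a b := by
  obtain ⟨w, hw⟩ := (connected hgen).exists_walk_length_eq_dist a b
  let φ : cosetGraph M₁ M₂ →g cosetGraph M₁ M₂ := ⟨fun a => g • a, fun h => adj_smul g h⟩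
  have := SimpleGraph.dist_le (w.map φ)
  rw [SimpleGraph.Walk.length_map, hw] at this
  exact this

theorem map_vertexZ_le (h : IsCharPAmalgamPair p M₁ M₂) (g : X) (ν : CosetVertex M₁ M₂) :
    (vertexZ p ν).map (MulAut.conj g).toMonoidHom ≤ vertexZ p (g • ν) := by
  haveI := finite_stabilizer h ν
  haveI := finite_stabilizer h (g • ν)
  rw [vertexZ, sylowCenterClosure, Subgroup.map_iSup]
  refine iSup_le fun S => ?_
  have hst : (stabilizer X ν).map (MulAut.conj g).toMonoidHom = stabilizer X (g • ν) :=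
    (MulAction.stabilizer_smul_eq_stabilizer_map_conj g ν).symm
  set T := ((S : Subgroup (stabilizer X ν)).map (stabilizer X ν).subtype).map (MulAut.conj g).toMonoidHom with hT
  have hle : T ≤ stabilizer X (g • ν) := hst ▸ Subgroup.map_mono (Subgroup.map_subtype_le _)
  have hcard : Nat.card (T.subgroupOf (stabilizer X (g • ν))) =
      p ^ (Nat.card (stabilizer X (g • ν))).factorization p := by
    rw [Nat.card_congr (Subgroup.subgroupOfEquivOfLe hle).toEquiv, hT,
      Subgroup.card_map_of_injective (MulAut.conj g).injective,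
      Subgroup.card_map_of_injective (Subgroup.subtype_injective _), S.card_eq_multiplicity, ← hst,
      Subgroup.card_map_of_injective (MulAut.conj g).injective]
  refine le_trans ?_ (omegaCentre_le (stabilizer X (g • ν)) (Sylow.ofCard _ hcard))
  show _ ≤ omegaOne p (((T.subgroupOf (stabilizer X (g • ν))).map (stabilizer X (g • ν)).subtype) ⊓ _)
  rw [Sylow.coe_ofCard, Subgroup.map_subgroupOf_eq_of_le hle, CfsgLib.Thompson.map_omegaOne _ (MulAut.conj g).injective]
  refine CfsgLib.Thompson.omegaOne_mono ?_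
  rintro _ ⟨w, ⟨hw1, hw2⟩, rfl⟩
  refine ⟨Subgroup.mem_map_of_mem _ hw1, Subgroup.mem_centralizer_iff.2 ?_⟩
  rintro _ ⟨v, hv, rfl⟩
  rw [← map_mul, ← map_mul, Subgroup.mem_centralizer_iff.1 hw2 v hv]

theorem mem_normalizer_of_map_le {H : Subgroup X} {g : X}
    (h1 : H.map (MulAut.conj g).toMonoidHom ≤ H) (h2 : H.map (MulAut.conj g⁻¹).toMonoidHom ≤ H) :
    g ∈ Subgroup.normalizer (H : Set X) := by
  rw [Subgroup.mem_normalizer_iff]
  refine fun x => ⟨fun hx => h1 (Subgroup.mem_map_of_mem _ hx), fun hx => ?_⟩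
  have := h2 (Subgroup.mem_map_of_mem _ hx)
  simpa [mul_assoc] using this

theorem le_normalizer_vertexVIter (h : IsCharPAmalgamPair p M₁ M₂) (n : ℕ) (μ : CosetVertex M₁ M₂) :
    stabilizer X μ ≤ Subgroup.normalizer (vertexVIter p M₁ M₂ n μ : Set X) := by
  have key : ∀ g ∈ stabilizer X μ,
      (vertexVIter p M₁ M₂ n μ).map (MulAut.conj g).toMonoidHom ≤ vertexVIter p M₁ M₂ n μ := by
    intro g hg
    rw [vertexVIter, Subgroup.map_iSup]
    refine iSup_le fun ν => (map_vertexZ_le h g ν.1).trans ?_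
    refine le_iSup_of_le ⟨g • ν.1, ?_⟩ le_rfl
    have := dist_smul_le h.1.1 g μ ν.1
    rw [show g • μ = μ from hg] at this
    exact this.trans ν.2
  exact fun g hg => mem_normalizer_of_map_le (key g hg) (key g⁻¹ (inv_mem hg))

theorem vertexVIter_mono_adj (h : IsCharPAmalgamPair p M₁ M₂) {δ μ : CosetVertex M₁ M₂}
    (hμ : (cosetGraph M₁ M₂).Adj δ μ) {m n : ℕ} (hmn : m + 1 ≤ n) :
    vertexVIter p M₁ M₂ m μ ≤ vertexVIter p M₁ M₂ n δ := by
  refine iSup_le fun ν => le_iSup_of_le ⟨ν.1, ?_⟩ le_rfl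
  have h1 : (cosetGraph M₁ M₂).dist δ μ = 1 := SimpleGraph.dist_eq_one_iff_adj.2 hμ
  have := (connected h.1.1).dist_triangle (u := δ) (v := μ) (w := ν.1)
  have := ν.2
  omega

theorem vertexZ_le_vertexVIter (δ : CosetVertex M₁ M₂) (n : ℕ) :
    vertexZ p δ ≤ vertexVIter p M₁ M₂ n δ :=
  le_iSup_of_le (⟨δ, by simp⟩ : {μ : CosetVertex M₁ M₂ // (cosetGraph M₁ M₂).dist δ μ ≤ n}) le_rfl

theorem vertexZ_ne_bot (h : IsCharPAmalgamPair p M₁ M₂) (δ : CosetVertex M₁ M₂) : vertexZ p δ ≠ ⊥ := by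
  haveI := finite_stabilizer h δ
  haveI := h.2.1
  haveI := h.2.2.1
  obtain ⟨P⟩ : Nonempty (Sylow p (stabilizer X δ)) := inferInstance
  have hdvd : p ∣ Nat.card (stabilizer X δ) := by
    rcases δ with a | a <;> obtain ⟨x, rfl⟩ := QuotientGroup.mk_surjective a
    · rw [card_stabilizer_inl]; exact h.2.2.2.1
    · rw [card_stabilizer_inr]; exact h.2.2.2.2.1
  haveI : Nontrivial (P : Subgroup (stabilizer X δ)) :=
    (Subgroup.nontrivial_iff_ne_bot _).2 (P.ne_bot_of_dvd_card hdvd)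
  haveI : Nontrivial (Subgroup.center (P : Subgroup (stabilizer X δ))) := P.isPGroup'.center_nontrivial
  obtain ⟨k, hk, hkc⟩ := (P.isPGroup'.to_subgroup (Subgroup.center _)).nontrivial_iff_card.1 inferInstance
  obtain ⟨z, hz⟩ := exists_prime_orderOf_dvd_card' (G := Subgroup.center (P : Subgroup (stabilizer X δ))) p
    (by rw [hkc]; exact dvd_pow_self p hk.ne')
  intro hbot
  have hz0 : (((z : (P : Subgroup (stabilizer X δ))) : stabilizer X δ) : X) ∈ vertexZ p δ := by
    refine omegaCentre_le (stabilizer X δ) P (Subgroup.subset_closure ⟨⟨?_, ?_⟩, ?_⟩)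
    · exact Subgroup.mem_map_of_mem _ (z : (P : Subgroup (stabilizer X δ))).2
    · refine Subgroup.mem_centralizer_iff.2 ?_
      rintro _ ⟨v, hv, rfl⟩
      exact congrArg (fun w : (P : Subgroup (stabilizer X δ)) => ((w : stabilizer X δ) : X))
        (Subgroup.mem_center_iff.1 z.2 ⟨v, hv⟩)
    · have h1 : z ^ p = 1 := (congrArg (z ^ ·) hz.symm).trans (pow_orderOf_eq_one z)
      exact congrArg (fun w : Subgroup.center (P : Subgroup (stabilizer X δ)) =>
        (((w : (P : Subgroup (stabilizer X δ))) : stabilizer X δ) : X)) h1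
  rw [hbot, Subgroup.mem_bot] at hz0
  have : z = 1 := Subtype.ext (Subtype.ext (Subtype.ext hz0))
  rw [this, orderOf_one] at hz
  exact (Fact.out : p.Prime).ne_one hz.symm

theorem normalizer_le_stabilizer (h : IsSpeAmalgamPair p M₁ M₂) {δ μ : CosetVertex M₁ M₂}
    (hμ : (cosetGraph M₁ M₂).Adj δ μ) (P : Sylow p (stabilizer X δ))
    (hP : (P : Subgroup (stabilizer X δ)).map (stabilizer X δ).subtype ≤ stabilizer X μ) {g : X}
    (hg : g ∈ stabilizer X δ)
    (hn : g ∈ Subgroup.normalizer (((P : Subgroup (stabilizer X δ)).map (stabilizer X δ).subtype : Subgroup X) : Set X)) :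
    g ∈ stabilizer X μ := by
  haveI := h.1.2.1
  haveI := h.1.2.2.1
  haveI := finite_stabilizer h.1 δ
  haveI : Finite ↥(M₁ ⊓ M₂) :=
    Finite.of_injective _ (Subgroup.inclusion_injective (inf_le_left : M₁ ⊓ M₂ ≤ M₁))
  obtain ⟨S₀⟩ : Nonempty (Sylow p ↥(M₁ ⊓ M₂)) := inferInstance
  obtain ⟨P₁⟩ : Nonempty (Sylow p M₁) := inferInstance
  obtain ⟨P₂⟩ : Nonempty (Sylow p M₂) := inferInstance
  obtain ⟨c1, c2⟩ := h.1.2.2.2.2.2.1 S₀ P₁ P₂
  set T := (P : Subgroup (stabilizer X δ)).map (stabilizer X δ).subtype with hT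
  have hTδ : T ≤ stabilizer X δ := Subgroup.map_subtype_le _
  obtain ⟨x, ⟨rfl, rfl⟩ | ⟨rfl, rfl⟩⟩ := adj_iff.1 hμ
  all_goals
    set T₀ := T.map (MulAut.conj x⁻¹).toMonoidHom with hT₀
    have hT₀le : T₀ ≤ M₁ ⊓ M₂ := by
      rintro _ ⟨t, ht, rfl⟩
      first
      | exact ⟨by simpa using mem_stabilizer_inl.1 (hTδ ht), by simpa using mem_stabilizer_inr.1 (hP ht)⟩
      | exact ⟨by simpa using mem_stabilizer_inl.1 (hP ht), by simpa using mem_stabilizer_inr.1 (hTδ ht)⟩
    have hc : Nat.card (T₀.subgroupOf (M₁ ⊓ M₂)) = p ^ (Nat.card ↥(M₁ ⊓ M₂)).factorization p := by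
      rw [Nat.card_congr (Subgroup.subgroupOfEquivOfLe hT₀le).toEquiv, hT₀,
        Subgroup.card_map_of_injective (MulAut.conj x⁻¹).injective, hT,
        Subgroup.card_map_of_injective (Subgroup.subtype_injective _), P.card_eq_multiplicity,
        ← S₀.card_eq_multiplicity]
      first
      | rw [card_stabilizer_inl, c1, P₁.card_eq_multiplicity]
      | rw [card_stabilizer_inr, c2, P₂.card_eq_multiplicity]
    obtain ⟨h1, h2⟩ := h.2.1 (Sylow.ofCard _ hc)
    rw [Sylow.coe_ofCard, Subgroup.map_subgroupOf_eq_of_le hT₀le] at h1 h2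
    have hy : x⁻¹ * g * x ∈ Subgroup.normalizer (T₀ : Set X) := by
      rw [hT₀]
      refine mem_normalizer_of_map_le ?_ ?_ <;> rintro _ ⟨_, ⟨t, ht, rfl⟩, rfl⟩
      · refine ⟨g * t * g⁻¹, (Subgroup.mem_normalizer_iff.1 hn t).1 ht, ?_⟩
        simp [mul_assoc]
      · refine ⟨g⁻¹ * t * g, ?_, ?_⟩
        · simpa using (Subgroup.mem_normalizer_iff.1 (inv_mem hn) t).1 ht
        · simp [mul_assoc]
    first
    | exact mem_stabilizer_inr.2 (h2 ⟨mem_stabilizer_inl.1 hg, hy⟩).2
    | exact mem_stabilizer_inl.2 (h2 (h1.ge ⟨mem_stabilizer_inr.1 hg, hy⟩)).1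

/-- A vertex stabilizer is generated by `O^p(L_δ)` and an edge stabilizer. -/
theorem stabilizer_le_sup (h : IsSpeAmalgamPair p M₁ M₂) {δ μ : CosetVertex M₁ M₂}
    (hμ : (cosetGraph M₁ M₂).Adj δ μ) :
    stabilizer X δ ≤ residualOf p δ ⊔ edgeStabilizer δ μ := by
  haveI := finite_stabilizer h.1 δ
  set G := stabilizer X δ with hG
  obtain ⟨P, Q, hPQ⟩ := exists_common_sylow h.1 hμ
  have hPμ : (P : Subgroup (stabilizer X δ)).map (stabilizer X δ).subtype ≤ stabilizer X μ :=
    hPQ ▸ Subgroup.map_subtype_le _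
  set L := pElementClosure p G with hL
  have hLG : L ≤ G := (Subgroup.closure_le _).2 fun x hx => hx.1
  haveI : Finite L := Finite.of_injective _ (Subgroup.inclusion_injective hLG)
  set T := (P : Subgroup G).map G.subtype with hT
  have hTG : T ≤ G := Subgroup.map_subtype_le _
  have hTL : T ≤ L := by
    intro t ht
    obtain ⟨k, hk⟩ := IsPGroup.iff_orderOf.1 (P.isPGroup'.map G.subtype) ⟨t, ht⟩
    exact Subgroup.subset_closure ⟨hTG ht, k, by rw [← hk, Subgroup.orderOf_mk]⟩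
  haveI hLn : (L.subgroupOf G).Normal := by
    refine ⟨fun x hx g => ?_⟩
    rw [Subgroup.mem_subgroupOf] at hx ⊢
    have hmap : L.map (MulAut.conj (g : X)).toMonoidHom ≤ L := by
      rw [hL, pElementClosure, MonoidHom.map_closure, Subgroup.closure_le]
      rintro _ ⟨y, ⟨hy, k, hk⟩, rfl⟩
      refine Subgroup.subset_closure ⟨mul_mem (mul_mem g.2 hy) (inv_mem g.2), k, ?_⟩
      rw [MulEquiv.coe_toMonoidHom, MulEquiv.orderOf_eq, hk]
    exact hmap (Subgroup.mem_map_of_mem _ hx)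
  -- `L` is the product of its residual and `T`
  have hLsup : L ≤ residualOf p δ ⊔ T := by
    set R := pResidual p L with hR
    obtain ⟨k, hk⟩ := CfsgLib.PResidual.exists_index_pResidual (G := L) (p := p)
    have hsup : R ⊔ T.subgroupOf L = ⊤ := by
      rw [← Subgroup.index_eq_one]
      refine Nat.eq_one_of_dvd_coprimes (a := p ^ k) (b := (T.subgroupOf L).index) ?_
        (hk ▸ Subgroup.index_dvd_of_le le_sup_left) (Subgroup.index_dvd_of_le le_sup_right)
      refine Nat.Coprime.pow_left k ((Fact.out : p.Prime).coprime_iff_not_dvd.2 ?_)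
      intro hd
      refine P.not_dvd_index (hd.trans ?_)
      show T.relIndex L ∣ (P : Subgroup G).index
      have hPT : (P : Subgroup G).index = T.relIndex G := by
        rw [Subgroup.relIndex, hT, Subgroup.subgroupOf, Subgroup.comap_map_eq_self_of_injective G.subtype_injective]
      rw [hPT, ← Subgroup.relIndex_mul_relIndex T L G hTL hLG]
      exact dvd_mul_right _ _
    calc L = (R ⊔ T.subgroupOf L).map L.subtype := by rw [hsup, ← MonoidHom.range_eq_map, Subgroup.range_subtype]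
      _ ≤ _ := by
        rw [Subgroup.map_sup]
        exact sup_le_sup le_rfl (by rw [Subgroup.map_subgroupOf_eq_of_le hTL])
  -- Frattini argument
  intro g hg
  have hTE : T ≤ edgeStabilizer δ μ := le_inf hTG hPμ
  have hPle : (P : Subgroup G) ≤ L.subgroupOf G := fun x hx => hTL (Subgroup.mem_map_of_mem _ hx)
  haveI : Finite (L.subgroupOf G) := inferInstance
  have htop := Sylow.normalizer_sup_eq_top (P.subtype hPle)
  rw [Sylow.coe_subtype, Subgroup.map_subgroupOf_eq_of_le hPle] at htop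
  have hmem : (⟨g, hg⟩ : G) ∈ Subgroup.normalizer ((P : Subgroup G) : Set G) ⊔ L.subgroupOf G := by
    rw [htop]; trivial
  obtain ⟨a, ha, b, hb, hab⟩ := Subgroup.mem_sup_of_normal_right.1 hmem
  have hga : g = (a : X) * (b : X) := (congrArg Subtype.val hab).symm
  rw [hga]
  refine mul_mem (Subgroup.mem_sup_right ⟨a.2, normalizer_le_stabilizer h hμ P hPμ a.2 ?_⟩)
    (sup_le_sup le_rfl hTE (hLsup hb))
  refine mem_normalizer_of_map_le ?_ ?_ <;> rintro _ ⟨_, ⟨t, ht, rfl⟩, rfl⟩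
  · exact ⟨a * t * a⁻¹, (Subgroup.mem_normalizer_iff.1 ha t).1 ht, rfl⟩
  · have h1 := (Subgroup.mem_normalizer_iff.1 (inv_mem ha) t).1 ht
    rw [inv_inv] at h1
    exact ⟨a⁻¹ * t * a, h1, by simp [mul_assoc]⟩

/-- Invariance under the residual and an edge stabilizer gives invariance under the vertex stabilizer. -/
theorem le_normalizer_of_residual (h : IsSpeAmalgamPair p M₁ M₂) {δ μ : CosetVertex M₁ M₂}
    (hμ : (cosetGraph M₁ M₂).Adj δ μ) {U : Subgroup X}
    (hE : edgeStabilizer δ μ ≤ Subgroup.normalizer (U : Set X))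
    (hO : ∀ o ∈ residualOf p δ, ∀ u ∈ U, ⁅u, o⁆ ∈ U) :
    stabilizer X δ ≤ Subgroup.normalizer (U : Set X) := by
  refine (stabilizer_le_sup h hμ).trans (sup_le ?_ hE)
  have key : ∀ o ∈ residualOf p δ, U.map (MulAut.conj o).toMonoidHom ≤ U := by
    rintro o ho _ ⟨u, hu, rfl⟩
    have h1 : o * u * o⁻¹ = (⁅u, o⁆)⁻¹ * u := by simp [commutatorElement_def, mul_assoc]
    show o * u * o⁻¹ ∈ U
    rw [h1]
    exact mul_mem (inv_mem (hO o ho u hu)) hu
  exact fun o ho => mem_normalizer_of_map_le (key o ho) (key o⁻¹ (inv_mem ho))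

/-- A subgroup of an edge stabilizer normalised by both vertex stabilizers is trivial. -/
theorem eq_bot_of_normalized (h : IsAmalgamPair M₁ M₂) {δ μ : CosetVertex M₁ M₂}
    (hμ : (cosetGraph M₁ M₂).Adj δ μ) {U : Subgroup X} (hU : U ≤ edgeStabilizer δ μ)
    (hδ : stabilizer X δ ≤ Subgroup.normalizer (U : Set X))
    (hμ' : stabilizer X μ ≤ Subgroup.normalizer (U : Set X)) : U = ⊥ :=
  eq_bot_of_transitive h hμ hU
    (fun ν ν' hν hν' => by
      obtain ⟨g, hg, e⟩ := transitive_neighbours hν hν'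
      exact ⟨g, ⟨hδ hg, hg⟩, e⟩)
    (fun ν ν' hν hν' => by
      obtain ⟨g, hg, e⟩ := transitive_neighbours hν hν'
      exact ⟨g, ⟨hμ' hg, hg⟩, e⟩)

/-- The inductive step of the method: `[V^{(n)}, O^p(L)]` does not lie in `V^{(n-2)}`. -/
theorem not_le_two_step (h : IsSpeAmalgamPair p M₁ M₂) (lam : CosetVertex M₁ M₂) (n : ℕ) (hn : 2 ≤ n)
    (hVQ : vertexVIter p M₁ M₂ n lam ≤ vertexQ p lam) :
    ¬ ⁅vertexVIter p M₁ M₂ n lam, residualOf p lam⁆ ≤ vertexVIter p M₁ M₂ (n - 2) lam := by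
  intro hle
  obtain ⟨μ, hμ⟩ := exists_adj (M₁ := M₁) (M₂ := M₂) lam
  set U := vertexVIter p M₁ M₂ (n - 1) μ with hU
  have hUV : U ≤ vertexVIter p M₁ M₂ n lam := vertexVIter_mono_adj h.1 hμ (by omega)
  have hVU : vertexVIter p M₁ M₂ (n - 2) lam ≤ U := vertexVIter_mono_adj h.1 hμ.symm (by omega)
  have hUμ : stabilizer X μ ≤ Subgroup.normalizer (U : Set X) := le_normalizer_vertexVIter h.1 _ μ
  have hUlam := le_normalizer_of_residual h hμ (inf_le_right.trans hUμ)
    (fun o ho u hu => hVU (hle (Subgroup.commutator_mem_commutator (hUV hu) ho)))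
  have hUE : U ≤ edgeStabilizer lam μ := (hUV.trans hVQ).trans
    (le_inf (Subgroup.map_subtype_le _) ((vertexQ_le_neighbourKernel h.1 lam).trans (neighbourKernel_le hμ)))
  have := eq_bot_of_normalized h.1.1 hμ hUE hUlam hUμ
  exact vertexZ_ne_bot h.1 μ (le_bot_iff.1 ((vertexZ_le_vertexVIter μ (n - 1)).trans this.le))

/-- A normal subgroup of a finite `p`-group equal to a subgroup times its commutator with the group. -/
theorem le_of_le_sup_commutator {U V Q : Subgroup X} [Finite Q] (hQ : IsPGroup p Q) (hUQ : U ≤ Q) (hVQ : V ≤ Q)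
    (hUn : Q ≤ Subgroup.normalizer (U : Set X)) (hV : V ≤ U ⊔ ⁅V, Q⁆) : V ≤ U := by
  haveI : (U.subgroupOf Q).Normal := Subgroup.normal_subgroupOf_of_le_normalizer hUn
  haveI : Group.IsNilpotent Q := hQ.isNilpotent
  set π := QuotientGroup.mk' (U.subgroupOf Q) with hπ
  set W := (V.subgroupOf Q).map π with hW
  have hW' : W ≤ ⁅W, ⊤⁆ := by
    have h1 : V.subgroupOf Q ≤ U.subgroupOf Q ⊔ ⁅V.subgroupOf Q, (⊤ : Subgroup Q)⁆ := by
      intro v hv
      have h2 : (U.subgroupOf Q ⊔ ⁅V.subgroupOf Q, (⊤ : Subgroup Q)⁆).map Q.subtype = U ⊔ ⁅V, Q⁆ := by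
        rw [Subgroup.map_sup, Subgroup.map_commutator, Subgroup.map_subgroupOf_eq_of_le hUQ,
          Subgroup.map_subgroupOf_eq_of_le hVQ, ← MonoidHom.range_eq_map, Subgroup.range_subtype]
      have h3 : (v : X) ∈ (U.subgroupOf Q ⊔ ⁅V.subgroupOf Q, (⊤ : Subgroup Q)⁆).map Q.subtype := by
        rw [h2]; exact hV hv
      obtain ⟨w, hw, hwv⟩ := h3
      rwa [← Subtype.ext hwv]
    calc W ≤ (U.subgroupOf Q ⊔ ⁅V.subgroupOf Q, (⊤ : Subgroup Q)⁆).map π := Subgroup.map_mono h1
      _ = ⁅W, ⊤⁆ := by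
        rw [Subgroup.map_sup, Subgroup.map_commutator, hπ, QuotientGroup.map_mk'_self, bot_sup_eq,
          Subgroup.map_top_of_surjective _ (QuotientGroup.mk'_surjective _)]
  obtain ⟨c, hc⟩ := Subgroup.nilpotent_iff_lowerCentralSeries.1
    (inferInstance : Group.IsNilpotent (Q ⧸ U.subgroupOf Q))
  have hall : ∀ k, W ≤ (⊤ : Subgroup (Q ⧸ U.subgroupOf Q)).lowerCentralSeries k := by
    intro k
    induction k with
    | zero => simp
    | succ k ih => exact hW'.trans (Subgroup.commutator_mono ih le_rfl)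
  intro v hv
  have : π ⟨v, hVQ hv⟩ ∈ W := Subgroup.mem_map_of_mem _ hv
  have h1 := hall c this
  rw [hc, Subgroup.mem_bot, hπ, QuotientGroup.mk'_apply, QuotientGroup.eq_one_iff] at h1
  exact h1

/-- `O^p(L)` does not centralize `V^{(n)} / [V^{(n)}, Q]`. -/
theorem not_le_commutator (h : IsSpeAmalgamPair p M₁ M₂) (lam : CosetVertex M₁ M₂) (n : ℕ) (hn : 1 ≤ n)
    (hVQ : vertexVIter p M₁ M₂ n lam ≤ vertexQ p lam) :
    ¬ ⁅vertexVIter p M₁ M₂ n lam, residualOf p lam⁆ ≤ ⁅vertexVIter p M₁ M₂ n lam, vertexQ p lam⁆ := by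
  intro hle
  haveI := finite_stabilizer h.1 lam
  obtain ⟨μ, hμ⟩ := exists_adj (M₁ := M₁) (M₂ := M₂) lam
  set V := vertexVIter p M₁ M₂ n lam with hV
  set Q := vertexQ p lam with hQ
  set U := vertexVIter p M₁ M₂ (n - 1) μ with hU
  have hUV : U ≤ V := vertexVIter_mono_adj h.1 hμ (by omega)
  have hQlam : Q ≤ stabilizer X lam := Subgroup.map_subtype_le _
  have hQE : Q ≤ edgeStabilizer lam μ :=
    le_inf hQlam ((vertexQ_le_neighbourKernel h.1 lam).trans (neighbourKernel_le hμ))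
  have hUμ : stabilizer X μ ≤ Subgroup.normalizer (U : Set X) := le_normalizer_vertexVIter h.1 _ μ
  have hVn : stabilizer X lam ≤ Subgroup.normalizer (V : Set X) := le_normalizer_vertexVIter h.1 _ lam
  have hQn : stabilizer X lam ≤ Subgroup.normalizer (Q : Set X) := by
    have key : ∀ g ∈ stabilizer X lam, Q.map (MulAut.conj g).toMonoidHom ≤ Q := by
      rintro g hg _ ⟨_, ⟨x, hx, rfl⟩, rfl⟩
      exact ⟨⟨g, hg⟩ * x * ⟨g, hg⟩⁻¹, (inferInstance : (pCore p (stabilizer X lam)).Normal).conj_mem x hx _, rfl⟩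
    exact fun g hg => mem_normalizer_of_map_le (key g hg) (key g⁻¹ (inv_mem hg))
  have hCV : ⁅V, Q⁆ ≤ V := Subgroup.le_normalizer_iff_commutator_le_right.1 (hQlam.trans hVn) |> fun h => Subgroup.commutator_comm V Q ▸ h
  set W := U ⊔ ⁅V, Q⁆ with hW
  have hCn : stabilizer X lam ≤ Subgroup.normalizer (⁅V, Q⁆ : Subgroup X) := by
    have key : ∀ g ∈ stabilizer X lam, (⁅V, Q⁆).map (MulAut.conj g).toMonoidHom ≤ ⁅V, Q⁆ := by
      intro g hg
      rw [Subgroup.map_commutator]
      refine Subgroup.commutator_mono ?_ ?_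
      · rintro _ ⟨x, hx, rfl⟩; exact (Subgroup.mem_normalizer_iff.1 (hVn hg) x).1 hx
      · rintro _ ⟨x, hx, rfl⟩; exact (Subgroup.mem_normalizer_iff.1 (hQn hg) x).1 hx
    exact fun g hg => mem_normalizer_of_map_le (key g hg) (key g⁻¹ (inv_mem hg))
  have hWE : edgeStabilizer lam μ ≤ Subgroup.normalizer (W : Set X) := by
    have key : ∀ g ∈ edgeStabilizer lam μ, W.map (MulAut.conj g).toMonoidHom ≤ W := by
      intro g hg
      rw [hW, Subgroup.map_sup]
      refine sup_le_sup ?_ ?_ <;> rintro _ ⟨x, hx, rfl⟩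
      · exact (Subgroup.mem_normalizer_iff.1 (hUμ hg.2) x).1 hx
      · exact (Subgroup.mem_normalizer_iff.1 (hCn hg.1) x).1 hx
    exact fun g hg => mem_normalizer_of_map_le (key g hg) (key g⁻¹ (inv_mem hg))
  have hWV : W ≤ V := sup_le hUV hCV
  have hWlam : stabilizer X lam ≤ Subgroup.normalizer (W : Set X) := le_normalizer_of_residual h hμ hWE
    (fun o ho u hu => Subgroup.mem_sup_right (hle (Subgroup.commutator_mem_commutator (hWV hu) ho)))
  have hconj : ∀ g ∈ stabilizer X lam, ∀ x ∈ W, g * x * g⁻¹ ∈ W := fun g hg x hx =>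
    (Subgroup.mem_normalizer_iff.1 (hWlam hg) x).1 hx
  have hVW : V ≤ W := by
    refine iSup_le fun ν => ?_
    by_cases hν : ν.1 = lam
    · rw [hν]
      refine iSup_le fun S => ?_
      obtain ⟨P, P', hPP'⟩ := exists_common_sylow h.1 hμ
      obtain ⟨c, hc⟩ := MulAction.exists_smul_eq (stabilizer X lam) P S
      have hP : omegaCentre p P ≤ W := by
        rw [omegaCentre, hPP']
        exact (omegaCentre_le (stabilizer X μ) P').trans ((vertexZ_le_vertexVIter μ (n - 1)).trans le_sup_left)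
      have hS : ((S : Subgroup (stabilizer X lam)).map (stabilizer X lam).subtype) =
          ((P : Subgroup (stabilizer X lam)).map (stabilizer X lam).subtype).map (MulAut.conj (c : X)).toMonoidHom := by
        rw [← hc, Subgroup.map_map]
        show ((P : Subgroup (stabilizer X lam)).map (MulAut.conj c).toMonoidHom).map (stabilizer X lam).subtype = _
        rw [Subgroup.map_map]
        rfl
      show omegaCentre p S ≤ W
      refine le_trans ?_ (show (omegaCentre p P).map (MulAut.conj (c : X)).toMonoidHom ≤ W from ?_)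
      · rw [CfsgLib.Thompson.map_omegaOne _ (MulAut.conj (c : X)).injective]
        refine CfsgLib.Thompson.omegaOne_mono ?_
        intro z hz
        rw [hS] at hz
        obtain ⟨⟨w, hw, rfl⟩, hz2⟩ := hz
        refine Subgroup.mem_map_of_mem _ ⟨hw, Subgroup.mem_centralizer_iff.2 fun v hv => ?_⟩
        refine (MulAut.conj (c : X)).injective ?_
        rw [map_mul, map_mul]
        exact Subgroup.mem_centralizer_iff.1 hz2 _ (Subgroup.mem_map_of_mem _ hv)
      · rintro _ ⟨x, hx, rfl⟩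
        exact hconj c c.2 x (hP hx)
    · obtain ⟨β, hβ, hlt⟩ := exists_adj_closer (connected h.1.1.1) (Ne.symm hν)
      obtain ⟨g, hg, rfl⟩ := transitive_neighbours hμ hβ
      have hd : (cosetGraph M₁ M₂).dist μ (g⁻¹ • ν.1) ≤ n - 1 := by
        have := dist_smul_le h.1.1.1 g⁻¹ (g • μ) ν.1
        rw [inv_smul_smul] at this
        have := ν.2
        omega
      have hle' : vertexZ p (g⁻¹ • ν.1) ≤ U := le_iSup_of_le ⟨g⁻¹ • ν.1, hd⟩ le_rfl
      intro z hz
      have h1 := hle' (map_vertexZ_le h.1 g⁻¹ ν.1 (Subgroup.mem_map_of_mem _ hz))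
      have h2 := hconj g hg _ (Subgroup.mem_sup_left h1)
      simpa [mul_assoc] using h2
  have hQp : IsPGroup p Q := (CfsgLib.Solvable.isPGroup_pCore (G := stabilizer X lam) (p := p)).map _
  haveI : Finite Q := Finite.of_injective _ (Subgroup.inclusion_injective hQlam)
  have hVU : V ≤ U := le_of_le_sup_commutator hQp (hUV.trans hVQ) hVQ (hQE.trans (inf_le_right.trans hUμ)) hVW
  have hUlam : stabilizer X lam ≤ Subgroup.normalizer (U : Set X) := by
    rw [le_antisymm hUV hVU]; exact hVn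
  have := eq_bot_of_normalized h.1.1 hμ ((hUV.trans hVQ).trans hQE) hUlam hUμ
  exact vertexZ_ne_bot h.1 μ (le_bot_iff.1 ((vertexZ_le_vertexVIter μ (n - 1)).trans this.le))

end CfsgLib.Amalgam
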