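import Cfsg.Prelude.Def_Amalgam
import Cfsg.Agent.Solvable.Fitting
import Cfsg.Agent.PLocal.PConstrained
import Cfsg.Agent.PLocal.Thompson

/-!
Coset graph of a pair of subgroups: adjacency, stabilizers, connectedness, the subgroups attached
to the vertices of an amalgam pair of characteristic `p`.
-/

set_option autoImplicit false

namespace CfsgLib.Amalgam

open Cfsg MulAction

variable {X : Type*} [Group X] {M₁ M₂ : Subgroup X}

theorem adj_iff {a b : CosetVertex M₁ M₂} : (cosetGraph M₁ M₂).Adj a b ↔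
    ∃ x : X, (a = Sum.inl (x : X ⧸ M₁) ∧ b = Sum.inr (x : X ⧸ M₂)) ∨
      (b = Sum.inl (x : X ⧸ M₁) ∧ a = Sum.inr (x : X ⧸ M₂)) := by
  constructor
  · rintro ⟨-, ⟨x, h⟩ | ⟨x, h⟩⟩
    exacts [⟨x, Or.inl h⟩, ⟨x, Or.inr h⟩]
  · rintro ⟨x, ⟨rfl, rfl⟩ | ⟨rfl, rfl⟩⟩
    · exact ⟨by simp, Or.inl ⟨x, rfl, rfl⟩⟩
    · exact ⟨by simp, Or.inr ⟨x, rfl, rfl⟩⟩

theorem adj_inl_inr (x : X) :
    (cosetGraph M₁ M₂).Adj (Sum.inl (x : X ⧸ M₁)) (Sum.inr (x : X ⧸ M₂)) :=
  adj_iff.2 ⟨x, Or.inl ⟨rfl, rfl⟩⟩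

theorem adj_smul (g : X) {a b : CosetVertex M₁ M₂} (h : (cosetGraph M₁ M₂).Adj a b) :
    (cosetGraph M₁ M₂).Adj (g • a) (g • b) := by
  obtain ⟨x, ⟨rfl, rfl⟩ | ⟨rfl, rfl⟩⟩ := adj_iff.1 h
  · exact adj_inl_inr (g * x)
  · exact (adj_inl_inr (g * x)).symm

theorem exists_adj (a : CosetVertex M₁ M₂) : ∃ b, (cosetGraph M₁ M₂).Adj a b := by
  rcases a with a | a <;> obtain ⟨x, rfl⟩ := QuotientGroup.mk_surjective a
  exacts [⟨_, adj_inl_inr x⟩, ⟨_, (adj_inl_inr x).symm⟩]

theorem reachable_smul (g : X) {a b : CosetVertex M₁ M₂} (h : (cosetGraph M₁ M₂).Reachable a b) :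
    (cosetGraph M₁ M₂).Reachable (g • a) (g • b) :=
  h.map ⟨fun a => g • a, fun h => adj_smul g h⟩

theorem connected (hgen : M₁ ⊔ M₂ = ⊤) : (cosetGraph M₁ M₂).Connected := by
  have hall : ∀ g : X, (cosetGraph M₁ M₂).Reachable (Sum.inl ((1 : X) : X ⧸ M₁))
      (Sum.inl (g : X ⧸ M₁)) := by
    intro g
    let S : Subgroup X :=
      { carrier := {g | (cosetGraph M₁ M₂).Reachable (Sum.inl ((1 : X) : X ⧸ M₁))
            (Sum.inl (g : X ⧸ M₁))}
        one_mem' := SimpleGraph.Reachable.refl _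
        mul_mem' := fun {a b} ha hb => ha.trans (by
          have := reachable_smul a hb
          simpa [Sum.smul_inl, MulAction.Quotient.smul_coe] using this)
        inv_mem' := fun {a} ha => by
          have := (reachable_smul a⁻¹ ha).symm
          simpa [Sum.smul_inl, MulAction.Quotient.smul_coe] using this }
    have hS : M₁ ⊔ M₂ ≤ S := by
      refine sup_le (fun m hm => ?_) (fun m hm => ?_)
      · show (cosetGraph M₁ M₂).Reachable _ _
        rw [show (m : X ⧸ M₁) = ((1 : X) : X ⧸ M₁) from QuotientGroup.eq.2 (by simpa using hm)]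
      · show (cosetGraph M₁ M₂).Reachable _ _
        refine (adj_inl_inr 1).reachable.trans ?_
        rw [show ((1 : X) : X ⧸ M₂) = (m : X ⧸ M₂) from QuotientGroup.eq.2 (by simpa using hm)]
        exact (adj_inl_inr m).symm.reachable
    exact hS (hgen ▸ Subgroup.mem_top g)
  have key : ∀ a, (cosetGraph M₁ M₂).Reachable (Sum.inl ((1 : X) : X ⧸ M₁)) a := by
    rintro (a | a) <;> obtain ⟨x, rfl⟩ := QuotientGroup.mk_surjective a
    · exact hall x
    · exact (hall x).trans (adj_inl_inr x).reachable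
  haveI : Nonempty (CosetVertex M₁ M₂) := ⟨Sum.inl ((1 : X) : X ⧸ M₁)⟩
  exact ⟨fun a b => (key a).symm.trans (key b)⟩

theorem mem_stabilizer_inl {x g : X} :
    g ∈ stabilizer X (Sum.inl (x : X ⧸ M₁) : CosetVertex M₁ M₂) ↔ x⁻¹ * g * x ∈ M₁ := by
  rw [mem_stabilizer_iff, Sum.smul_inl, Quotient.smul_coe, Sum.inl.injEq, smul_eq_mul,
    eq_comm, QuotientGroup.eq, mul_assoc]

theorem mem_stabilizer_inr {x g : X} :
    g ∈ stabilizer X (Sum.inr (x : X ⧸ M₂) : CosetVertex M₁ M₂) ↔ x⁻¹ * g * x ∈ M₂ := by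
  rw [mem_stabilizer_iff, Sum.smul_inr, Quotient.smul_coe, Sum.inr.injEq, smul_eq_mul,
    eq_comm, QuotientGroup.eq, mul_assoc]

theorem mem_map_conj {H : Subgroup X} {x g : X} :
    g ∈ H.map (MulAut.conj x).toMonoidHom ↔ x⁻¹ * g * x ∈ H := by
  constructor
  · rintro ⟨h, hh, rfl⟩
    simpa [mul_assoc] using hh
  · exact fun h => ⟨_, h, by simp [mul_assoc]⟩

theorem stabilizer_inl (x : X) : stabilizer X (Sum.inl (x : X ⧸ M₁) : CosetVertex M₁ M₂) =
    M₁.map (MulAut.conj x).toMonoidHom := by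
  ext g; rw [mem_stabilizer_inl, mem_map_conj]

theorem stabilizer_inr (x : X) : stabilizer X (Sum.inr (x : X ⧸ M₂) : CosetVertex M₁ M₂) =
    M₂.map (MulAut.conj x).toMonoidHom := by
  ext g; rw [mem_stabilizer_inr, mem_map_conj]

theorem transitive_neighbours {δ μ μ' : CosetVertex M₁ M₂} (hμ : (cosetGraph M₁ M₂).Adj δ μ)
    (hμ' : (cosetGraph M₁ M₂).Adj δ μ') : ∃ g ∈ stabilizer X δ, g • μ = μ' := by
  obtain ⟨y, ⟨h1, h2⟩ | ⟨h2, h1⟩⟩ := adj_iff.1 hμ <;>
    obtain ⟨y', ⟨h1', h2'⟩ | ⟨h2', h1'⟩⟩ := adj_iff.1 hμ'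
  · rw [h1] at h1'
    rw [Sum.inl.injEq, QuotientGroup.eq] at h1'
    refine ⟨y' * y⁻¹, ?_, ?_⟩
    · rw [h1, mem_stabilizer_inl]
      simpa [mul_assoc] using h1'
    · rw [h2, h2', Sum.smul_inr, Quotient.smul_coe, smul_eq_mul, inv_mul_cancel_right]
  · rw [h1] at h1'; simp at h1'
  · rw [h1] at h1'; simp at h1'
  · rw [h1] at h1'
    rw [Sum.inr.injEq, QuotientGroup.eq] at h1'
    refine ⟨y' * y⁻¹, ?_, ?_⟩
    · rw [h1, mem_stabilizer_inr]
      simpa [mul_assoc] using h1'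
    · rw [h2, h2', Sum.smul_inl, Quotient.smul_coe, smul_eq_mul, inv_mul_cancel_right]

theorem mem_neighbourKernel {δ : CosetVertex M₁ M₂} {g : X} :
    g ∈ neighbourKernel δ ↔ g • δ = δ ∧ ∀ μ, (cosetGraph M₁ M₂).Adj δ μ → g • μ = μ := by
  simp [neighbourKernel, Subgroup.mem_iInf]

theorem neighbourKernel_le {δ μ : CosetVertex M₁ M₂} (h : (cosetGraph M₁ M₂).Adj δ μ) :
    neighbourKernel δ ≤ stabilizer X μ := fun _ hg => (mem_neighbourKernel.1 hg).2 μ h

theorem fixes_all_eq_bot (hN : ∀ N : Subgroup X, N ≤ M₁ ⊓ M₂ → N.Normal → N = ⊥) {g : X}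
    (hg : ∀ a : CosetVertex M₁ M₂, g • a = a) : g = 1 := by
  have hk := hN (toPermHom X (CosetVertex M₁ M₂)).ker ?_ inferInstance
  · have : g ∈ (toPermHom X (CosetVertex M₁ M₂)).ker := Equiv.ext hg
    rwa [hk, Subgroup.mem_bot] at this
  · intro k hk
    have h1 : ∀ a : CosetVertex M₁ M₂, k • a = a := fun a => Equiv.ext_iff.1 hk a
    exact ⟨by simpa using mem_stabilizer_inl.1 (h1 (Sum.inl ((1 : X) : X ⧸ M₁))),
      by simpa using mem_stabilizer_inr.1 (h1 (Sum.inr ((1 : X) : X ⧸ M₂)))⟩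

/-- A subgroup of an edge stabilizer whose normalizer is transitive on the neighbours of both
ends is trivial. -/
theorem eq_bot_of_transitive (h : IsAmalgamPair M₁ M₂) {δ μ : CosetVertex M₁ M₂}
    (hμ : (cosetGraph M₁ M₂).Adj δ μ) {T : Subgroup X} (hT : T ≤ edgeStabilizer δ μ)
    (hδ : ∀ ν ν', (cosetGraph M₁ M₂).Adj δ ν → (cosetGraph M₁ M₂).Adj δ ν' →
      ∃ g ∈ Subgroup.normalizer (T : Set X) ⊓ stabilizer X δ, g • ν = ν')
    (hμ' : ∀ ν ν', (cosetGraph M₁ M₂).Adj μ ν → (cosetGraph M₁ M₂).Adj μ ν' →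
      ∃ g ∈ Subgroup.normalizer (T : Set X) ⊓ stabilizer X μ, g • ν = ν') : T = ⊥ := by
  let P : CosetVertex M₁ M₂ → Prop := fun a => T ≤ stabilizer X a ∧
    ∀ ν ν', (cosetGraph M₁ M₂).Adj a ν → (cosetGraph M₁ M₂).Adj a ν' →
      ∃ g ∈ Subgroup.normalizer (T : Set X) ⊓ stabilizer X a, g • ν = ν'
  have hPsmul : ∀ n ∈ Subgroup.normalizer (T : Set X), ∀ a, P a → P (n • a) := by
    intro n hn a ha
    refine ⟨fun t ht => ?_, fun ν ν' hν hν' => ?_⟩
    · have h1 : n⁻¹ * t * n ∈ T := by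
        simpa using (Subgroup.mem_normalizer_iff.1 (inv_mem hn) t).1 ht
      have h2 : (n⁻¹ * t * n) • a = a := ha.1 h1
      rw [mem_stabilizer_iff]
      calc t • n • a = n • (n⁻¹ * t * n) • a := by simp [smul_smul, mul_assoc]
        _ = n • a := by rw [h2]
    · obtain ⟨g, hg, hgν⟩ := ha.2 (n⁻¹ • ν) (n⁻¹ • ν')
        (by simpa using adj_smul n⁻¹ hν) (by simpa using adj_smul n⁻¹ hν')
      have hga : g • a = a := hg.2
      refine ⟨n * g * n⁻¹, Subgroup.mem_inf.2
        ⟨mul_mem (mul_mem hn hg.1) (inv_mem hn), ?_⟩, ?_⟩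
      · rw [mem_stabilizer_iff, ← smul_smul, ← smul_smul, inv_smul_smul, hga]
      · rw [← smul_smul, ← smul_smul, hgν, smul_inv_smul]
  have hPδ : P δ := ⟨hT.trans inf_le_left, hδ⟩
  have hPμ : P μ := ⟨hT.trans inf_le_right, hμ'⟩
  have hall : ∀ a, (cosetGraph M₁ M₂).Reachable δ a →
      P a ∧ ∀ b, (cosetGraph M₁ M₂).Adj a b → P b := by
    intro a ha
    rw [SimpleGraph.reachable_iff_reflTransGen] at ha
    induction ha with
    | refl =>
      refine ⟨hPδ, fun b hb => ?_⟩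
      obtain ⟨g, hg, rfl⟩ := hδ μ b hμ hb
      exact hPsmul g hg.1 μ hPμ
    | @tail a c _ hac ih =>
      have hPc := ih.2 c hac
      refine ⟨hPc, fun b hb => ?_⟩
      obtain ⟨g, hg, rfl⟩ := hPc.2 a b hac.symm hb
      exact hPsmul g hg.1 a ih.1
  rw [eq_bot_iff]
  exact fun t ht => Subgroup.mem_bot.2 (fixes_all_eq_bot h.2.2.2 fun a =>
    (hall a ((connected h.1).preconnected δ a)).1.1 ht)

/-! ### Characteristic `p` -/

variable {p : ℕ} [Fact p.Prime]

theorem finite_stabilizer (h : IsCharPAmalgamPair p M₁ M₂) (δ : CosetVertex M₁ M₂) :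
    Finite (stabilizer X δ) := by
  haveI := h.2.1
  haveI := h.2.2.1
  rcases δ with a | a <;> obtain ⟨x, rfl⟩ := QuotientGroup.mk_surjective a
  · exact Finite.of_equiv _
      ((M₁.equivMapOfInjective _ (MulAut.conj x).injective).toEquiv.trans
        (Equiv.setCongr (congrArg SetLike.coe (stabilizer_inl x).symm)))
  · exact Finite.of_equiv _
      ((M₂.equivMapOfInjective _ (MulAut.conj x).injective).toEquiv.trans
        (Equiv.setCongr (congrArg SetLike.coe (stabilizer_inr x).symm)))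

theorem charP_of_equiv {A B : Type*} [Group A] [Group B] [Finite A] [Finite B] (e : A ≃* B)
    (hc : Subgroup.centralizer (pCore p A : Set A) ≤ pCore p A) :
    Subgroup.centralizer (pCore p B : Set B) ≤ pCore p B := by
  intro b hb
  rw [← CfsgLib.PConstrained.map_pCore_equiv (p := p) e] at hb ⊢
  refine ⟨e.symm b, hc (Subgroup.mem_centralizer_iff.2 fun a ha => e.injective ?_), by simp⟩
  simpa using Subgroup.mem_centralizer_iff.1 hb (e a) (Subgroup.mem_map_of_mem _ ha)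

theorem charP_stabilizer (h : IsCharPAmalgamPair p M₁ M₂) (δ : CosetVertex M₁ M₂) :
    Subgroup.centralizer (pCore p (stabilizer X δ) : Set (stabilizer X δ)) ≤
      pCore p (stabilizer X δ) := by
  haveI := h.2.1
  haveI := h.2.2.1
  haveI := finite_stabilizer h δ
  rcases δ with a | a <;> obtain ⟨x, rfl⟩ := QuotientGroup.mk_surjective a
  · exact charP_of_equiv ((M₁.equivMapOfInjective _ (MulAut.conj x).injective).trans
      (MulEquiv.subgroupCongr (stabilizer_inl x).symm)) h.2.2.2.2.2.2.1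
  · exact charP_of_equiv ((M₂.equivMapOfInjective _ (MulAut.conj x).injective).trans
      (MulEquiv.subgroupCongr (stabilizer_inr x).symm)) h.2.2.2.2.2.2.2

theorem card_stabilizer_inl (x : X) :
    Nat.card (stabilizer X (Sum.inl (x : X ⧸ M₁) : CosetVertex M₁ M₂)) = Nat.card M₁ := by
  rw [stabilizer_inl]; exact Subgroup.card_map_of_injective (MulAut.conj x).injective

theorem card_stabilizer_inr (x : X) :
    Nat.card (stabilizer X (Sum.inr (x : X ⧸ M₂) : CosetVertex M₁ M₂)) = Nat.card M₂ := by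
  rw [stabilizer_inr]; exact Subgroup.card_map_of_injective (MulAut.conj x).injective

/-- A common Sylow `p`-subgroup of the two ends of an edge. -/
theorem exists_common_sylow (h : IsCharPAmalgamPair p M₁ M₂) {δ μ : CosetVertex M₁ M₂}
    (hμ : (cosetGraph M₁ M₂).Adj δ μ) :
    ∃ (P : Sylow p (stabilizer X δ)) (Q : Sylow p (stabilizer X μ)),
      (P : Subgroup (stabilizer X δ)).map (stabilizer X δ).subtype =
        (Q : Subgroup (stabilizer X μ)).map (stabilizer X μ).subtype := by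
  haveI := h.2.1
  haveI := h.2.2.1
  haveI := finite_stabilizer h δ
  haveI := finite_stabilizer h μ
  haveI : Finite ↥(M₁ ⊓ M₂) :=
    Finite.of_injective _ (Subgroup.inclusion_injective (inf_le_left : M₁ ⊓ M₂ ≤ M₁))
  obtain ⟨S⟩ : Nonempty (Sylow p ↥(M₁ ⊓ M₂)) := inferInstance
  obtain ⟨P₁⟩ : Nonempty (Sylow p M₁) := inferInstance
  obtain ⟨P₂⟩ : Nonempty (Sylow p M₂) := inferInstance
  obtain ⟨c1, c2⟩ := h.2.2.2.2.2.1 S P₁ P₂
  obtain ⟨x, hx⟩ := adj_iff.1 hμ
  set T := ((S : Subgroup ↥(M₁ ⊓ M₂)).map (M₁ ⊓ M₂).subtype).map (MulAut.conj x).toMonoidHom with hT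
  have hTc : Nat.card T = Nat.card S := by
    rw [hT, Subgroup.card_map_of_injective (MulAut.conj x).injective,
      Subgroup.card_map_of_injective (Subgroup.subtype_injective _)]
  have hTp : IsPGroup p T := (S.isPGroup'.map _).map _
  have hle : T ≤ (M₁ ⊓ M₂).map (MulAut.conj x).toMonoidHom :=
    Subgroup.map_mono (Subgroup.map_subtype_le _)
  have mk : ∀ {a : CosetVertex M₁ M₂}, T ≤ stabilizer X a → Finite (stabilizer X a) →
      Nat.card T = p ^ (Nat.card (stabilizer X a)).factorization p →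
      ∃ P : Sylow p (stabilizer X a),
        (P : Subgroup (stabilizer X a)).map (stabilizer X a).subtype = T := by
    intro a ha _ hc
    refine ⟨Sylow.ofCard (T.subgroupOf (stabilizer X a)) ?_, ?_⟩
    · rw [Nat.card_congr (Subgroup.subgroupOfEquivOfLe ha).toEquiv, hc]
    · simpa using ha
  have h1 : T ≤ stabilizer X (Sum.inl (x : X ⧸ M₁) : CosetVertex M₁ M₂) :=
    (stabilizer_inl (M₂ := M₂) x).symm ▸ hle.trans (Subgroup.map_mono inf_le_left)
  have h2 : T ≤ stabilizer X (Sum.inr (x : X ⧸ M₂) : CosetVertex M₁ M₂) :=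
    (stabilizer_inr (M₁ := M₁) x).symm ▸ hle.trans (Subgroup.map_mono inf_le_right)
  have e1 : Nat.card T = p ^ (Nat.card (stabilizer X
      (Sum.inl (x : X ⧸ M₁) : CosetVertex M₁ M₂))).factorization p := by
    rw [card_stabilizer_inl, ← P₁.card_eq_multiplicity, hTc, c1]
  have e2 : Nat.card T = p ^ (Nat.card (stabilizer X
      (Sum.inr (x : X ⧸ M₂) : CosetVertex M₁ M₂))).factorization p := by
    rw [card_stabilizer_inr, ← P₂.card_eq_multiplicity, hTc, c2]
  rcases hx with ⟨rfl, rfl⟩ | ⟨rfl, rfl⟩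
  · obtain ⟨P, hP⟩ := mk h1 inferInstance e1
    obtain ⟨Q, hQ⟩ := mk h2 inferInstance e2
    exact ⟨P, Q, hP.trans hQ.symm⟩
  · obtain ⟨P, hP⟩ := mk h2 inferInstance e2
    obtain ⟨Q, hQ⟩ := mk h1 inferInstance e1
    exact ⟨P, Q, hP.trans hQ.symm⟩

theorem vertexQ_le_sylow (h : IsCharPAmalgamPair p M₁ M₂) (δ : CosetVertex M₁ M₂)
    (P : Sylow p (stabilizer X δ)) :
    vertexQ p δ ≤ (P : Subgroup (stabilizer X δ)).map (stabilizer X δ).subtype := by
  haveI := finite_stabilizer h δ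
  exact Subgroup.map_mono (CfsgLib.Fitting.pCore_le_sylow P)

theorem vertexQ_le_neighbourKernel (h : IsCharPAmalgamPair p M₁ M₂) (δ : CosetVertex M₁ M₂) :
    vertexQ p δ ≤ neighbourKernel δ := by
  intro g hg
  refine mem_neighbourKernel.2 ⟨Subgroup.map_subtype_le (pCore p (stabilizer X δ)) hg, fun μ hμ => ?_⟩
  obtain ⟨P, Q, hPQ⟩ := exists_common_sylow h hμ
  exact (hPQ ▸ Subgroup.map_subtype_le (Q : Subgroup (stabilizer X μ)) :
    (P : Subgroup (stabilizer X δ)).map (stabilizer X δ).subtype ≤ stabilizer X μ)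
      (vertexQ_le_sylow h δ P hg)

theorem mem_vertexQ (h : IsCharPAmalgamPair p M₁ M₂) {δ : CosetVertex M₁ M₂} {g : X}
    (hg : g ∈ stabilizer X δ) (hc : g ∈ Subgroup.centralizer (vertexQ p δ : Set X)) :
    g ∈ vertexQ p δ := by
  refine ⟨⟨g, hg⟩, charP_stabilizer h δ (Subgroup.mem_centralizer_iff.2 fun a ha => ?_), rfl⟩
  exact Subtype.ext (Subgroup.mem_centralizer_iff.1 hc (a : X) (Subgroup.mem_map_of_mem _ ha))

/-- `Ω₁` of the centre of a Sylow subgroup, in the ambient group. -/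
abbrev omegaCentre (p : ℕ) {H : Subgroup X} (S : Sylow p H) : Subgroup X :=
  omegaOne p (((S : Subgroup H).map H.subtype) ⊓
    Subgroup.centralizer (((S : Subgroup H).map H.subtype : Subgroup X) : Set X))

theorem omegaCentre_le (H : Subgroup X) (S : Sylow p H) :
    omegaCentre p S ≤ sylowCenterClosure p H := le_iSup (fun S : Sylow p H => omegaCentre p S) S

theorem vertexZ_le_vertexQ (h : IsCharPAmalgamPair p M₁ M₂) (δ : CosetVertex M₁ M₂) :
    vertexZ p δ ≤ vertexQ p δ := by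
  refine iSup_le fun S g hg => ?_
  obtain ⟨h1, h2⟩ := CfsgLib.Thompson.omegaOne_le _ hg
  exact mem_vertexQ h (Subgroup.map_subtype_le (S : Subgroup (stabilizer X δ)) h1)
    (Subgroup.centralizer_le (vertexQ_le_sylow h δ S) h2)

theorem le_normalizer_sylowCenterClosure (H : Subgroup X) :
    H ≤ Subgroup.normalizer (sylowCenterClosure p H : Set X) := by
  have key : ∀ g ∈ H, ∀ z ∈ sylowCenterClosure p H, g * z * g⁻¹ ∈ sylowCenterClosure p H := by
    intro g hg z hz
    have hle : (sylowCenterClosure p H).map (MulAut.conj g).toMonoidHom ≤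
        sylowCenterClosure p H := by
      rw [sylowCenterClosure, Subgroup.map_iSup]
      refine iSup_le fun S => le_trans ?_ (le_iSup (fun S : Sylow p H => omegaCentre p S)
        ((⟨g, hg⟩ : H) • S))
      rw [CfsgLib.Thompson.map_omegaOne _ (MulAut.conj g).injective]
      refine CfsgLib.Thompson.omegaOne_mono ?_
      have hS : ((((⟨g, hg⟩ : H) • S : Sylow p H) : Subgroup H).map H.subtype) =
          ((S : Subgroup H).map H.subtype).map (MulAut.conj g).toMonoidHom := by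
        rw [Subgroup.map_map]
        show ((S : Subgroup H).map (MulAut.conj (⟨g, hg⟩ : H)).toMonoidHom).map H.subtype = _
        rw [Subgroup.map_map]
        rfl
      rintro _ ⟨w, ⟨hw1, hw2⟩, rfl⟩
      rw [hS]
      refine ⟨Subgroup.mem_map_of_mem _ hw1, Subgroup.mem_centralizer_iff.2 ?_⟩
      rintro _ ⟨v, hv, rfl⟩
      rw [← map_mul, ← map_mul, Subgroup.mem_centralizer_iff.1 hw2 v hv]
    exact hle (Subgroup.mem_map_of_mem _ hz)
  intro g hg
  rw [Subgroup.mem_normalizer_iff]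
  refine fun z => ⟨key g hg z, fun hz => ?_⟩
  simpa [mul_assoc] using key g⁻¹ (inv_mem hg) _ hz

theorem criticalDistance_le {δ μ : CosetVertex M₁ M₂} (hn : ¬ vertexZ p δ ≤ neighbourKernel μ) :
    criticalDistance p M₁ M₂ ≤ (cosetGraph M₁ M₂).dist δ μ := Nat.sInf_le ⟨δ, μ, rfl, hn⟩

theorem exists_adj_closer {α α' : CosetVertex M₁ M₂} (hconn : (cosetGraph M₁ M₂).Connected)
    (hne : α ≠ α') :
    ∃ β, (cosetGraph M₁ M₂).Adj α β ∧
      (cosetGraph M₁ M₂).dist β α' < (cosetGraph M₁ M₂).dist α α' := by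
  obtain ⟨w, hw⟩ := hconn.exists_walk_length_eq_dist α α'
  cases w with
  | nil => exact absurd rfl hne
  | @cons _ β _ hadj w' =>
    refine ⟨β, hadj, ?_⟩
    have h1 := SimpleGraph.dist_le w'
    rw [SimpleGraph.Walk.length_cons] at hw
    omega

theorem critical_ne (h : IsCharPAmalgamPair p M₁ M₂) {α α' : CosetVertex M₁ M₂}
    (hc : IsCriticalPair p α α') : α ≠ α' := fun e =>
  hc.1 (e ▸ (vertexZ_le_vertexQ h α).trans (vertexQ_le_neighbourKernel h α))

/-- `Z_δ` lies in the stabilizer of a vertex at distance at most the critical distance. -/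
theorem vertexZ_le_stabilizer (h : IsCharPAmalgamPair p M₁ M₂) {δ μ : CosetVertex M₁ M₂}
    (hd : (cosetGraph M₁ M₂).dist δ μ ≤ criticalDistance p M₁ M₂) :
    vertexZ p δ ≤ stabilizer X μ := by
  by_cases hne : μ = δ
  · subst hne
    exact (vertexZ_le_vertexQ h μ).trans (Subgroup.map_subtype_le _)
  obtain ⟨ν, hadj, hlt⟩ := exists_adj_closer (connected h.1.1) hne
  rw [SimpleGraph.dist_comm, SimpleGraph.dist_comm (u := μ)] at hlt
  by_contra hcon
  have h1 : ¬ vertexZ p δ ≤ neighbourKernel ν := fun hle =>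
    hcon (hle.trans (neighbourKernel_le hadj.symm))
  have := criticalDistance_le h1
  omega

end CfsgLib.Amalgam
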