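import Cfsg.Agent.Amalgam.SThreeBasic

/-!
Trivalent graphs with a group action in which the centre of an edge stabilizer is central in the
stabilizer of one of the two ends: basic facts.
-/

set_option autoImplicit false
set_option linter.unusedSectionVars false
set_option linter.unusedVariables false

namespace CfsgLib.SThreeAmalgam

open scoped commutatorElement
open Subgroup

variable {G V : Type*} [Group G] [MulAction G V]

variable (G V) in
/-- Exactly one end of each edge is a `Cen`-vertex: its stabilizer centralizes `Ω₁(Z(T))`. -/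
structure Mix where
  /-- adjacency -/
  R : V → V → Prop
  /-- the central vertices -/
  Cen : V → Prop
  symm : ∀ a b, R a b → R b a
  ne : ∀ a b, R a b → a ≠ b
  smul : ∀ (g : G) a b, R a b → R (g • a) (g • b)
  third : ∀ a b, R a b → ∃ c d, R a c ∧ R a d ∧ c ≠ b ∧ d ≠ b ∧ c ≠ d ∧
    ∀ e, R a e → e = b ∨ e = c ∨ e = d
  swap : ∀ a b, R a b → ∃ t : G, t • a = a ∧ t • b = b ∧ t ∉ kern R a
  cent : ∀ a (x : G), x • a = a → (∀ q ∈ kern (G := G) R a, q * x = x * q) → x ∈ kern R a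
  conn : ∀ a b, ∃ n, Within R n a b
  faithful : ∀ g : G, (∀ a : V, g • a = a) → g = 1
  exists_adj : ∀ a, ∃ b, R a b
  cen_adj : ∀ a b, R a b → (Cen a ↔ ¬ Cen b)
  cen_smul : ∀ (g : G) a, Cen a → Cen (g • a)
  central : ∀ c b (x : G), Cen c → R c b → IsX c b x → ∀ g : G, g • c = c → g * x = x * g
  nontriv : ∀ a b, R a b → ∃ x : G, x ≠ 1 ∧ IsX a b x
  two : ∀ a b, R a b → ∀ g : G, g • a = a → g • b = b → ∃ k : ℕ, g ^ 2 ^ k = 1

namespace Mix

variable (D : Mix G V) {a b c d e f p q : V}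

theorem adj_image {g : G} (hg : g • a = a) (hb : D.R a b) : D.R a (g • b) := by
  have := D.smul g a b hb; rwa [hg] at this

theorem third_unique (ha : D.R a b) (hc : D.R a c) (hp : D.R a p) (hq : D.R a q) (hcb : c ≠ b)
    (hpb : p ≠ b) (hpc : p ≠ c) (hqb : q ≠ b) (hqc : q ≠ c) : p = q := by
  obtain ⟨c', d', -, -, -, -, -, h⟩ := D.third a b ha
  rcases h c hc with rfl | rfl | rfl <;> rcases h p hp with rfl | rfl | rfl <;>
    rcases h q hq with rfl | rfl | rfl <;> first | rfl | contradiction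

theorem exists_third (hb : D.R a b) (hc : D.R a c) (hbc : b ≠ c) :
    ∃ d, D.R a d ∧ d ≠ b ∧ d ≠ c := by
  obtain ⟨c', d', h1, h2, h3, h4, h5, -⟩ := D.third a b hb
  by_cases h : c' = c
  · exact ⟨d', h2, h4, fun e => h5 (h.trans e.symm)⟩
  · exact ⟨c', h1, h3, h⟩

theorem moves {t : G} (hta : t • a = a) (htb : t • b = b) (hb : D.R a b) (ht : t ∉ kern D.R a)
    (hc : D.R a c) (hcb : c ≠ b) : t • c ≠ c := by
  intro htc
  obtain ⟨d, hd, hdb, hdc⟩ := D.exists_third hb hc hcb.symm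
  refine ht ⟨hta, fun e he => ?_⟩
  have htd : t • d = d := D.third_unique hb hc (D.adj_image hta hd) hd hcb
    (fun h => hdb (smul_left_cancel t (h.trans htb.symm)))
    (fun h => hdc (smul_left_cancel t (h.trans htc.symm))) hdb hdc
  by_cases heb : e = b
  · rw [heb, htb]
  by_cases hec : e = c
  · rw [hec, htc]
  rw [D.third_unique hb hc he hd hcb heb hec hdb hdc, htd]

theorem swaps {t : G} (hta : t • a = a) (htb : t • b = b) (hb : D.R a b) (ht : t ∉ kern D.R a)
    (hc : D.R a c) (hd : D.R a d) (hcb : c ≠ b) (hdb : d ≠ b) (hdc : d ≠ c) : t • c = d :=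
  D.third_unique hb hc (D.adj_image hta hc) hd hcb
    (fun h => hcb (smul_left_cancel t (h.trans htb.symm))) (D.moves hta htb hb ht hc hcb) hdb hdc

theorem mul_mem_Q {s t : G} (hb : D.R a b) (hsa : s • a = a) (hsb : s • b = b)
    (hta : t • a = a) (htb : t • b = b) (hs : s ∉ kern D.R a) (ht : t ∉ kern D.R a) :
    s * t ∈ kern D.R a := by
  refine ⟨by rw [mul_smul, hta, hsa], fun e he => ?_⟩
  rw [mul_smul]
  by_cases heb : e = b
  · rw [heb, htb, hsb]
  · obtain ⟨d, hd, hdb, hde⟩ := D.exists_third hb he (Ne.symm heb)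
    rw [D.swaps hta htb hb ht he hd heb hdb hde, D.swaps hsa hsb hb hs hd he hdb heb hde.symm]

theorem inv_mul_mem_Q {s t : G} (hb : D.R a b) (hsa : s • a = a) (hsb : s • b = b)
    (hta : t • a = a) (htb : t • b = b) (hs : s ∉ kern D.R a) (ht : t ∉ kern D.R a) :
    s⁻¹ * t ∈ kern D.R a :=
  D.mul_mem_Q hb (inv_smul_eq_iff.2 hsa.symm) (inv_smul_eq_iff.2 hsb.symm) hta htb
    (fun h => hs (inv_mem_iff.1 h)) ht

theorem trans (hb : D.R a b) (hc : D.R a c) : ∃ g : G, g • a = a ∧ g • b = c := by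
  by_cases h : b = c
  · exact ⟨1, one_smul _ _, by rw [one_smul, h]⟩
  obtain ⟨d, hd, hdb, hdc⟩ := D.exists_third hb hc h
  obtain ⟨t, hta, htd, ht⟩ := D.swap a d hd
  exact ⟨t, hta, D.swaps hta htd hd ht hb hc hdb.symm hdc.symm (Ne.symm h)⟩

theorem gen (hb : D.R a b) {g : G} (hga : g • a = a) (hgb : g • b ≠ b) {H : Subgroup G}
    (hT : ∀ t : G, t • a = a → t • b = b → t ∈ H) (hg : g ∈ H) {x : G} (hx : x • a = a) :
    x ∈ H := by
  have key : ∀ h : G, h ∈ H → h • a = a → h • b = x • b → x ∈ H := fun h hh hha e => by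
    have := hT (h⁻¹ * x) (by rw [mul_smul, hx, inv_smul_eq_iff, hha])
      (by rw [mul_smul, ← e, inv_smul_smul])
    simpa using mul_mem hh this
  by_cases h1 : x • b = b
  · exact hT x hx h1
  by_cases h2 : g • b = x • b
  · exact key g hg hga h2
  obtain ⟨t, hta, htb, ht⟩ := D.swap a b hb
  refine key (t * g) (mul_mem (hT t hta htb) hg) (by rw [mul_smul, hga, hta]) ?_
  rw [mul_smul]
  exact D.swaps hta htb hb ht (D.adj_image hga hb) (D.adj_image hx hb) hgb h1 (Ne.symm h2)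

/-- A subgroup of an edge stabilizer normalized by both end stabilizers is trivial. -/
theorem eq_bot {N : Subgroup G} (hb : D.R a b) (hN : ∀ n ∈ N, n • a = a ∧ n • b = b)
    (ha : ∀ g : G, g • a = a → ∀ n ∈ N, g * n * g⁻¹ ∈ N)
    (hb' : ∀ g : G, g • b = b → ∀ n ∈ N, g * n * g⁻¹ ∈ N) : N = ⊥ := by
  let P : V → Prop := fun v => (∀ n ∈ N, n • v = v) ∧
    ∀ g : G, g • v = v → ∀ n ∈ N, g * n * g⁻¹ ∈ N
  have move : ∀ {v w : V}, P w → ∀ g : G, (∀ n ∈ N, g * n * g⁻¹ ∈ N) →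
      (∀ n ∈ N, g⁻¹ * n * g ∈ N) → g • w = v → P v := by
    intro v w hw g hg hg' e
    subst e
    refine ⟨fun n hn => ?_, fun k hk n hn => ?_⟩
    · have := hw.1 _ (hg' n hn)
      rw [mul_smul, mul_smul, inv_smul_eq_iff] at this
      exact this
    · have h1 : (g⁻¹ * k * g) • w = w := by rw [mul_smul, mul_smul, hk, inv_smul_smul]
      have h2 := hg _ (hw.2 _ h1 _ (hg' n hn))
      convert h2 using 1
      group
  have step : ∀ {v w : V}, P v → P w → D.R v w → ∀ x, D.R v x → P x := by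
    intro v w hv hw hvw x hx
    obtain ⟨g, hgv, hgw⟩ := D.trans hvw hx
    exact move hw g (hv.2 g hgv)
      (fun n hn => by simpa using hv.2 g⁻¹ (inv_smul_eq_iff.2 hgv.symm) n hn) hgw
  have hPa : P a := ⟨fun n hn => (hN n hn).1, ha⟩
  have hPb : P b := ⟨fun n hn => (hN n hn).2, hb'⟩
  have all : ∀ {v : V} {m : ℕ}, Within D.R m v a → P v ∧ ∀ x, D.R v x → P x := by
    intro v m h
    generalize hA : a = a' at h
    induction h with
    | refl v m => subst hA; exact ⟨hPa, step hPa hPb hb⟩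
    | @step v w c m hvw _ ih =>
      obtain ⟨hw, hwn⟩ := ih hA
      have hv := hwn v (D.symm _ _ hvw)
      exact ⟨hv, step hv hw hvw⟩
  refine (Subgroup.eq_bot_iff_forall _).2 fun n hn => D.faithful n fun v => ?_
  obtain ⟨m, hm⟩ := D.conn v a
  exact (all hm).1.1 n hn

theorem eq_one {r : G} (hb : D.R a b) (hra : r • a = a) (hrb : r • b = b)
    (ha : ∀ g : G, g • a = a → g * r = r * g) (hb' : ∀ g : G, g • b = b → g * r = r * g) :
    r = 1 := by
  have h : zpowers r = ⊥ := by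
    refine D.eq_bot hb ?_ ?_ ?_
    · intro n hn
      exact ⟨(zpowers_le.2 (show r ∈ MulAction.stabilizer G a from hra)) hn,
        (zpowers_le.2 (show r ∈ MulAction.stabilizer G b from hrb)) hn⟩
    all_goals
      rintro g hg _ ⟨i, rfl⟩
      refine ⟨i, ?_⟩
      have hc : Commute g r := by first | exact ha g hg | exact hb' g hg
      show r ^ i = g * r ^ i * g⁻¹
      rw [(hc.zpow_right i).eq, mul_inv_cancel_right]
  exact zpowers_eq_bot.1 h

theorem conj_kern {g x : G} (hx : x ∈ kern D.R a) : g * x * g⁻¹ ∈ kern D.R (g • a) := by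
  refine ⟨by rw [mul_smul, mul_smul, inv_smul_smul, hx.1], fun e he => ?_⟩
  have h : D.R a (g⁻¹ • e) := by simpa using D.smul g⁻¹ _ _ he
  rw [mul_smul, mul_smul, hx.2 _ h, smul_inv_smul]

theorem conj_kern_self {g x : G} (hg : g • a = a) (hx : x ∈ kern D.R a) :
    g * x * g⁻¹ ∈ kern D.R a := by simpa [hg] using D.conj_kern (g := g) hx

theorem conj_isX {g x : G} (hx : IsX a b x) : IsX (g • a) (g • b) (g * x * g⁻¹) := by
  obtain ⟨h1, h2, h3, h4⟩ := hx
  refine ⟨by simp [mul_smul, h1], by simp [mul_smul, h2], ?_, fun t hta htb => ?_⟩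
  · rw [show g * x * g⁻¹ * (g * x * g⁻¹) = g * (x * x) * g⁻¹ by group, h3]; group
  · have := h4 (g⁻¹ * t * g) (by rw [mul_smul, mul_smul, hta, inv_smul_smul])
      (by rw [mul_smul, mul_smul, htb, inv_smul_smul])
    calc t * (g * x * g⁻¹) = g * (g⁻¹ * t * g * x) * g⁻¹ := by group
      _ = g * x * g⁻¹ * t := by rw [this]; group

theorem conj_z {g x : G} (hx : x ∈ zOf D.R a) : g * x * g⁻¹ ∈ zOf D.R (g • a) := by
  induction hx using closure_induction with
  | mem x hx =>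
    obtain ⟨b, hb, hx⟩ := hx
    exact subset_closure ⟨g • b, D.smul g a b hb, conj_isX hx⟩
  | one => simp
  | mul x y _ _ hx hy =>
    rw [show g * (x * y) * g⁻¹ = g * x * g⁻¹ * (g * y * g⁻¹) by group]; exact mul_mem hx hy
  | inv x _ hx => rw [show g * x⁻¹ * g⁻¹ = (g * x * g⁻¹)⁻¹ by group]; exact inv_mem hx

theorem conj_z_self {g x : G} (hg : g • a = a) (hx : x ∈ zOf D.R a) :
    g * x * g⁻¹ ∈ zOf D.R a := by simpa [hg] using D.conj_z (g := g) hx

theorem isX_mem_z {x : G} (hb : D.R a b) (hx : IsX a b x) : x ∈ zOf D.R a :=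
  subset_closure ⟨b, hb, hx⟩

theorem isX_comm {x : G} (hx : IsX a b x) : IsX b a x :=
  ⟨hx.2.1, hx.1, hx.2.2.1, fun t h1 h2 => hx.2.2.2 t h2 h1⟩

theorem z_le_Q : zOf (G := G) D.R a ≤ kern D.R a := (closure_le _).2 fun x ⟨b, hb, hx⟩ =>
  D.cent a x hx.1 fun q hq => hx.2.2.2 q hq.1 (hq.2 b hb)

theorem z_comm_Q {z q : G} (hz : z ∈ zOf D.R a) (hq : q ∈ kern D.R a) : q * z = z * q := by
  have h : zOf (G := G) D.R a ≤ centralizer {q} := (closure_le _).2 fun x ⟨b, hb, hx⟩ =>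
    mem_centralizer_singleton_iff.2 (hx.2.2.2 q hq.1 (hq.2 b hb)).symm
  exact (mem_centralizer_singleton_iff.1 (h hz)).symm

theorem z_comm {z w : G} (hz : z ∈ zOf D.R a) (hw : w ∈ zOf D.R a) : w * z = z * w :=
  D.z_comm_Q hz (D.z_le_Q hw)

theorem z_sq {z : G} (hz : z ∈ zOf D.R a) : z * z = 1 := by
  induction hz using closure_induction with
  | mem x hx => obtain ⟨b, hb, hx⟩ := hx; exact hx.2.2.1
  | one => simp
  | mul x y hx hy h1 h2 =>
    rw [mul_assoc x y, ← mul_assoc y x, D.z_comm hx hy, mul_assoc x y y, h2, mul_one, h1]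
  | inv x _ hx => rw [← mul_inv_rev, hx, inv_one]

theorem z_inv {z : G} (hz : z ∈ zOf D.R a) : z⁻¹ = z := inv_eq_of_mul_eq_one_right (D.z_sq hz)


/-- The stabilizer of an edge. -/
abbrev est (a b : V) : Subgroup G := MulAction.stabilizer G a ⊓ MulAction.stabilizer G b

theorem mem_est {g : G} : g ∈ est (G := G) a b ↔ g • a = a ∧ g • b = b := Iff.rfl

theorem est_comm : est (G := G) a b = est b a := inf_comm _ _

theorem kern_le_est (hb : D.R a b) : kern (G := G) D.R a ≤ est a b := fun _ hg => ⟨hg.1, hg.2 b hb⟩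

theorem kern_fix {g : G} (hg : g ∈ kern D.R a) : g • a = a := hg.1

theorem kern_fix' {g : G} (hg : g ∈ kern D.R a) (hb : D.R a b) : g • b = b := hg.2 b hb

/-! ### The two kinds of vertices -/

theorem act_of_cen (hc : D.Cen c) (h : D.R c a) : ¬ D.Cen a := (D.cen_adj c a h).1 hc

theorem act_of_cen' (hc : D.Cen c) (h : D.R a c) : ¬ D.Cen a := D.act_of_cen hc (D.symm _ _ h)

theorem cen_of_act (ha : ¬ D.Cen a) (h : D.R a c) : D.Cen c := by
  by_contra hc; exact ha ((D.cen_adj a c h).2 hc)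

theorem cen_of_act' (ha : ¬ D.Cen a) (h : D.R c a) : D.Cen c := D.cen_of_act ha (D.symm _ _ h)

theorem cen_smul_iff (g : G) : D.Cen (g • a) ↔ D.Cen a :=
  ⟨fun h => by simpa using D.cen_smul g⁻¹ _ h, D.cen_smul g a⟩

theorem act_smul (g : G) (ha : ¬ D.Cen a) : ¬ D.Cen (g • a) := fun h => ha ((D.cen_smul_iff g).1 h)

/-! ### Centres of central vertices -/

theorem isX_cen {x : G} (hc : D.Cen c) (ha : D.R c a) (hb : D.R c b) (hx : IsX c a x) :
    IsX c b x := by
  obtain ⟨g, hg, rfl⟩ := D.trans ha hb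
  have h := D.central c a x hc ha hx g hg
  have := conj_isX (g := g) hx
  rwa [hg, show g * x * g⁻¹ = x by rw [h, mul_inv_cancel_right]] at this

theorem isX_of_mem_z {x : G} (hc : D.Cen c) (hb : D.R c b) (hx : x ∈ zOf D.R c) : IsX c b x := by
  induction hx using closure_induction with
  | mem x hx => obtain ⟨b', hb', hx⟩ := hx; exact D.isX_cen hc hb' hb hx
  | one => exact ⟨one_smul _ _, one_smul _ _, one_mul 1, fun t _ _ => by simp⟩
  | mul x y _ _ hx hy =>
    refine ⟨by rw [mul_smul, hy.1, hx.1], by rw [mul_smul, hy.2.1, hx.2.1], ?_, fun t h1 h2 => ?_⟩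
    · have h := hy.2.2.2 x hx.1 hx.2.1
      rw [show x * y * (x * y) = x * (y * x) * y by group, ← h,
        show x * (x * y) * y = (x * x) * (y * y) by group, hx.2.2.1, hy.2.2.1, one_mul]
    · rw [← mul_assoc, hx.2.2.2 t h1 h2, mul_assoc, hy.2.2.2 t h1 h2, mul_assoc]
  | inv x _ hx =>
    have : x⁻¹ = x := inv_eq_of_mul_eq_one_right hx.2.2.1
    rw [this]; exact hx

theorem cen_comm {x g : G} (hc : D.Cen c) (hx : x ∈ zOf D.R c) (hg : g • c = c) :
    g * x = x * g := by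
  obtain ⟨b, hb⟩ := D.exists_adj c
  exact D.central c b x hc hb (D.isX_of_mem_z hc hb hx) g hg

theorem cen_conj {x g : G} (hc : D.Cen c) (hx : x ∈ zOf D.R c) (hg : g • c = c) :
    g * x * g⁻¹ = x := by rw [D.cen_comm hc hx hg, mul_inv_cancel_right]

theorem cen_z_le (hc : D.Cen c) (ha : D.R a c) : zOf (G := G) D.R c ≤ zOf D.R a := fun _ hx =>
  D.isX_mem_z ha (isX_comm (D.isX_of_mem_z hc (D.symm _ _ ha) hx))

theorem mem_cen_z {x : G} (hc : D.Cen c) (ha : D.R a c) (hx : IsX a c x) : x ∈ zOf D.R c :=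
  D.isX_mem_z (D.symm _ _ ha) (isX_comm hx)

theorem exists_z_ne_one (hc : D.Cen c) : ∃ x ∈ zOf (G := G) D.R c, x ≠ 1 := by
  obtain ⟨b, hb⟩ := D.exists_adj c
  obtain ⟨x, hx1, hx⟩ := D.nontriv c b hb
  exact ⟨x, D.isX_mem_z hb hx, hx1⟩

/-- An element of the stabilizer of an active vertex `a` that centralizes `Z_a` lies in `Q_a`. -/
theorem mem_Q {g : G} (ha : ¬ D.Cen a) (hg : g • a = a) (h : ∀ z ∈ zOf D.R a, g * z = z * g) :
    g ∈ kern D.R a := by
  by_contra hn
  obtain ⟨b, hb, hgb⟩ : ∃ b, D.R a b ∧ g • b ≠ b := by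
    by_contra hcon; push Not at hcon; exact hn ⟨hg, hcon⟩
  obtain ⟨x, hx1, hx⟩ := D.nontriv a b hb
  have hbc := D.cen_of_act ha hb
  refine hx1 (D.eq_one hb hx.1 hx.2.1 (fun k hk => ?_)
    (fun k hk => D.cen_comm hbc (D.mem_cen_z hbc hb hx) hk))
  exact mem_centralizer_singleton_iff.1 (D.gen hb hg hgb (H := centralizer {x})
    (fun t hta htb => mem_centralizer_singleton_iff.2 (hx.2.2.2 t hta htb))
    (mem_centralizer_singleton_iff.2 (h x (D.isX_mem_z hb hx))) hk)

/-- The centres of two central neighbours of a vertex meet trivially. -/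
theorem cen_inf (hc : D.R a c) (he : D.R a e) (hne : e ≠ c) (hcc : D.Cen c) {x : G}
    (h1 : x ∈ zOf D.R c) (h2 : x ∈ zOf D.R e) : x = 1 := by
  have hec : D.Cen e := D.cen_of_act (D.act_of_cen' hcc hc) he
  have hx := isX_comm (D.isX_of_mem_z hcc (D.symm _ _ hc) h1)
  refine D.eq_one hc hx.1 hx.2.1 (fun k hk => ?_) (fun k hk => D.cen_comm hcc h1 hk)
  obtain ⟨t, hta, hte, ht⟩ := D.swap a e he
  exact mem_centralizer_singleton_iff.1 (D.gen hc hta (D.moves hta hte he ht hc hne.symm)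
    (H := centralizer {x})
    (fun s _ hsc => mem_centralizer_singleton_iff.2 (D.cen_comm hcc h1 hsc))
    (mem_centralizer_singleton_iff.2 (D.cen_comm hec h2 hte)) hk)

theorem exists_Q_not_Q (hb : D.R a b) : ∃ s ∈ kern (G := G) D.R b, s ∉ kern D.R a := by
  by_contra hcon
  push Not at hcon
  have heq : kern (G := G) D.R a ≤ kern D.R b := fun q hq => by
    by_contra hqb
    obtain ⟨t, hta, htb, ht⟩ := D.swap a b hb
    refine ht ?_
    have hqb' := hq.2 b hb
    by_cases h : t ∈ kern D.R b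
    · exact hcon t h
    · simpa using mul_mem hq (hcon _ (D.inv_mul_mem_Q (D.symm _ _ hb) hqb' hq.1 htb hta hqb h))
  have hbot : kern (G := G) D.R a = ⊥ := D.eq_bot hb (fun n hn => ⟨hn.1, hn.2 b hb⟩)
    (fun g hg n hn => D.conj_kern_self hg hn)
    (fun g hg n hn => hcon _ (D.conj_kern_self hg (heq hn)))
  obtain ⟨t, hta, htb, ht⟩ := D.swap a b hb
  exact ht (D.cent a t hta fun q hq => by
    rw [hbot, mem_bot] at hq; subst hq; simp)

/-! ### Commutators with `Z_a` -/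

theorem com_eq {z t : G} (hz : z ∈ zOf D.R a) : ⁅z, t⁆ = z * (t * z * t⁻¹) := by
  rw [commutatorElement_def, D.z_inv hz]
  group

theorem com_mem_z {z t : G} (hz : z ∈ zOf D.R a) (ht : t • a = a) : ⁅z, t⁆ ∈ zOf D.R a := by
  rw [D.com_eq hz]
  exact mul_mem hz (D.conj_z_self ht hz)

theorem com_one {z t : G} : ⁅z, t⁆ = 1 ↔ t * z = z * t :=
  ⟨fun h => (commutatorElement_eq_one_iff_mul_comm.1 h).symm,
    fun h => commutatorElement_eq_one_iff_mul_comm.2 h.symm⟩

/-- `Z_a` lies in the stabilizer of each of its edges. -/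
theorem z_le_est (hb : D.R a b) : zOf (G := G) D.R a ≤ est a b := (D.z_le_Q).trans (D.kern_le_est hb)

theorem mem_cen_z_of_comm (ha : ¬ D.Cen a) (hb : D.R a b) {z t : G} (hz : z ∈ zOf D.R a)
    (hta : t • a = a) (htb : t • b = b) (ht : t ∉ kern D.R a) (hc : t * z = z * t) :
    z ∈ zOf D.R b := by
  obtain ⟨h1, h2⟩ := D.z_le_est hb hz
  refine D.mem_cen_z (D.cen_of_act ha hb) hb ⟨h1, h2, D.z_sq hz, fun s hsa hsb => ?_⟩
  by_cases hs : s ∈ kern D.R a
  · exact D.z_comm_Q hz hs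
  have hq := D.inv_mul_mem_Q hb hta htb hsa hsb ht hs
  have : s = t * (t⁻¹ * s) := by group
  rw [this, mul_assoc, D.z_comm_Q hz hq, ← mul_assoc, hc, mul_assoc]

theorem com_mem_cen (ha : ¬ D.Cen a) (hb : D.R a b) {z t : G} (hz : z ∈ zOf D.R a)
    (hta : t • a = a) (htb : t • b = b) : ⁅z, t⁆ ∈ zOf D.R b := by
  by_cases ht : t ∈ kern D.R a
  · rw [com_one.2 (D.z_comm_Q hz ht)]; exact one_mem _
  refine D.mem_cen_z_of_comm ha hb (D.com_mem_z hz hta) hta htb ht ?_
  have h2 := D.z_comm_Q hz (D.mul_mem_Q hb hta htb hta htb ht ht)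
  rw [D.com_eq hz]
  have e : t * t * z * (t * t)⁻¹ = z := by rw [h2, mul_inv_cancel_right]
  calc t * (z * (t * z * t⁻¹)) = t * z * t⁻¹ * (t * t * z * (t * t)⁻¹) * t := by group
    _ = t * z * t⁻¹ * z * t := by rw [e]
    _ = z * (t * z * t⁻¹) * t := by rw [D.z_comm hz (D.conj_z_self hta hz)]

theorem com_eq_one_iff (ha : ¬ D.Cen a) (hb : D.R a b) {z t : G} (hz : z ∈ zOf D.R a)
    (hta : t • a = a) (htb : t • b = b) (ht : t ∉ kern D.R a) :
    ⁅z, t⁆ = 1 ↔ z ∈ zOf D.R b :=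
  ⟨fun h => D.mem_cen_z_of_comm ha hb hz hta htb ht (com_one.1 h),
    fun h => com_one.2 (D.cen_comm (D.cen_of_act ha hb) h htb)⟩

theorem com_mul {z w t : G} (hz : z ∈ zOf D.R a) (hw : w ∈ zOf D.R a) (ht : t • a = a) :
    ⁅z * w, t⁆ = ⁅z, t⁆ * ⁅w, t⁆ := by
  rw [D.com_eq hz, D.com_eq hw, D.com_eq (mul_mem hz hw)]
  calc z * w * (t * (z * w) * t⁻¹) = z * (w * (t * z * t⁻¹)) * (t * w * t⁻¹) := by group
    _ = z * (t * z * t⁻¹ * w) * (t * w * t⁻¹) := by rw [D.z_comm (D.conj_z_self ht hz) hw]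
    _ = z * (t * z * t⁻¹) * (w * (t * w * t⁻¹)) := by group

/-- `Z_a` is generated by the centres of two neighbours. -/
theorem z_le_sup (ha : ¬ D.Cen a) (hc : D.R a c) (he : D.R a e) (hne : e ≠ c) :
    zOf (G := G) D.R a ≤ zOf D.R c ⊔ zOf D.R e := by
  refine (closure_le _).2 fun x ⟨b, hb, hx⟩ => ?_
  have hxb := D.mem_cen_z (D.cen_of_act ha hb) hb hx
  by_cases h1 : b = c
  · subst h1; exact mem_sup_left hxb
  by_cases h2 : b = e
  · subst h2; exact mem_sup_right hxb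
  obtain ⟨t, hta, htc, ht⟩ := D.swap a c hc
  have hz : x ∈ zOf D.R a := D.isX_mem_z hb hx
  have h3 : t * x * t⁻¹ ∈ zOf D.R e := by
    simpa [D.swaps hta htc hc ht hb he h1 hne (Ne.symm h2)] using D.conj_z (g := t) hxb
  have h4 := D.com_mem_cen ha hc hz hta htc
  rw [D.com_eq hz] at h4
  have : x = x * (t * x * t⁻¹) * (t * x * t⁻¹)⁻¹ := by group
  rw [this]
  exact mul_mem_sup h4 (inv_mem h3)

theorem exists_mul (ha : ¬ D.Cen a) (hc : D.R a c) (he : D.R a e) (hne : e ≠ c) {z : G}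
    (hz : z ∈ zOf D.R a) :
    ∃ x ∈ zOf (G := G) D.R c, ∃ y ∈ zOf (G := G) D.R e, z = x * y := by
  have h := D.z_le_sup ha hc he hne hz
  have hcc := D.cen_of_act ha hc
  have hN : zOf (G := G) D.R e ≤ normalizer (zOf (G := G) D.R c : Set G) := fun y hy => by
    have hyc : y • c = c := (D.z_le_est hc (D.cen_z_le (D.cen_of_act ha he) he hy)).2
    exact mem_normalizer_iff.2 fun x => ⟨fun hx => by rwa [D.cen_conj hcc hx hyc],
      fun hx => by
        have := D.cen_conj hcc hx (inv_smul_eq_iff.2 hyc.symm : y⁻¹ • c = c)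
        have h' : x = y * x * y⁻¹ := by
          simpa [mul_assoc] using this
        rwa [h']⟩
  rw [← SetLike.mem_coe, coe_mul_of_right_le_normalizer_left _ _ hN] at h
  obtain ⟨x, hx, y, hy, rfl⟩ := h
  exact ⟨x, hx, y, hy, rfl⟩

/-- Distinct active neighbours of a central vertex have different centres. -/
theorem z_ne (hc : D.Cen c) (ha : D.R c a) (hb : D.R c b) (hab : a ≠ b) :
    zOf (G := G) D.R a ≠ zOf D.R b := by
  intro heq
  have hN : zOf (G := G) D.R a = ⊥ := by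
    refine D.eq_bot (D.symm _ _ ha) (fun n hn => D.z_le_est (D.symm _ _ ha) hn)
      (fun g hg n hn => D.conj_z_self hg hn) (fun g hg => ?_)
    obtain ⟨t, htc, htb, ht⟩ := D.swap c b hb
    have key : ∀ s : G, s • b = b → ∀ n ∈ zOf (G := G) D.R a, s * n * s⁻¹ ∈ zOf D.R a :=
      fun s hs n hn => by rw [heq] at hn ⊢; exact D.conj_z_self hs hn
    have hg' : g ∈ normalizer (zOf (G := G) D.R a : Set G) := by
      refine D.gen ha htc (D.moves htc htb hb ht ha hab) (fun s hsc hsa => ?_) ?_ hg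
      · exact mem_normalizer_iff.2 fun n => ⟨D.conj_z_self hsa, fun hn => by
          simpa [mul_assoc] using D.conj_z_self (g := s⁻¹) (inv_smul_eq_iff.2 hsa.symm) hn⟩
      · exact mem_normalizer_iff.2 fun n => ⟨key t htb n, fun hn => by
          simpa [mul_assoc] using key t⁻¹ (inv_smul_eq_iff.2 htb.symm) _ hn⟩
    exact fun n hn => (mem_normalizer_iff.1 hg' n).1 hn
  obtain ⟨x, hx, hx1⟩ := D.exists_z_ne_one hc
  exact hx1 (mem_bot.1 (hN ▸ D.cen_z_le hc (D.symm _ _ ha) hx))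

/-! ### Subgroups normalized at both ends of an edge -/

/-- A subgroup of an edge stabilizer normalized by the stabilizer of one end and by a mover in the
stabilizer of the other end is trivial. -/
theorem eq_bot_mover {N : Subgroup G} (hb : D.R a b) (hN : N ≤ est a b)
    (hb' : ∀ g : G, g • b = b → ∀ n ∈ N, g * n * g⁻¹ ∈ N) {g : G} (hga : g • a = a)
    (hgb : g • b ≠ b) (hg : g ∈ normalizer (N : Set G)) : N = ⊥ := by
  refine D.eq_bot hb (fun n hn => hN hn) (fun x hx n hn => ?_) hb'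
  refine (mem_normalizer_iff.1 (D.gen hb hga hgb (fun t _ htb => ?_) hg hx) n).1 hn
  exact mem_normalizer_iff.2 fun m => ⟨hb' t htb m, fun hm => by
    simpa [mul_assoc] using hb' t⁻¹ (inv_smul_eq_iff.2 htb.symm) _ hm⟩

/-- A subgroup normalized by a 2-group `T` and avoiding `Ω₁(Z(T))` is trivial. -/
theorem eq_bot_avoid [∀ v, Finite (MulAction.stabilizer G (v : V))] (hc : D.Cen c) (ha : D.R a c)
    {N : Subgroup G} (hN : N ≤ est a c)
    (hn : ∀ t ∈ est (G := G) a c, ∀ n ∈ N, t * n * t⁻¹ ∈ N)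
    (hz : ∀ x ∈ N, x ∈ zOf D.R c → x = 1) : N = ⊥ := by
  haveI : Fact (Nat.Prime 2) := ⟨Nat.prime_two⟩
  haveI : Finite (est (G := G) a c) :=
    Finite.of_injective _ (inclusion_injective (inf_le_left : est (G := G) a c ≤ _))
  have hP : IsPGroup 2 (est (G := G) a c) := fun g => by
    obtain ⟨k, hk⟩ := D.two a c ha g g.2.1 g.2.2
    exact ⟨k, Subtype.ext hk⟩
  haveI : (N.subgroupOf (est (G := G) a c)).Normal :=
    ⟨fun n hn' t => hn t t.2 n hn'⟩
  by_contra hne
  haveI : Nontrivial (N.subgroupOf (est (G := G) a c)) := by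
    rw [nontrivial_iff_ne_bot]
    intro h
    exact hne (le_bot_iff.1 (by simpa [inf_eq_left.2 hN] using
      (subgroupOf_eq_bot.1 h).le_bot))
  obtain ⟨x, hx, hxne⟩ : ∃ x : est (G := G) a c,
      x ∈ N.subgroupOf (est (G := G) a c) ⊓ center (est (G := G) a c) ∧ x ≠ 1 := by
    have hnb : N.subgroupOf (est (G := G) a c) ≠ ⊥ := by
      rwa [← nontrivial_iff_ne_bot]
    set P := est (G := G) a c
    set M := N.subgroupOf P
    letI : MulAction P M := MulAction.compHom M (MulAut.conjNormal : P →* MulAut M)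
    have hd : 2 ∣ Nat.card M := by
      rcases (hP.to_subgroup M).card_eq_or_dvd with h | h
      · exact absurd (M.eq_bot_of_card_eq h) hnb
      · exact h
    obtain ⟨m, hm, hm1⟩ := hP.exists_fixed_point_of_prime_dvd_card_of_fixed_point M hd (a := 1)
      (fun g => map_one (MulAut.conjNormal (H := M) g))
    refine ⟨m, ⟨m.2, mem_center_iff.2 fun g => ?_⟩, fun h => hm1 (Subtype.ext h.symm)⟩
    have h' : g * (m : P) * g⁻¹ = m := congrArg Subtype.val (hm g)
    exact mul_inv_eq_iff_eq_mul.1 h'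
  classical
  obtain ⟨k, hk⟩ := hP x
  have hex : ∃ j, x ^ 2 ^ j = 1 := ⟨k, hk⟩
  obtain ⟨j, hj⟩ : ∃ j, Nat.find hex = j + 1 := by
    refine ⟨Nat.find hex - 1, ?_⟩
    have : Nat.find hex ≠ 0 := fun h0 => hxne (by simpa [h0] using Nat.find_spec hex)
    omega
  set y := x ^ 2 ^ j with hy
  have hy1 : y ≠ 1 := Nat.find_min hex (by omega : j < Nat.find hex)
  have hy2 : y * y = 1 := by
    rw [hy, ← pow_add, show 2 ^ j + 2 ^ j = 2 ^ (j + 1) by rw [pow_succ]; omega, ← hj]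
    exact Nat.find_spec hex
  have hym : y ∈ N.subgroupOf (est (G := G) a c) ⊓ center (est (G := G) a c) := pow_mem hx _
  refine hy1 (Subtype.ext (hz y hym.1 (D.mem_cen_z hc ha ⟨y.2.1, y.2.2, ?_, fun t h1 h2 => ?_⟩)))
  · exact congrArg Subtype.val hy2
  · exact congrArg Subtype.val (mem_center_iff.1 hym.2 ⟨t, h1, h2⟩)

end Mix

end CfsgLib.SThreeAmalgam
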