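import Cfsg.Agent.Amalgam.MixShift

/-!
For `Mix` an odd critical distance is at most three.
-/

set_option autoImplicit false
set_option linter.unusedSectionVars false
set_option linter.unusedVariables false

namespace CfsgLib.SThreeAmalgam

open scoped commutatorElement
open Subgroup

variable {G V : Type*} [Group G] [MulAction G V]

namespace Mix

variable (D : Mix G V) {a a'' c d e e' f g l p q y : V}

/-- The class of the product of two outer centres at the neighbours of `e` other than `a`. -/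
def Beta (e a : V) (ρ : G) : Prop :=
  ∃ p p' l l', D.R e a ∧ D.R e p ∧ D.R e p' ∧ p ≠ a ∧ p' ≠ a ∧ p' ≠ p ∧ D.R p l ∧ D.R p' l' ∧
    l ≠ e ∧ l' ≠ e ∧ ρ * (D.zc l * D.zc l') ∈ zOf D.R e

/-- The product class lies in the centre of the distinguished neighbour. -/
def Dep : Prop := ∃ e a, ∃ ρ : G, D.Cen e ∧ D.Beta e a ρ ∧ ρ ∈ zOf D.R a

variable [Nonempty V] (hb : 5 ≤ D.crit) (hO : Odd D.crit)
include hb hO

theorem outer_mem (he : D.Cen e) (hp : D.R e p) (hl : D.R p l) :
    D.zc l ∈ D.vOf e :=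
  D.z_le_vOf hp (D.cen_z_le (D.cen_of_act (D.act_of_cen he hp) hl) hl D.zc_mem)

theorem beta_mem (he : D.Cen e) {ρ : G} (h : D.Beta e a ρ) : ρ ∈ D.vOf e := by
  obtain ⟨p, p', l, l', -, hp, hp', -, -, -, hl, hl', -, -, hm⟩ := h
  exact (mul_mem_cancel_right (mul_mem (D.outer_mem hb hO he hp hl)
    (D.outer_mem hb hO he hp' hl'))).1 (D.cen_z_le_vOf he hm)

theorem outer_class (he : D.Cen e) (hp : D.R e p) (hl : D.R p l) (hle : l ≠ e) {l₂ : V}
    (hl₂ : D.R p l₂) (hl₂e : l₂ ≠ e) : D.zc l * D.zc l₂ ∈ zOf D.R e := by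
  by_cases h : l₂ = l
  · subst h; rw [D.z_sq D.zc_mem]; exact one_mem _
  have hpA := D.act_of_cen he hp
  rw [D.third_eq (D.one_odd hb hO) hpA (D.symm _ _ hp) hl hl₂ hle hl₂e h, ← mul_assoc,
    D.vOf_comm (by omega) he (D.outer_mem hb hO he hp hl) (D.cen_z_le_vOf he (D.zc_mem (c := e))),
    mul_assoc, D.z_sq D.zc_mem, mul_one]
  exact D.zc_mem

theorem beta_unique (he : D.Cen e) {ρ σ : G} (h : D.Beta e a ρ) (h' : D.Beta e a σ) :
    ρ * σ ∈ zOf D.R e := by
  have hρV := D.beta_mem hb hO he h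
  have hσV := D.beta_mem hb hO he h'
  obtain ⟨p, p', l, l', ha, hp, hp', hpa, hp'a, hpp, hl, hl', hle, hl'e, hm⟩ := h
  obtain ⟨q, q', k, k', -, hq, hq', hqa, hq'a, hqq, hk, hk', hke, hk'e, hn⟩ := h'
  have hlV := D.outer_mem hb hO he hp hl
  have hl'V := D.outer_mem hb hO he hp' hl'
  have hkV := D.outer_mem hb hO he hq hk
  have hk'V := D.outer_mem hb hO he hq' hk'
  have cm : ∀ {x y : G}, x ∈ D.vOf e → y ∈ D.vOf e → x * y = y * x :=
    fun hx hy => D.vOf_comm (by omega) he hx hy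
  have key : D.zc l * D.zc l' * (D.zc k * D.zc k') ∈ zOf D.R e := by
    by_cases h1 : q = p
    · subst h1
      have h2 : q' = p' := D.third_unique ha hp hq' hp' hpa hq'a hqq hp'a hpp
      subst h2
      rw [show D.zc l * D.zc l' * (D.zc k * D.zc k') = D.zc l * (D.zc l' * D.zc k) * D.zc k' by group,
        cm hl'V hkV, show D.zc l * (D.zc k * D.zc l') * D.zc k' = D.zc l * D.zc k * (D.zc l' * D.zc k')
          by group]
      exact mul_mem (D.outer_class hb hO he hp hl hle hk hke)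
        (D.outer_class hb hO he hp' hl' hl'e hk' hk'e)
    · have h2 : q = p' := D.third_unique ha hp hq hp' hpa hqa h1 hp'a hpp
      subst h2
      have h3 : q' = p := D.third_unique ha hq hq' hp hqa hq'a hqq hpa hpp.symm
      subst h3
      rw [cm hkV hk'V,
        show D.zc l * D.zc l' * (D.zc k' * D.zc k) = D.zc l * (D.zc l' * D.zc k') * D.zc k by group,
        cm hl'V hk'V, show D.zc l * (D.zc k' * D.zc l') * D.zc k = D.zc l * D.zc k' * (D.zc l' * D.zc k)
          by group]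
      exact mul_mem (D.outer_class hb hO he hp hl hle hk' hk'e)
        (D.outer_class hb hO he hp' hl' hl'e hk hke)
  have sq : D.zc l * D.zc l' * (D.zc k * D.zc k') * (D.zc l * D.zc l' * (D.zc k * D.zc k')) = 1 :=
    D.z_sq key
  have := mul_mem (mul_mem hm hn) key
  rwa [show ρ * (D.zc l * D.zc l') * (σ * (D.zc k * D.zc k')) *
      (D.zc l * D.zc l' * (D.zc k * D.zc k')) =
      ρ * (D.zc l * D.zc l' * σ) * (D.zc k * D.zc k') * (D.zc l * D.zc l' * (D.zc k * D.zc k'))
      by group, cm (mul_mem hlV hl'V) hσV,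
    show ρ * (σ * (D.zc l * D.zc l')) * (D.zc k * D.zc k') * (D.zc l * D.zc l' * (D.zc k * D.zc k')) =
      ρ * σ * (D.zc l * D.zc l' * (D.zc k * D.zc k') * (D.zc l * D.zc l' * (D.zc k * D.zc k')))
      by group, sq, mul_one] at this

theorem beta_conj {s ρ : G} (he : D.Cen e) (h : D.Beta e a ρ) :
    D.Beta (s • e) (s • a) (s * ρ * s⁻¹) := by
  have one := D.one_odd hb hO
  obtain ⟨p, p', l, l', ha, hp, hp', hpa, hp'a, hpp, hl, hl', hle, hl'e, hm⟩ := h
  have hlC := D.cen_of_act (D.act_of_cen he hp) hl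
  have hl'C := D.cen_of_act (D.act_of_cen he hp') hl'
  refine ⟨s • p, s • p', s • l, s • l', D.smul s _ _ ha, D.smul s _ _ hp, D.smul s _ _ hp',
    fun e => hpa (smul_left_cancel s e), fun e => hp'a (smul_left_cancel s e),
    fun e => hpp (smul_left_cancel s e), D.smul s _ _ hl, D.smul s _ _ hl',
    fun e => hle (smul_left_cancel s e), fun e => hl'e (smul_left_cancel s e), ?_⟩
  rw [← one.conj_zc s hlC, ← one.conj_zc s hl'C]
  have := D.conj_z (g := s) hm
  rwa [show s * (ρ * (D.zc l * D.zc l')) * s⁻¹ =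
    s * ρ * s⁻¹ * (s * D.zc l * s⁻¹ * (s * D.zc l' * s⁻¹)) by group] at this

theorem z_inf (hc : D.Cen c) (ha : D.R c a) {a₂ : V} (ha₂ : D.R c a₂) (hne : a₂ ≠ a) {x : G}
    (h1 : x ∈ zOf D.R a) (h2 : x ∈ zOf D.R a₂) : x ∈ zOf D.R c := by
  have one := D.one_odd hb hO
  have haA := D.act_of_cen hc ha
  have ha₂A := D.act_of_cen hc ha₂
  obtain ⟨e, f, he, hf, hec, hfc, hef, -⟩ := D.third a c (D.symm _ _ ha)
  obtain ⟨e', f', he', hf', he'c, hf'c, hef', -⟩ := D.third a₂ c (D.symm _ _ ha₂)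
  have hee := D.cen_of_act haA he
  have hfC := D.cen_of_act haA hf
  have he'C := D.cen_of_act ha₂A he'
  have hf'C := D.cen_of_act ha₂A hf'
  have tf := D.third_eq one haA (D.symm _ _ ha) he hf hec hfc hef.symm
  have tf' := D.third_eq one ha₂A (D.symm _ _ ha₂) he' hf' he'c hf'c hef'.symm
  have sep : ∀ {p q}, D.R a p → p ≠ c → D.R a₂ q → q ≠ c → D.zc p = D.zc q → False :=
    fun {p q} hp hpc hq hqc h => D.zc_ne (D.cen_of_act haA hp) (D.inj4' hb hO (D.cen_of_act haA hp)
      (D.symm _ _ hp) (D.symm _ _ ha) ha₂ hq hpc hne.symm hqc.symm D.zc_mem (h ▸ D.zc_mem))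
  have sepc : ∀ {p q}, D.R q p → D.R q c → p ≠ c → D.zc p ≠ D.zc c := fun {p q} hp hqc hpc h =>
    D.zc_ne_zc hqc hp hpc hc h.symm
  rcases one.z_cases haA (D.symm _ _ ha) he hec h1 with r | r | r | r
  · rw [r]; exact one_mem _
  · rw [r]; exact D.zc_mem
  · rcases one.z_cases ha₂A (D.symm _ _ ha₂) he' he'c h2 with s | s | s | s
    · exact absurd (r.symm.trans s) (D.zc_ne hee)
    · exact absurd (r.symm.trans s) (sepc he (D.symm _ _ ha) hec)
    · exact (sep he hec he' he'c (r.symm.trans s)).elim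
    · exact (sep he hec hf' hf'c ((r.symm.trans s).trans tf'.symm)).elim
  · rcases one.z_cases ha₂A (D.symm _ _ ha₂) he' he'c h2 with s | s | s | s
    · exact absurd ((tf.trans r.symm).trans s) (D.zc_ne hfC)
    · exact absurd ((tf.trans r.symm).trans s) (sepc hf (D.symm _ _ ha) hfc)
    · exact (sep hf hfc he' he'c ((tf.trans r.symm).trans s)).elim
    · exact (sep hf hfc hf' hf'c ((tf.trans r.symm).trans (s.trans tf'.symm))).elim

theorem beta_not_cen (he : D.Cen e) {ρ : G} (h : D.Beta e a ρ) : ρ ∉ zOf D.R e := by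
  obtain ⟨p, p', l, l', -, hp, hp', -, -, hpp, hl, hl', hle, -, hm⟩ := h
  intro hin
  have hpA := D.act_of_cen he hp
  have hlC := D.cen_of_act hpA hl
  have h1 := D.cen_z_le he (D.symm _ _ hp) ((mul_mem_cancel_left hin).1 hm)
  have hlp : D.zc l ∈ zOf D.R p := D.cen_z_le hlC hl D.zc_mem
  have h2 : D.zc l' ∈ zOf D.R p := (mul_mem_cancel_left hlp).1 h1
  have hl'C := D.cen_of_act (D.act_of_cen he hp') hl'
  have h3 := D.z_inf hb hO he hp hp' hpp h2 (D.cen_z_le hl'C hl' D.zc_mem)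
  have h4 : D.zc l ∈ zOf D.R e := (mul_mem_cancel_right h3).1 ((mul_mem_cancel_left hin).1 hm)
  exact D.zc_ne hlC (D.cen_inf hl (D.symm _ _ hp) hle.symm hlC D.zc_mem h4)

theorem dep_all (h : D.Dep) (he : D.Cen e) {ρ : G} (hρ : D.Beta e a ρ) : ρ ∈ zOf D.R a := by
  obtain ⟨e₀, a₀, σ, he₀, hσ, hσa⟩ := h
  obtain ⟨s, hs⟩ := D.conj_of_type (iff_of_true he₀ he)
  have hR0 : D.R e₀ a₀ := by obtain ⟨-, -, -, -, h, -⟩ := hσ; exact h
  have hR : D.R e a := by obtain ⟨-, -, -, -, h, -⟩ := hρ; exact h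
  obtain ⟨t, hte, hta⟩ := D.trans (by rw [← hs]; exact D.smul s _ _ hR0 : D.R e (s • a₀)) hR
  have hconj := D.beta_conj hb hO (s := t * s) he₀ hσ
  rw [mul_smul, mul_smul, hs, hte, hta] at hconj
  have h1 := D.beta_unique hb hO he hρ hconj
  have h2 : t * s * σ * (t * s)⁻¹ ∈ zOf D.R a := by
    have := D.conj_z (g := t * s) hσa
    rwa [mul_smul, hta] at this
  exact (mul_mem_cancel_right h2).1 (D.cen_z_le he (D.symm _ _ hR) h1)

/-- The commutator attached to a critical path. -/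
noncomputable def rOf (e g : V) : G := D.zc e * D.zc g * D.zc e * D.zc g

theorem r_beta {x : ℕ → V} (hx : D.Critical x) (he : D.R (x 0) e) (hec : e ≠ x 1)
    (ha : D.R (x D.crit) a'') (hne : a'' ≠ x (D.crit - 1)) (hg : D.R a'' g) (hgn : g ≠ x D.crit) :
    D.Beta (x 1) (x 2) (D.rOf e g) := by
  have one := D.one_odd hb hO
  obtain ⟨hA, hc, -, -⟩ := D.cen_end hO hx
  obtain ⟨hwc, hwd, hwn, hwa⟩ := D.g_data hb hO hx ha hne hg hgn
  have hee := D.cen_of_act hA he
  set w := D.zc g with hw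
  have h01 := hx.1.adj (i := 0) (by omega)
  have h12 := hx.1.adj (i := 1) (by omega)
  refine ⟨x 0, w • x 0, e, w • e, h12, D.symm _ _ h01, D.adj_image hwc (D.symm _ _ h01),
    hx.1.ne2 (i := 0) (by omega), ?_, hwa, he, D.smul w _ _ he, hec,
    fun h => hec (smul_left_cancel w (h.trans hwc.symm)), ?_⟩
  · intro h
    exact hx.1.ne2 (i := 0) (by omega) (smul_left_cancel w (h.trans hwd.symm))
  · have hwi : w⁻¹ = w := D.z_inv D.zc_mem
    have heq : D.zc e * D.zc (w • e) = D.rOf e g := by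
      rw [← one.conj_zc w hee, hwi, rOf, ← hw]; simp only [mul_assoc]
    rw [heq]
    have : D.rOf e g ∈ D.vOf (x 1) := by
      rw [← heq]
      exact mul_mem (D.outer_mem hb hO hc (D.symm _ _ h01) he)
        (D.outer_mem hb hO hc (D.adj_image hwc (D.symm _ _ h01)) (D.smul w _ _ he))
    rw [D.vOf_sq (by omega) hc this]
    exact one_mem _

theorem r_props {x : ℕ → V} (hx : D.Critical x) (he : D.R (x 0) e) (hec : e ≠ x 1)
    (ha : D.R (x D.crit) a'') (hne : a'' ≠ x (D.crit - 1)) (hg : D.R a'' g) (hgn : g ≠ x D.crit) :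
    D.rOf g e = D.rOf e g ∧ D.rOf e g ∈ D.vOf (x D.crit) ∧
      D.Beta (x D.crit) (x (D.crit - 1)) (D.rOf e g) := by
  obtain ⟨hA, hc, -, hbC⟩ := D.cen_end hO hx
  have hR := D.rev_crit hb hO hx ha hne
  obtain ⟨r1, r2, r3⟩ := D.rev_vals hb (x := x) a''
  have h01 := hx.1.adj (i := 0) (by omega)
  have hR2 : pcons a'' (fun i => x (D.crit - i)) (D.crit - 1) = x 2 := by
    rw [r3 _ (by omega), show D.crit + 1 - (D.crit - 1) = 2 by omega]
  have hB := D.r_beta hb hO hR (e := g) (g := e) (a'' := x 0) hg (by rw [r1]; exact hgn)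
    (by rw [r2]; exact D.symm _ _ h01) (by rw [hR2]; exact hx.1.ne2 (i := 0) (by omega)) he
    (by rw [r2]; exact hec)
  rw [r1, r3 2 (by omega), show D.crit + 1 - 2 = D.crit - 1 by omega] at hB
  have hm := D.beta_mem hb hO hbC hB
  have hsq := D.vOf_sq (by omega) hbC hm
  have heq : D.rOf g e = D.rOf e g := by
    have h1 : D.rOf g e * D.rOf e g = 1 := by
      simp only [rOf]
      have he2 : ∀ t : G, D.zc e * (D.zc e * t) = t := fun t => by
        rw [← mul_assoc, D.z_sq D.zc_mem, one_mul]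
      have hg2 : ∀ t : G, D.zc g * (D.zc g * t) = t := fun t => by
        rw [← mul_assoc, D.z_sq D.zc_mem, one_mul]
      simp [mul_assoc, he2, hg2, D.z_sq D.zc_mem]
    exact (eq_inv_of_mul_eq_one_left hsq).trans (eq_inv_of_mul_eq_one_right h1).symm
  exact ⟨heq, heq ▸ hm, heq ▸ hB⟩

theorem r_com {x : ℕ → V} (hx : D.Critical x) (he : D.R (x 0) e) (hec : e ≠ x 1)
    (ha : D.R (x D.crit) a'') (hne : a'' ≠ x (D.crit - 1)) (hg : D.R a'' g) (hgn : g ≠ x D.crit) :
    ∃ w : G, w • x 3 = x 3 ∧ w • x 4 = x 4 ∧ w • x 2 ≠ x 2 ∧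
      w * D.rOf e g = D.rOf e g * w := by
  obtain ⟨-, -, -, hbC⟩ := D.cen_end hO hx
  obtain ⟨-, hr, -⟩ := D.r_props hb hO hx he hec ha hne hg hgn
  obtain ⟨F, hF, hFx⟩ := D.fwd hb hO hx
  obtain ⟨p, hp, hpn⟩ := D.far_adj hb hO hF
  obtain ⟨k, hk, hkn⟩ := D.exists_next (D.symm _ _ hp)
  obtain ⟨h1, h2, h3, h4⟩ := D.g_data hb hO hF hp hpn hk hkn
  obtain ⟨hFA, -, -, hFC⟩ := D.cen_end hO hF
  rw [hFx 1 (by omega)] at h1
  rw [hFx 2 (by omega)] at h2
  rw [hFx 0 (by omega)] at h4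
  have hpA := D.act_of_cen hFC hp
  have hkp : D.zc k ∈ zOf D.R p := D.cen_z_le (D.cen_of_act hpA hk) hk D.zc_mem
  refine ⟨D.zc k, h1, h2, h4, ?_⟩
  have hle : D.vOf (x D.crit) ≤ centralizer {D.zc k} := D.vOf_le fun y hy z hz => by
    refine mem_centralizer_singleton_iff.2 (D.comm (D.act_of_cen hbC hy) ?_ (by omega : 4 < D.crit)
      hz hkp)
    have hxb : F (D.crit - 2) = x D.crit := by
      rw [hFx _ (by omega), Nat.sub_add_cancel (by omega)]
    have := ((hF.1.within (i := D.crit - 2) (j := D.crit) (by omega) le_rfl).snoc hp)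
    rw [hxb, show D.crit - (D.crit - 2) + 1 = 3 by omega] at this
    exact Within.step (D.symm _ _ hy) this
  exact (mem_centralizer_singleton_iff.1 (hle hr)).symm

theorem dep_rule (h : D.Dep) {x : ℕ → V} (hx : D.Critical x) (he : D.R (x 0) e) (hec : e ≠ x 1)
    (ha : D.R (x D.crit) a'') (hne : a'' ≠ x (D.crit - 1)) (hg : D.R a'' g) (hgn : g ≠ x D.crit) :
    D.rOf e g = D.zc (x 3) := by
  have one := D.one_odd hb hO
  obtain ⟨-, hc, -, -⟩ := D.cen_end hO hx
  have hp := hx.1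
  have hc3 : D.Cen (x 3) := hp.cen_odd hx.2.1 (by omega) (by decide)
  have h12 := hp.adj (i := 1) (by omega)
  have h23 := hp.adj (i := 2) (by omega)
  have hB := D.r_beta hb hO hx he hec ha hne hg hgn
  have hr := D.dep_all hb hO h hc hB
  obtain ⟨w, w3, w4, w2, hwr⟩ := D.r_com hb hO hx he hec ha hne hg hgn
  have hr2 : D.rOf e g ∈ zOf D.R (w • x 2) := by
    have := D.conj_z (g := w) hr
    rwa [hwr, mul_inv_cancel_right] at this
  refine one.eq_zc hc3 (D.z_inf hb hO hc3 (D.symm _ _ h23)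
    (D.adj_image w3 (D.symm _ _ h23)) w2 hr hr2) fun h1 => D.beta_not_cen hb hO hc hB ?_
  rw [h1]; exact one_mem _

theorem dep_false (h : D.Dep) : False := by
  have one := D.one_odd hb hO
  have mirror : ∀ {x : ℕ → V}, D.Critical x → D.zc (x 3) = D.zc (x (D.crit - 2)) := by
    intro x hx
    obtain ⟨hA, hc, -, hbC⟩ := D.cen_end hO hx
    obtain ⟨a'', ha, hne⟩ := D.far_adj hb hO hx
    obtain ⟨g, hg, hgn⟩ := D.exists_next (D.symm _ _ ha)
    have h01 := hx.1.adj (i := 0) (by omega)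
    obtain ⟨e, he, hec⟩ := D.exists_next h01
    have hR := D.rev_crit hb hO hx ha hne
    obtain ⟨r1, r2, r3⟩ := D.rev_vals hb (x := x) a''
    have hR2 : pcons a'' (fun i => x (D.crit - i)) (D.crit - 1) = x 2 := by
      rw [r3 _ (by omega), show D.crit + 1 - (D.crit - 1) = 2 by omega]
    have e1 := D.dep_rule hb hO h hR (e := g) (g := e) (a'' := x 0) hg (by rw [r1]; exact hgn)
      (by rw [r2]; exact D.symm _ _ h01) (by rw [hR2]; exact hx.1.ne2 (i := 0) (by omega)) he
      (by rw [r2]; exact hec)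
    rw [r3 3 (by omega), show D.crit + 1 - 3 = D.crit - 2 by omega] at e1
    rw [← e1, (D.r_props hb hO hx he hec ha hne hg hgn).1,
      D.dep_rule hb hO h hx he hec ha hne hg hgn]
  obtain ⟨x, hx⟩ := D.exists_critical
  obtain ⟨hA, hc, hb1, hbC⟩ := D.cen_end hO hx
  have hp := hx.1
  have h01 := hp.adj (i := 0) (by omega)
  obtain ⟨e, he, hec⟩ := D.exists_next h01
  have hee := D.cen_of_act hA he
  obtain ⟨k, hk⟩ := id hO
  by_cases h5 : D.crit = 5
  · -- two central paths of length eight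
    have mid : ∀ q : ℕ → V, D.Path 8 q → D.Cen (q 0) →
        D.rOf (q 0) (q 8) = D.zc (q 4) := by
      intro q hq h0
      have hP : D.Path D.crit (fun i => q (1 + i)) := by rw [h5]; exact hq.drop 1 5 (by omega)
      have h1 : ¬ D.Cen (q 1) := D.act_of_cen h0 (hq.adj (by omega))
      have hcr : D.Critical (fun i => q (1 + i)) :=
        (h5.symm ▸ (D.tr_five hb hO).1 : D.Tr D.crit False).critical hx hP h1
      exact D.dep_rule hb hO h hcr (D.symm _ _ (hq.adj (i := 0) (by omega)))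
        (hq.ne2 (i := 0) (by omega)) (a'' := q 7)
        (by rw [h5]; exact hq.adj (i := 6) (by omega))
        (by rw [h5]; exact (hq.ne2 (i := 5) (by omega)).symm)
        (g := q 8) (hq.adj (i := 7) (by omega))
        (by rw [h5]; exact (hq.ne2 (i := 6) (by omega)).symm)
    -- a central path of length ten
    have h5' : D.Path 5 x := h5 ▸ hp
    have hp6 := h5'.cons (D.symm _ _ he) (fun _ => hec)
    have ext : ∀ {n : ℕ} {q : ℕ → V}, D.Path (n + 1) q →
        ∃ q' : ℕ → V, D.Path (n + 2) q' ∧ ∀ i ≤ n + 1, q' i = q i := by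
      intro n q hq
      obtain ⟨v, hv, hvn⟩ := D.exists_next (D.symm _ _ (hq.adj (Nat.lt_succ_self n)))
      refine ⟨_, hq.snoc hv (fun m hm => ?_), fun i hi => if_pos hi⟩
      rw [show m = n by omega]; exact hvn.symm
    obtain ⟨q7, hq7, e7⟩ := ext hp6
    obtain ⟨q8, hq8, e8⟩ := ext hq7
    obtain ⟨q9, hq9, e9⟩ := ext hq8
    obtain ⟨q, hq, eq⟩ := ext hq9
    have hq0 : q 0 = e := by
      rw [eq 0 (by omega), e9 0 (by omega), e8 0 (by omega), e7 0 (by omega)]; rfl
    have h0 : D.Cen (q 0) := hq0 ▸ hee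
    have evn : ∀ i, i ≤ 10 → Even i → D.Cen (q i) := fun i hi he' => by rw [hq.cen hi]; tauto
    have odn : ∀ i, i ≤ 10 → Odd i → ¬ D.Cen (q i) := fun i hi ho => by
      have : ¬ Even i := by simpa using ho
      rw [hq.cen hi]; tauto
    have cfix : ∀ i j, i ≤ 10 → j ≤ 10 → Even i → i ≤ j + 6 → j ≤ i + 6 →
        D.zc (q i) • q j = q j := fun i j hi hj hev h1 h2 =>
      D.cen_fix (evn i hi hev) (hq.within' hi hj h1 h2) (by omega) D.zc_mem
    have g_moves : D.zc (q 10) ∉ kern D.R (q 4) := by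
      have hP : D.Path D.crit (fun i => q (9 - i)) := by
        rw [h5]
        exact ((hq.take (m := 9) (by omega)).rev).take (by omega)
      have hcr : D.Critical (fun i => q (9 - i)) :=
        (h5.symm ▸ (D.tr_five hb hO).1 : D.Tr D.crit False).critical hx hP
          (odn 9 (by omega) (by decide))
      have := D.end_not_Q hb hO hcr (e := q 10) (hq.adj (i := 9) (by omega))
        (hq.ne2 (i := 8) (by omega)).symm
      rw [h5] at this
      exact this
    have A_moves : D.zc (q 0) ∉ kern D.R (q 6) := by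
      have hP : D.Path D.crit (fun i => q (1 + i)) := by rw [h5]; exact hq.drop 1 5 (by omega)
      have hcr : D.Critical (fun i => q (1 + i)) :=
        (h5.symm ▸ (D.tr_five hb hO).1 : D.Tr D.crit False).critical hx hP
          (odn 1 (by omega) odd_one)
      have := D.end_not_Q hb hO hcr (e := q 0) (D.symm _ _ (hq.adj (i := 0) (by omega)))
        (hq.ne2 (i := 0) (by omega))
      rw [h5] at this
      exact this
    set A := D.zc (q 0) with hA0
    set B := D.zc (q 10) with hB0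
    have B5 : B • q 5 = q 5 := cfix 10 5 le_rfl (by omega) (by decide) (by omega) (by omega)
    have B4 : B • q 4 = q 4 := cfix 10 4 le_rfl (by omega) (by decide) (by omega) (by omega)
    have A5 : A • q 5 = q 5 := cfix 0 5 (by omega) (by omega) (by decide) (by omega) (by omega)
    have A6 : A • q 6 = q 6 := cfix 0 6 (by omega) (by omega) (by decide) (by omega) (by omega)
    have B3 : B • q 3 ≠ q 3 := D.moves B4 B5 (hq.adj (i := 4) (by omega)) g_moves
      (D.symm _ _ (hq.adj (i := 3) (by omega))) (hq.ne2 (i := 3) (by omega))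
    have A7 : A • q 7 ≠ q 7 := D.moves A6 A5 (D.symm _ _ (hq.adj (i := 5) (by omega))) A_moves
      (hq.adj (i := 6) (by omega)) (hq.ne2 (i := 5) (by omega)).symm
    have first : D.rOf (q 0) (B • q 0) = D.zc (q 4) := by
      set P : ℕ → V := fun i => if i ≤ 4 then q i else B • q (8 - i) with hP
      have hP8 : D.Path 8 P := by
        refine ⟨fun i hi => ?_, fun i hi => ?_⟩
        · have hi' : i ≤ 7 := by omega
          interval_cases i <;> simp [hP] <;>
            first | exact hq.adj (by omega) |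
              exact D.adj_image B4 (D.symm _ _ (hq.adj (by omega))) |
              exact D.smul B _ _ (D.symm _ _ (hq.adj (by omega)))
        · have hi' : i ≤ 6 := by omega
          interval_cases i <;> simp [hP] <;>
            first | exact hq.ne2 (by omega) | exact B3.symm |
              (intro hh; exact hq.ne2 (i := 2) (by omega)
                (smul_left_cancel B (hh.symm.trans B4.symm))) |
              exact (hq.ne2 (by omega)).symm
      exact mid P hP8 h0
    have second : D.rOf (A • q 10) (q 10) = D.zc (q 6) := by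
      set P : ℕ → V := fun i => if i < 4 then A • q (10 - i) else q (2 + i) with hP
      have hP8 : D.Path 8 P := by
        refine ⟨fun i hi => ?_, fun i hi => ?_⟩
        · have hi' : i ≤ 7 := by omega
          interval_cases i <;> simp [hP] <;>
            first | exact hq.adj (by omega) |
              exact D.symm _ _ (D.adj_image A6 (hq.adj (i := 6) (by omega))) |
              exact D.smul A _ _ (D.symm _ _ (hq.adj (by omega)))
        · have hi' : i ≤ 6 := by omega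
          interval_cases i <;> simp [hP] <;>
            first | exact hq.ne2 (by omega) | exact A7 |
              (intro hh; exact hq.ne2 (i := 6) (by omega)
                (smul_left_cancel A (hh.trans A6.symm)).symm) |
              exact (hq.ne2 (by omega)).symm
      have h8 := mid P hP8 (D.cen_smul A _ (evn 10 le_rfl (by decide)))
      exact h8
    have hAinv : A⁻¹ = A := D.z_inv D.zc_mem
    have hBinv : B⁻¹ = B := D.z_inv D.zc_mem
    refine D.zc_ne_zc (D.symm _ _ (hq.adj (i := 4) (by omega))) (hq.adj (i := 5) (by omega))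
      (hq.ne2 (i := 4) (by omega)).symm (evn 4 (by omega) (by decide)) ?_
    rw [← first, ← second]
    simp only [rOf, ← one.conj_zc B h0, ← one.conj_zc A (evn 10 le_rfl (by decide)), ← hA0, ← hB0,
      hAinv, hBinv]
    simp only [mul_assoc]
  · -- distance at least seven
    obtain ⟨y, hy, hya, hP⟩ := D.shift_exists hb hO hx he hec
    have m1 := mirror hP
    obtain ⟨j, hj⟩ : ∃ j, D.crit = j + 4 := ⟨D.crit - 4, by omega⟩
    rw [show D.crit - 2 = j + 1 + 1 by omega] at m1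
    simp only [pcons_succ] at m1
    have m2 := mirror hx
    rw [show D.crit - 2 = j + 2 by omega] at m2
    obtain ⟨F, hF, hFx⟩ := D.fwd hb hO hx
    have hj1 : ¬ D.Cen (x (j + 1)) := hp.act_even hA (by omega) ⟨k - 1, by omega⟩
    have hjj : D.Cen (x j) := hp.cen_odd hA (by omega) ⟨k - 2, by omega⟩
    have hj2 : D.Cen (x (j + 2)) := hp.cen_odd hA (by omega) ⟨k - 1, by omega⟩
    have hc3 : D.Cen (x 3) := hp.cen_odd hA (by omega) (by decide)
    have hle : zOf (G := G) D.R (x (j + 1)) ≤ kern D.R (F D.crit) := by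
      refine D.le_Q hj1 ?_ (by omega : 5 < D.crit)
      have := hF.1.within (i := D.crit - 5) (j := D.crit) (by omega) le_rfl
      rwa [hFx _ (by omega), show D.crit - 5 + 2 = j + 1 by omega,
        show D.crit - (D.crit - 5) = 5 by omega] at this
    refine hF.2.2 ?_
    rw [hFx 0 (by omega)]
    have hd : ¬ D.Cen (x 2) := hp.act_even hA (by omega) even_two
    intro z hz
    have g1 : D.zc (x 1) ∈ zOf D.R (x (j + 1)) := by
      rw [show D.zc (x 1) = D.zc (x j) from m1]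
      exact D.cen_z_le hjj (D.symm _ _ (hp.adj (i := j) (by omega))) D.zc_mem
    have g3 : D.zc (x 3) ∈ zOf D.R (x (j + 1)) := by
      rw [m2]
      exact D.cen_z_le hj2 (hp.adj (i := j + 1) (by omega)) D.zc_mem
    rcases one.z_cases hd (D.symm _ _ (hp.adj (i := 1) (by omega))) (hp.adj (i := 2) (by omega))
      (hp.ne2 (i := 1) (by omega)).symm hz with r | r | r | r
    · rw [r]; exact one_mem _
    · rw [r]; exact hle g1
    · rw [r]; exact hle g3
    · rw [r]; exact hle (mul_mem g1 g3)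

theorem com_all (he : D.Cen e) (h1 : D.R e a) (h2 : D.R a c) (h3 : D.R c d) (h4 : D.R d e')
    (n1 : e ≠ c) (n2 : a ≠ d) (n3 : c ≠ e') : ∃ ρ : G, D.Beta e a ρ ∧ D.Beta e' d ρ := by
  obtain ⟨x, hx⟩ := D.exists_critical
  obtain ⟨a'', ha, hne⟩ := D.far_adj hb hO hx
  obtain ⟨g, hg, hgn⟩ := D.exists_next (D.symm _ _ ha)
  have h01 := hx.1.adj (i := 0) (by omega)
  have h12 := hx.1.adj (i := 1) (by omega)
  have h23 := hx.1.adj (i := 2) (by omega)
  obtain ⟨k, hk, hkc⟩ := D.exists_next h01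
  have hB := D.r_beta hb hO hx hk hkc ha hne hg hgn
  obtain ⟨w, w3, w4, w2, hwr⟩ := D.r_com hb hO hx hk hkc ha hne hg hgn
  obtain ⟨-, hc, -, -⟩ := D.cen_end hO hx
  have hB' := D.beta_conj hb hO (s := w) hc hB
  rw [hwr, mul_inv_cancel_right] at hB'
  have hP : D.Path 4 (P4 (x 1) (x 2) (x 3) (w • x 2) (w • x 1)) :=
    D.path4 h12 h23 (D.adj_image w3 (D.symm _ _ h23)) (D.smul w _ _ (D.symm _ _ h12))
      (hx.1.ne2 (i := 1) (by omega)) w2.symm
      (fun h => hx.1.ne2 (i := 1) (by omega) (smul_left_cancel w (h.symm.trans w3.symm)))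
  obtain ⟨σ, hσ⟩ := (D.short_moves hb hO).1 4 (by omega) le_rfl True _ _ hP
    (D.path4 h1 h2 h3 h4 n1 n2 n3) (iff_true_intro hc) (iff_true_intro he)
  have s0 : σ • x 1 = e := hσ 0 (by omega)
  have s1 : σ • x 2 = a := hσ 1 (by omega)
  have s3 : σ • w • x 2 = d := hσ 3 (by omega)
  have s4 : σ • w • x 1 = e' := hσ 4 le_rfl
  refine ⟨σ * D.rOf k g * σ⁻¹, ?_, ?_⟩
  · have := D.beta_conj hb hO (s := σ) hc hB
    rwa [s0, s1] at this
  · have := D.beta_conj hb hO (s := σ) (D.cen_smul w _ hc) hB'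
    rwa [s4, s3] at this

/-- `ρ` belongs to the classes at outer vertices of two neighbours of `c`. -/
def Cand (c p q : V) (ρ : G) : Prop :=
  ∃ e e', D.R c p ∧ D.R c q ∧ q ≠ p ∧ D.R p e ∧ D.R q e' ∧ e ≠ c ∧ e' ≠ c ∧
    D.Beta e p ρ ∧ D.Beta e' q ρ

theorem com_eq3 {p q r e₁ e₂ e₃ : V} (hnd : ¬ D.Dep) (hc : D.Cen c) (hp : D.R c p) (hq : D.R c q)
    (hr : D.R c r) (hqp : q ≠ p) (hrp : r ≠ p) (hrq : r ≠ q) (h₁ : D.R p e₁) (h₂ : D.R q e₂)
    (h₃ : D.R r e₃) (n₁ : e₁ ≠ c) (n₂ : e₂ ≠ c) (n₃ : e₃ ≠ c) {A B C : G}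
    (hA1 : D.Beta e₁ p A) (hA2 : D.Beta e₂ q A) (hB1 : D.Beta e₁ p B) (hB3 : D.Beta e₃ r B)
    (hC2 : D.Beta e₂ q C) (hC3 : D.Beta e₃ r C) : A = B ∧ B = C := by
  have one := D.one_odd hb hO
  have c1 := D.cen_of_act (D.act_of_cen hc hp) h₁
  have c2 := D.cen_of_act (D.act_of_cen hc hq) h₂
  have c3 := D.cen_of_act (D.act_of_cen hc hr) h₃
  have mA := D.beta_mem hb hO c1 hA1
  have mB := D.beta_mem hb hO c1 hB1
  have mC := D.beta_mem hb hO c2 hC2
  have AB : A * B = B * A := D.vOf_comm (by omega) c1 mA mB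
  have AC : A * C = C * A := D.vOf_comm (by omega) c2 (D.beta_mem hb hO c2 hA2) mC
  have BC : B * C = C * B :=
    D.vOf_comm (by omega) c3 (D.beta_mem hb hO c3 hB3) (D.beta_mem hb hO c3 hC3)
  have A2 := D.vOf_sq (by omega) c1 mA
  have B2 := D.vOf_sq (by omega) c1 mB
  have C2 := D.vOf_sq (by omega) c2 mC
  have prod : A * B * (A * C) * (B * C) = 1 := by
    calc A * B * (A * C) * (B * C) = A * (B * A) * C * (B * C) := by group
      _ = A * (A * B) * C * (B * C) := by rw [AB]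
      _ = A * A * (B * C) * (B * C) := by group
      _ = B * (C * B) * C := by rw [A2]; group
      _ = B * B * (C * C) := by rw [← BC]; group
      _ = 1 := by rw [B2, C2, one_mul]
  have eqA : A * B = 1 → A = B := fun h =>
    (eq_inv_of_mul_eq_one_left h).trans (inv_eq_of_mul_eq_one_right B2)
  have eqC : B * C = 1 → B = C := fun h =>
    (eq_inv_of_mul_eq_one_left h).trans (inv_eq_of_mul_eq_one_right C2)
  have sep : ∀ {p q e e'}, D.R c p → D.R c q → q ≠ p → D.R p e → D.R q e' → e ≠ c → e' ≠ c →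
      D.zc e ≠ D.zc e' := fun {p q e e'} hp hq hne he he' hec he'c h =>
    D.zc_ne (D.cen_of_act (D.act_of_cen hc hp) he) (D.inj4' hb hO
      (D.cen_of_act (D.act_of_cen hc hp) he) (D.symm _ _ he) (D.symm _ _ hp) hq he' hec hne.symm
      he'c.symm D.zc_mem (h ▸ D.zc_mem))
  rcases one.eq_or c1 (D.beta_unique hb hO c1 hA1 hB1) with r1 | r1 <;>
    rcases one.eq_or c2 (D.beta_unique hb hO c2 hA2 hC2) with r2 | r2 <;>
    rcases one.eq_or c3 (D.beta_unique hb hO c3 hB3 hC3) with r3 | r3 <;>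
    rw [r1, r2, r3] at prod
  · exact ⟨eqA r1, eqC r3⟩
  · exact absurd (by simpa using prod) (D.zc_ne c3)
  · exact absurd (by simpa using prod) (D.zc_ne c2)
  · refine absurd ?_ (sep hq hr hrq h₂ h₃ n₂ n₃)
    rw [one_mul] at prod
    rw [eq_inv_of_mul_eq_one_left prod, D.z_inv D.zc_mem]
  · exact absurd (by simpa using prod) (D.zc_ne c1)
  · refine absurd ?_ (sep hp hr hrp h₁ h₃ n₁ n₃)
    rw [mul_one] at prod
    rw [eq_inv_of_mul_eq_one_left prod, D.z_inv D.zc_mem]
  · refine absurd ?_ (sep hp hq hqp h₁ h₂ n₁ n₂)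
    rw [mul_one] at prod
    rw [eq_inv_of_mul_eq_one_left prod, D.z_inv D.zc_mem]
  · refine absurd ⟨c, r, D.zc e₁ * D.zc e₂, hc, ⟨p, q, e₁, e₂, hr, hp, hq, hrp.symm, hrq.symm,
      hqp, h₁, h₂, n₁, n₂, ?_⟩, ?_⟩ hnd
    · rw [D.vOf_sq (by omega) hc
        (mul_mem (D.outer_mem hb hO hc hp h₁) (D.outer_mem hb hO hc hq h₂))]
      exact one_mem _
    · rw [eq_inv_of_mul_eq_one_left prod, D.z_inv D.zc_mem]
      exact D.cen_z_le c3 h₃ D.zc_mem

theorem not_dep_false (hnd : ¬ D.Dep) : False := by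
  obtain ⟨x, hx⟩ := D.exists_critical
  obtain ⟨-, hc, -, -⟩ := D.cen_end hO hx
  generalize x 1 = c at hc
  have symmC : ∀ {p q ρ}, D.Cand c p q ρ → D.Cand c q p ρ :=
    fun ⟨e, e', h1, h2, h3, h4, h5, h6, h7, h8, h9⟩ =>
      ⟨e', e, h2, h1, h3.symm, h5, h4, h7, h6, h9, h8⟩
  have com : ∀ {p q e e'}, D.R c p → D.R c q → q ≠ p → D.R p e → D.R q e' → e ≠ c → e' ≠ c →
      ∃ ρ : G, D.Beta e p ρ ∧ D.Beta e' q ρ := fun {p q e e'} hp hq hne he he' hec he'c =>
    D.com_all hb hO (D.cen_of_act (D.act_of_cen hc hp) he) (D.symm _ _ he) (D.symm _ _ hp) hq he'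
      hec hne.symm he'c.symm
  have K : ∀ {p q r ρ σ}, r ≠ p → r ≠ q → D.Cand c p q ρ → D.Cand c q r σ → ρ = σ := by
    rintro p q r ρ σ hrp hrq ⟨e, e', hp, hq, hqp, he, he', hec, he'c, hρ1, hρ2⟩
      ⟨f, f', -, hr, -, hf, hf', hfc, hf'c, hσ1, hσ2⟩
    obtain ⟨B, hB1, hB2⟩ := com hp hr hrp he hf' hec hf'c
    obtain ⟨C, hC1, hC2⟩ := com hq hr hrq he' hf' he'c hf'c
    obtain ⟨E, hE1, hE2⟩ := com hp hq hqp he hf hec hfc
    obtain ⟨e1, -⟩ := D.com_eq3 hb hO hnd hc hp hq hr hqp hrp hrq he he' hf' hec he'c hf'c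
      hρ1 hρ2 hB1 hB2 hC1 hC2
    obtain ⟨e3, e4⟩ := D.com_eq3 hb hO hnd hc hp hq hr hqp hrp hrq he hf hf' hec hfc hf'c
      hE1 hE2 hB1 hB2 hσ1 hσ2
    exact e1.trans e4
  obtain ⟨p, hp⟩ := D.exists_adj c
  obtain ⟨q, r, hq, hr, hqp, hrp, hqr, hall⟩ := D.third c p hp
  obtain ⟨e, he, hec⟩ := D.exists_next (D.symm _ _ hp)
  obtain ⟨e', he', he'c⟩ := D.exists_next (D.symm _ _ hq)
  obtain ⟨f, hf, hfc⟩ := D.exists_next (D.symm _ _ hr)
  obtain ⟨ρ, hρ1, hρ2⟩ := com hp hq hqp he he' hec he'c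
  have C1 : D.Cand c p q ρ := ⟨e, e', hp, hq, hqp, he, he', hec, he'c, hρ1, hρ2⟩
  obtain ⟨τ, hτ1, hτ2⟩ := com hq hr hqr.symm he' hf he'c hfc
  have C2 : D.Cand c q r τ := ⟨e', f, hq, hr, hqr.symm, he', hf, he'c, hfc, hτ1, hτ2⟩
  have hρτ : ρ = τ := K hrp hqr.symm C1 C2
  -- every candidate is `ρ`
  have all : ∀ {p' q' σ}, D.Cand c p' q' σ → σ = ρ := by
    intro p' q' σ hσ
    obtain ⟨-, -, hp', hq', hne, -⟩ := id hσ
    rcases hall p' hp' with rfl | rfl | rfl <;> rcases hall q' hq' with rfl | rfl | rfl <;>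
      first
        | exact absurd rfl hne
        | exact (K hrp hqr.symm hσ C2).trans hρτ.symm
        | exact (K hrp hqr.symm (symmC hσ) C2).trans hρτ.symm
        | exact (K hrp hqr.symm C1 hσ).symm
        | exact (K hrp hqr.symm C1 (symmC hσ)).symm
        | exact (K hqr.symm.symm hqp (symmC C1) hσ).symm
        | exact (K hqr hqp (symmC C1) hσ).symm
        | exact (K hqr.symm hrp (symmC C1) hσ).symm
        | exact (K hrq hrp (symmC C1) (symmC hσ)).symm
        | exact (K hqr.symm hrp (symmC C1) (symmC hσ)).symm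
  have he₀ := D.cen_of_act (D.act_of_cen hc hp) he
  have hmem := D.beta_mem hb hO he₀ hρ1
  refine hnd ⟨e, p, ρ, he₀, hρ1, D.cen_z_le hc (D.symm _ _ hp)
    (D.isX_mem_z hp ⟨D.vOf_fix he₀ (D.within2 (D.symm _ _ he) (D.symm _ _ hp)) (by omega) hmem,
      D.vOf_fix he₀ (Within.single (D.symm _ _ he)) (by omega) hmem,
      D.vOf_sq (by omega) he₀ hmem, fun t htc _ => ?_⟩)⟩
  have he₁ := D.cen_of_act (D.act_of_cen hc hq) he'
  refine mul_inv_eq_iff_eq_mul.1 (all (p' := t • p) (q' := t • q)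
    ⟨t • e, t • e', D.adj_image htc hp, D.adj_image htc hq, fun h => hqp (smul_left_cancel t h),
      D.smul t _ _ he, D.smul t _ _ he', fun h => hec (smul_left_cancel t (h.trans htc.symm)),
      fun h => he'c (smul_left_cancel t (h.trans htc.symm)), D.beta_conj hb hO he₀ hρ1,
      D.beta_conj hb hO he₁ hρ2⟩)

/-- The odd critical distance is at most three. -/
theorem odd_false : False := by
  by_cases h : D.Dep
  exacts [D.dep_false hb hO h, D.not_dep_false hb hO h]

end Mix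

end CfsgLib.SThreeAmalgam
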