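import Cfsg.Agent.Amalgam.MixTrans

/-!
The bound for `Mix` when the critical distance is one or two.
-/

set_option autoImplicit false
set_option linter.unusedSectionVars false
set_option linter.unusedVariables false

namespace CfsgLib.SThreeAmalgam

open scoped commutatorElement
open Subgroup

variable {G V : Type*} [Group G] [MulAction G V]

/-- Two cosets suffice. -/
theorem card_le_two_mul {H K : Subgroup G} [Finite K] (hHK : H ≤ K)
    (h : ∀ x ∈ K, ∀ y ∈ K, x ∉ H → y ∉ H → x⁻¹ * y ∈ H) : Nat.card K ≤ 2 * Nat.card H := by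
  haveI : Finite H := Finite.of_injective _ (inclusion_injective hHK)
  by_cases hKH : K ≤ H
  · rw [le_antisymm hHK hKH]; omega
  obtain ⟨s, hs, hsH⟩ := SetLike.not_le_iff_exists.1 hKH
  classical
  let f : K → H ⊕ H := fun k =>
    if hk : (k : G) ∈ H then Sum.inl ⟨k, hk⟩ else Sum.inr ⟨s⁻¹ * k, h s hs k k.2 hsH hk⟩
  have hf : Function.Injective f := by
    intro x y hxy
    simp only [f] at hxy
    split at hxy <;> split at hxy <;> simp_all
  calc Nat.card K ≤ Nat.card (H ⊕ H) := Nat.card_le_card_of_injective f hf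
    _ = 2 * Nat.card H := by rw [Nat.card_sum]; ring

namespace Mix

variable (D : Mix G V) {a b c d e f p q y : V}

/-- The elements in the kernel at a vertex and at all its neighbours. -/
def deep (c : V) : Subgroup G := kern D.R c ⊓ ⨅ (y : V) (_ : D.R c y), kern D.R y

variable {D}

theorem mem_deep {g : G} {c : V} :
    g ∈ D.deep c ↔ g ∈ kern D.R c ∧ ∀ y, D.R c y → g ∈ kern D.R y := by
  simp only [deep, mem_inf, mem_iInf]

theorem deep_le (c : V) : D.deep c ≤ kern D.R c := inf_le_left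

theorem deep_le' (h : D.R c y) : D.deep c ≤ kern D.R y := fun _ hg => (mem_deep.1 hg).2 y h

variable (D)

theorem conj_deep {g x : G} (hx : x ∈ D.deep c) : g * x * g⁻¹ ∈ D.deep (g • c) := by
  refine mem_deep.2 ⟨D.conj_kern (deep_le c hx), fun y hy => ?_⟩
  have h : D.R c (g⁻¹ • y) := by simpa using D.smul g⁻¹ _ _ hy
  simpa using D.conj_kern (g := g) ((mem_deep.1 hx).2 _ h)

variable [∀ v, Finite (MulAction.stabilizer G (v : V))]

theorem finite_of_fix {K : Subgroup G} (hK : ∀ k ∈ K, k • p = p) : Finite K :=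
  Finite.of_injective (inclusion (show K ≤ MulAction.stabilizer G p from hK)) (inclusion_injective _)

/-- A subgroup fixing an edge has index at most two over its intersection with either kernel. -/
theorem card_le_two (hqp : D.R q p) {K : Subgroup G} (hK : K ≤ est q p) :
    Nat.card K ≤ 2 * Nat.card (K ⊓ kern D.R q : Subgroup G) := by
  haveI := finite_of_fix (V := V) (p := q) (fun k hk => (hK hk).1)
  exact card_le_two_mul inf_le_left fun x hx y hy hxQ hyQ =>
    ⟨K.mul_mem (K.inv_mem hx) hy, D.inv_mul_mem_Q hqp (hK hx).1 (hK hx).2 (hK hy).1 (hK hy).2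
      (fun h => hxQ ⟨hx, h⟩) fun h => hyQ ⟨hy, h⟩⟩

theorem card_est_le (h : D.R a c) :
    Nat.card (est (G := G) a c) ≤ 2 * Nat.card (kern (G := G) D.R a) := by
  have h' := D.card_le_two h (le_refl (est (G := G) a c))
  rwa [inf_eq_right.2 (D.kern_le_est h)] at h'

theorem card_est_le' (h : D.R a c) :
    Nat.card (est (G := G) a c) ≤ 2 * Nat.card (kern (G := G) D.R c) := by
  rw [est_comm]; exact D.card_est_le (D.symm _ _ h)

/-- Three steps from a kernel to the deep kernel. -/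
theorem card_kern_le_deep (c : V) :
    Nat.card (kern (G := G) D.R c) ≤ 8 * Nat.card (D.deep c) := by
  obtain ⟨y₁, h₁⟩ := D.exists_adj c
  obtain ⟨y₂, y₃, h₂, h₃, -, -, -, hall⟩ := D.third c y₁ h₁
  have s : ∀ {y}, D.R c y → kern (G := G) D.R c ≤ est y c := fun {y} hy q hq => ⟨hq.2 y hy, hq.1⟩
  have e1 := D.card_le_two (D.symm _ _ h₁) (s h₁)
  have e2 := D.card_le_two (D.symm _ _ h₂) (inf_le_left.trans (s h₂) :
    kern (G := G) D.R c ⊓ kern D.R y₁ ≤ est y₂ c)
  have e3 := D.card_le_two (D.symm _ _ h₃) ((inf_le_left.trans inf_le_left).trans (s h₃) :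
    kern (G := G) D.R c ⊓ kern D.R y₁ ⊓ kern D.R y₂ ≤ est y₃ c)
  have : kern (G := G) D.R c ⊓ kern D.R y₁ ⊓ kern D.R y₂ ⊓ kern D.R y₃ = D.deep c := by
    ext g
    simp only [mem_inf, mem_deep]
    refine ⟨fun h => ⟨h.1.1.1, fun y hy => ?_⟩, fun h =>
      ⟨⟨⟨h.1, h.2 _ h₁⟩, h.2 _ h₂⟩, h.2 _ h₃⟩⟩
    rcases hall y hy with rfl | rfl | rfl
    exacts [h.1.1.2, h.1.2, h.2]
  rw [this] at e3
  omega

variable [Nonempty V]

/-- The bound when the critical distance is one. -/
theorem bound_one (h1 : D.crit = 1) :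
    ∃ a c, D.R a c ∧ ¬ D.Cen a ∧ Nat.card (est (G := G) a c) ≤ 2 ^ 7 := by
  obtain ⟨x, hx⟩ := D.exists_critical
  have hxp := hx.1
  rw [h1] at hxp
  have bad : ∀ {p q}, ¬ D.Cen p → D.R p q → ∃ u ∈ zOf (G := G) D.R p, u ∉ kern D.R q := by
    intro p q hp hpq
    have hP : D.Path D.crit (pcons p (fun _ => q)) := by
      rw [h1]; exact (Path.zero _).cons hpq (fun h => absurd h (by omega))
    have := (h1 ▸ D.tr_one False : D.Tr D.crit False).critical hx hP hp
    simpa [h1] using this.exists_not_Q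
  have sub : ∀ {e p y}, D.Cen e → D.R e p → D.R e y → y ≠ p → ∀ g ∈ kern (G := G) D.R e,
      g ∈ kern D.R p → g ∈ kern D.R y → g ∈ D.deep e := by
    intro e p y he hp hy hyp g hge hgp hgy
    refine mem_deep.2 ⟨hge, fun z hz => ?_⟩
    by_cases h2 : z = p
    · rwa [h2]
    by_cases h3 : z = y
    · rwa [h3]
    obtain ⟨u, hu, hun⟩ := bad (D.act_of_cen he hp) (D.symm _ _ hp)
    have hup := (D.z_le_Q hu).1
    have hue := (D.z_le_Q hu).2 e (D.symm _ _ hp)
    have := D.conj_kern (g := u) hgy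
    rwa [D.swaps hue hup hp hun hy hz hyp h2 h3, ← D.z_comm_Q hu hgp, mul_inv_cancel_right] at this
  set a := x 0 with ha0
  set c := x 1 with hc0
  have ha : ¬ D.Cen a := hx.2.1
  have hac : D.R a c := hxp.adj Nat.one_pos
  have hcc := D.cen_of_act ha hac
  obtain ⟨e, f, he, hf, hec, hfc, hef, hall⟩ := D.third a c hac
  obtain ⟨a', ha', ha'a⟩ := D.exists_next (D.symm _ _ hac)
  obtain ⟨y, hy, hya⟩ := D.exists_next (D.symm _ _ he)
  obtain ⟨y', hy', hy'a⟩ := D.exists_next (D.symm _ _ hf)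
  refine ⟨a, c, hac, ha, ?_⟩
  have four : ∀ {e y}, D.R a e → D.R e y → y ≠ a → ∀ {K : Subgroup G}, K ≤ kern D.R a →
      Nat.card K ≤ 4 * Nat.card (K ⊓ D.deep e : Subgroup G) := by
    intro e y hae hey hya K hK
    have e1 := D.card_le_two (D.symm _ _ hae) (K := K)
      (fun g hg => ⟨(hK hg).2 e hae, (hK hg).1⟩)
    have e2 := D.card_le_two (D.symm _ _ hey) (K := K ⊓ kern D.R e)
      (fun g hg => ⟨hg.2.2 y hey, hg.2.1⟩)
    haveI := finite_of_fix (V := V) (p := a) (K := K ⊓ D.deep e) fun g hg => (hK hg.1).1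
    have hle : K ⊓ kern D.R e ⊓ kern D.R y ≤ K ⊓ D.deep e := fun g hg =>
      ⟨hg.1.1, sub (D.cen_of_act ha hae) (D.symm _ _ hae) hey hya g hg.1.2 (hK hg.1.1) hg.2⟩
    have e3 := card_le_of_le hle
    omega
  have e0 := D.card_est_le hac
  have e1 := four hac ha' ha'a (le_refl (kern (G := G) D.R a))
  have e2 := four he hy hya (inf_le_left : kern D.R a ⊓ D.deep c ≤ kern (G := G) D.R a)
  have e3 := four hf hy' hy'a
    (inf_le_left.trans inf_le_left : kern D.R a ⊓ D.deep c ⊓ D.deep e ≤ kern (G := G) D.R a)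
  set R : Subgroup G := kern D.R a ⊓ D.deep c ⊓ D.deep e ⊓ D.deep f with hR
  suffices hbot : R = ⊥ by
    rw [hbot, card_bot] at e3
    omega
  have memR : ∀ {g}, g ∈ R ↔ g ∈ kern D.R a ∧ ∀ z, D.R a z → g ∈ D.deep z := by
    intro g
    simp only [hR, mem_inf]
    refine ⟨fun h => ⟨h.1.1.1, fun z hz => ?_⟩, fun h =>
      ⟨⟨⟨h.1, h.2 _ hac⟩, h.2 _ he⟩, h.2 _ hf⟩⟩
    rcases hall z hz with rfl | rfl | rfl
    exacts [h.1.1.2, h.1.2, h.2]
  obtain ⟨v, hv, hvn⟩ := bad (D.act_of_cen hcc ha') (D.symm _ _ ha')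
  have hvc := (D.z_le_Q hv).2 c (D.symm _ _ ha')
  refine D.eq_bot_mover (D.symm _ _ hac) (fun g hg => ⟨(memR.1 hg).1.2 c hac, (memR.1 hg).1.1⟩)
    (fun g hg n hn => ?_) hvc (D.moves hvc (D.z_le_Q hv).1 ha' hvn (D.symm _ _ hac) ha'a.symm) ?_
  · rw [memR] at hn ⊢
    refine ⟨D.conj_kern_self hg hn.1, fun z hz => ?_⟩
    have h : D.R a (g⁻¹ • z) := by
      have := D.smul g⁻¹ _ _ hz
      rwa [inv_smul_eq_iff.2 hg.symm] at this
    simpa using D.conj_deep (g := g) (hn.2 _ h)
  · refine mem_normalizer_iff.2 fun n => ?_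
    have key : ∀ m ∈ R, v * m * v⁻¹ = m := fun m hm => by
      rw [← D.z_comm_Q hv (deep_le' ha' ((memR.1 hm).2 c hac)), mul_inv_cancel_right]
    refine ⟨fun hn => by rwa [key n hn], fun hn => ?_⟩
    have h2 := key _ hn
    have h3 : v * n * v⁻¹ = n :=
      mul_left_cancel (a := v) (mul_right_cancel (b := v⁻¹) (by rw [h2]))
    rwa [h3] at hn

/-- The bound when the critical distance is two. -/
theorem bound_two (h2 : D.crit = 2) :
    ∃ a c, D.R a c ∧ ¬ D.Cen a ∧ Nat.card (est (G := G) a c) ≤ 2 ^ 7 := by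
  obtain ⟨x, hx⟩ := D.exists_critical
  have hxp := hx.1
  rw [h2] at hxp
  have bad : ∀ {p q r}, ¬ D.Cen p → D.R p q → D.R q r → p ≠ r →
      ∃ u ∈ zOf (G := G) D.R p, u ∉ kern D.R r := by
    intro p q r hp hpq hqr hpr
    have hP : D.Path D.crit (pcons p (pcons q (fun _ => r))) := by
      rw [h2]
      exact ((Path.zero _).cons hqr (fun h => absurd h (by omega))).cons hpq (fun _ => hpr)
    have := (h2 ▸ D.tr_two False : D.Tr D.crit False).critical hx hP hp
    simpa [h2] using this.exists_not_Q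
  set a := x 0 with ha0
  set c := x 1 with hc0
  set a' := x 2 with ha'0
  have ha : ¬ D.Cen a := hx.2.1
  have hac : D.R a c := hxp.adj (by omega)
  have hca' : D.R c a' := hxp.adj (by omega)
  have haa' : a ≠ a' := hxp.ne2 (i := 0) le_rfl
  have hcc := D.cen_of_act ha hac
  have ha' := D.act_of_cen hcc hca'
  obtain ⟨e, f, he, hf, hec, hfc, hef, hall⟩ := D.third a c hac
  have hee := D.cen_of_act ha he
  obtain ⟨w, hw, hwn⟩ := bad ha' (D.symm _ _ hca') (D.symm _ _ hac) haa'.symm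
  have hwc : w • c = c := (D.z_le_Q hw).2 c (D.symm _ _ hca')
  have hwa : w • a = a := D.fix ha' ((Within.single (D.symm _ _ hca')).snoc (D.symm _ _ hac))
    (by omega) hw
  have one : D.One := by
    refine D.one_of hee (D.symm _ _ hca') (fun z hz => ?_) fun z hz hzQ => ?_
    · exact ⟨D.fix ha ((Within.single hac).snoc hca') (by omega) (D.cen_z_le hee he hz),
        (D.z_le_Q (D.cen_z_le hee he hz)).2 c hac⟩
    · have h := D.z_comm_Q hw hzQ
      refine D.cen_inf hac he hec hcc ?_ hz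
      exact D.mem_cen_z_of_comm ha hac (D.cen_z_le hee he hz) hwa hwc hwn h.symm
  refine ⟨a, c, hac, ha, ?_⟩
  obtain ⟨y, z, hy, hz, hya, hza, hyz, hyall⟩ := D.third e a (D.symm _ _ he)
  have hzcy : D.zc c ∉ kern D.R y := fun hcon => by
    obtain ⟨u, hu, hun⟩ := bad ha he hy hya.symm
    obtain ⟨p, hp, q, hq, rfl⟩ := D.exists_mul ha hac he hec hu
    refine hun (mul_mem ?_ (D.cen_le_Q hee (Within.single hy) (by omega) hq))
    rcases one.eq_or hcc hp with rfl | rfl
    exacts [one_mem _, hcon]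
  have swapf : ∀ n ∈ D.deep c, n ∈ D.deep e → n ∈ D.deep f := fun n hn hne => by
    have := D.conj_deep (g := w) hne
    rwa [D.swaps hwa hwc hac hwn he hf hec hfc hef.symm, ← D.z_comm_Q hw (deep_le' hca' hn),
      mul_inv_cancel_right] at this
  set R : Subgroup G := D.deep c ⊓ D.deep e with hR
  have hRa : R ≤ est a c := fun n hn =>
    ⟨(deep_le' (D.symm _ _ hac) hn.1).1, (deep_le c hn.1).1⟩
  have hbot : R = ⊥ := by
    refine D.eq_bot_avoid hcc hac hRa (fun t ht n hn => ?_) fun g hg hgz => ?_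
    · refine ⟨by simpa [show t • c = c from ht.2] using D.conj_deep (g := t) hn.1, ?_⟩
      have h : D.R a (t⁻¹ • e) := D.adj_image (inv_smul_eq_iff.2 ht.1.symm) he
      rcases hall _ h with h' | h' | h'
      · exact absurd (inv_smul_eq_iff.1 h') (by rw [ht.2]; exact hec)
      · have := D.conj_deep (g := t) hn.2
        rwa [show t • e = e by conv_rhs => rw [← smul_inv_smul t e, h']] at this
      · have := D.conj_deep (g := t) (swapf n hn.1 hn.2)
        rwa [show t • f = e by rw [← h', smul_inv_smul]] at this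
    · rcases one.eq_or hcc hgz with rfl | rfl
      · rfl
      · exact absurd (deep_le' hy hg.2) hzcy
  have e0 := D.card_est_le' hac
  have e1 := D.card_kern_le_deep c
  have e2 := D.card_le_two (D.symm _ _ he) (K := D.deep c)
    (fun g hg => ⟨(deep_le' (D.symm _ _ hac) hg).2 e he, (deep_le' (D.symm _ _ hac) hg).1⟩)
  have e3 := D.card_le_two (D.symm _ _ hy) (K := D.deep c ⊓ kern D.R e)
    (fun g hg => ⟨hg.2.2 y hy, hg.2.1⟩)
  have e4 := D.card_le_two (D.symm _ _ hz) (K := D.deep c ⊓ kern D.R e ⊓ kern D.R y)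
    (fun g hg => ⟨hg.1.2.2 z hz, hg.1.2.1⟩)
  have heq : D.deep c ⊓ kern D.R e ⊓ kern D.R y ⊓ kern D.R z = R := by
    ext g
    simp only [hR, mem_inf, mem_deep (c := e)]
    refine ⟨fun h => ⟨h.1.1.1, h.1.1.2, fun v hv => ?_⟩, fun h =>
      ⟨⟨⟨h.1, h.2.1⟩, h.2.2 _ hy⟩, h.2.2 _ hz⟩⟩
    rcases hyall v hv with rfl | rfl | rfl
    exacts [deep_le' (D.symm _ _ hac) h.1.1.1, h.1.2, h.2]
  rw [heq, hbot, card_bot] at e4
  omega

end Mix

end CfsgLib.SThreeAmalgam
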