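import Cfsg.Agent.Amalgam.MixThree
import Cfsg.Agent.Amalgam.MixSmall

/-!
The bound for `Mix` when the critical distance is three.
-/

set_option autoImplicit false
set_option linter.unusedSectionVars false
set_option linter.unusedVariables false

namespace CfsgLib.SThreeAmalgam

open scoped commutatorElement
open Subgroup

variable {G V : Type*} [Group G] [MulAction G V]

namespace Mix

variable (D : Mix G V) {a a₂ c d d' e e' f f' g l l' p q y : V}

/-- `l` is an outer vertex of `c` seen from `a`. -/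
def Outer (a c d l : V) : Prop := D.R a c ∧ D.R c d ∧ D.R d l ∧ a ≠ d ∧ c ≠ l

/-- The kernels of everything within distance two. -/
def deep2 (c : V) : Subgroup G :=
  ⨅ (p : V) (_ : D.R c p) (q : V) (_ : D.R p q), kern D.R q

/-- The elements deep at every neighbour. -/
def core (a : V) : Subgroup G := kern D.R a ⊓ ⨅ (e : V) (_ : D.R a e), D.deep e

variable {D}

theorem mem_deep2 {k : G} : k ∈ D.deep2 c ↔ ∀ p, D.R c p → ∀ q, D.R p q → k ∈ kern D.R q := by
  simp only [deep2, mem_iInf]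

theorem mem_core {k : G} : k ∈ D.core a ↔ k ∈ kern D.R a ∧ ∀ e, D.R a e → k ∈ D.deep e := by
  simp only [core, mem_inf, mem_iInf]

theorem core_le (a : V) : D.core a ≤ kern D.R a := inf_le_left

theorem core_le' (h : D.R a e) : D.core a ≤ D.deep e := fun _ hk => (mem_core.1 hk).2 e h

variable (D)

theorem conj_deep2 {s x : G} (hx : x ∈ D.deep2 c) : s * x * s⁻¹ ∈ D.deep2 (s • c) := by
  refine mem_deep2.2 fun p hp q hq => ?_
  have h1 : D.R c (s⁻¹ • p) := by simpa using D.smul s⁻¹ _ _ hp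
  simpa using D.conj_kern (g := s) (mem_deep2.1 hx _ h1 _ (D.smul s⁻¹ _ _ hq))

theorem conj_core {s x : G} (hs : s • a = a) (hx : x ∈ D.core a) : s * x * s⁻¹ ∈ D.core a := by
  refine mem_core.2 ⟨D.conj_kern_self hs (core_le a hx), fun e he => ?_⟩
  have h : D.R a (s⁻¹ • e) := D.adj_image (inv_smul_eq_iff.2 hs.symm) he
  simpa using D.conj_deep (g := s) (core_le' h hx)

theorem Q_of_two {t : G} (ht : t • a = a) (hp : D.R a p) (hq : D.R a q) (hpq : q ≠ p)
    (htp : t • p = p) (htq : t • q = q) : t ∈ kern D.R a := by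
  by_contra h
  exact D.moves ht htp hp h hq hpq htq

theorem mul_mem_Q_iff {s t : G} (hb : D.R a p) (hsa : s • a = a) (hsb : s • p = p)
    (hta : t • a = a) (htb : t • p = p) :
    s * t ∈ kern D.R a ↔ (s ∈ kern D.R a ↔ t ∈ kern D.R a) := by
  by_cases hs : s ∈ kern D.R a
  · simp [hs, mul_mem_cancel_left hs]
  by_cases ht : t ∈ kern D.R a
  · simp [hs, ht, mul_mem_cancel_right ht]
  · simp [hs, ht, D.mul_mem_Q hb hsa hsb hta htb hs ht]

variable [Nonempty V] (hb : D.crit = 3)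
include hb

theorem outer_inj (hc : D.Cen c) (h : D.Outer a c d l) (h' : D.Outer a c d' l')
    (he : D.zc l = D.zc l') : d = d' ∧ l = l' := by
  obtain ⟨-, hcd, hdl, had, hcl⟩ := h
  obtain ⟨-, hcd', hdl', had', hcl'⟩ := h'
  have hlC := D.cen_of_act (D.act_of_cen hc hcd) hdl
  have hd : d = d' := by
    by_contra hne
    exact D.zc_ne hlC (D.inj4 hb hlC (D.symm _ _ hdl) (D.symm _ _ hcd) hcd' hdl' hcl.symm hne hcl'
      D.zc_mem (he ▸ D.zc_mem))
  refine ⟨hd, ?_⟩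
  by_contra hne
  subst hd
  exact D.zc_ne_zc hdl hdl' (Ne.symm hne) hlC he

theorem exists_ext (hdA : ¬ D.Cen d) (hl : D.R d l) :
    ∃ a'' g, D.R l a'' ∧ D.R a'' g ∧ a'' ≠ d ∧ g ≠ l := by
  obtain ⟨a'', h1, h2⟩ := D.exists_next (D.symm _ _ hl)
  obtain ⟨g, h3, h4⟩ := D.exists_next (D.symm _ _ h1)
  exact ⟨a'', g, h1, h3, h2, h4⟩

theorem outer_prod (hc : D.Cen c) (h : D.Outer a c d l) (h' : D.Outer a c d' l') :
    D.zc l * D.zc l' ∈ zOf D.R a := by
  obtain ⟨hac, hcd, hdl, had, hcl⟩ := h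
  obtain ⟨-, hcd', hdl', had', hcl'⟩ := h'
  have one := D.one_three hb
  have hdA := D.act_of_cen hc hcd
  have hlC := D.cen_of_act hdA hdl
  have hzl : D.zc l ∈ zOf D.R d := D.cen_z_le hlC hdl D.zc_mem
  have hzc : D.zc c ∈ zOf D.R a := D.cen_z_le hc hac D.zc_mem
  by_cases hd : d' = d
  · subst hd
    by_cases hl : l' = l
    · subst hl; rw [D.z_sq D.zc_mem]; exact one_mem _
    rw [D.third_eq one hdA (D.symm _ _ hcd) hdl hdl' hcl.symm hcl'.symm hl, ← mul_assoc,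
      ← D.cen_comm hc D.zc_mem ((D.z_le_Q hzl).2 c (D.symm _ _ hcd)) |>.symm, mul_assoc,
      D.z_sq D.zc_mem, mul_one]
    exact hzc
  · obtain ⟨a'', g, hla, hag, hne1, hne2⟩ := D.exists_ext hb hdA hdl
    have hw := fun {e : V} (he : D.R a e) (hec : e ≠ c) =>
      D.w_image hb hc he hac hcd hdl hla hag hec had hcl.symm hne1 hne2
    obtain ⟨e₀, he₀, he₀c⟩ := D.exists_next hac
    obtain ⟨hwc, hwd, hwa, hwn, -⟩ := hw he₀ he₀c
    set w := D.zc g
    have hwd' : w • a = d' :=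
      D.swaps hwc hwd hcd hwn (D.symm _ _ hac) hcd' had hd had'.symm
    have ww : w • d' = a := by rw [← hwd', ← mul_smul, D.z_sq D.zc_mem, one_smul]
    have he : D.R a (w • l') := ww ▸ D.smul w _ _ hdl'
    have hec : w • l' ≠ c := fun h => hcl' (smul_left_cancel w (hwc.trans h.symm))
    have him := (hw he hec).2.2.2.2
    rw [← mul_smul, D.z_sq D.zc_mem, one_smul] at him
    have hwlC := D.cen_of_act (D.act_of_cen' hc hac) he
    have hze : D.zc (w • l') ∈ zOf D.R a := D.cen_z_le hwlC he D.zc_mem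
    have hm := mul_mem hze hzc
    rw [him, ← mul_assoc, ← D.comm (D.act_of_cen' hc hac) (D.within2 hac hcd) (by omega) hm hzl,
      mul_assoc, D.z_sq D.zc_mem, mul_one]
    exact hm

theorem deep_of_comm (hc : D.Cen c) (h : D.Outer a c d l) {k : G} (hk : k ∈ kern D.R a)
    (hkl : k * D.zc l = D.zc l * k) : k ∈ D.deep c := by
  obtain ⟨hac, hcd, hdl, had, hcl⟩ := h
  have one := D.one_three hb
  have hkc := hk.2 c hac
  have him : ∀ {d' l'}, D.Outer a c d' l' → D.Outer a c (k • d') (k • l') := by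
    rintro d' l' ⟨-, h1, h2, h3, h4⟩
    exact ⟨hac, D.adj_image hkc h1, D.smul k _ _ h2,
      fun e => h3 (smul_left_cancel k (hk.1.trans e)), fun e => h4 (smul_left_cancel k (hkc.trans e))⟩
  have hlC := D.cen_of_act (D.act_of_cen hc hcd) hdl
  have key := D.outer_inj hb hc (him ⟨hac, hcd, hdl, had, hcl⟩) ⟨hac, hcd, hdl, had, hcl⟩
    (by rw [← one.conj_zc k hlC, hkl, mul_inv_cancel_right])
  have hkQc : k ∈ kern D.R c :=
    D.Q_of_two hkc (D.symm _ _ hac) hcd had.symm hk.1 key.1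
  refine mem_deep.2 ⟨hkQc, fun y hy => ?_⟩
  by_cases hya : y = a
  · rwa [hya]
  obtain ⟨l', hl', hl'c⟩ := D.exists_next (D.symm _ _ hy)
  have ho : D.Outer a c y l' := ⟨hac, hy, hl', Ne.symm hya, hl'c.symm⟩
  have hl'C := D.cen_of_act (D.act_of_cen hc hy) hl'
  have hx := D.outer_prod hb hc ⟨hac, hcd, hdl, had, hcl⟩ ho
  have h2 := D.outer_inj hb hc (him ho) ho (by
    rw [← one.conj_zc k hl'C, show D.zc l' = D.zc l * (D.zc l * D.zc l') by
      rw [← mul_assoc, D.z_sq D.zc_mem, one_mul]]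
    exact mul_inv_eq_iff_eq_mul.2 (Commute.mul_right (show Commute k (D.zc l) from hkl)
      (show Commute k (D.zc l * D.zc l') from D.z_comm_Q hx hk)).eq)
  exact D.Q_of_two (hkQc.2 y hy) (D.symm _ _ hy) hl' hl'c hkc h2.2

omit hb in
theorem deep_comm (hc : D.Cen c) (h : D.Outer a c d l) {k : G} (hk : k ∈ D.deep c) :
    k * D.zc l = D.zc l * k :=
  D.cen_comm (D.cen_of_act (D.act_of_cen hc h.2.1) h.2.2.1) D.zc_mem
    ((deep_le' h.2.1 hk).2 l h.2.2.1)

theorem Q_iff (hc : D.Cen c) (h : D.Outer a c d l) {k : G} (hk : k ∈ kern D.R a) :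
    k ∈ kern D.R c ↔ k * D.zc l * k⁻¹ * D.zc l ∈ zOf D.R c := by
  obtain ⟨hac, hcd, hdl, had, hcl⟩ := h
  have one := D.one_three hb
  have hdA := D.act_of_cen hc hcd
  have hlC := D.cen_of_act hdA hdl
  have hzl : D.zc l ∈ zOf D.R d := D.cen_z_le hlC hdl D.zc_mem
  rw [one.conj_zc k hlC]
  constructor
  · intro hQ
    have hkd := hQ.2 d hcd
    have hkl : D.R d (k • l) := D.adj_image hkd hdl
    by_cases h : k • l = l
    · rw [h, D.z_sq D.zc_mem]; exact one_mem _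
    rw [D.third_eq one hdA (D.symm _ _ hcd) hdl hkl hcl.symm
      (fun e => hcl (smul_left_cancel k (hQ.1.trans e.symm))) h, mul_assoc, D.z_sq D.zc_mem, mul_one]
    exact D.zc_mem
  · intro hm
    refine D.Q_of_two (hk.2 c hac) (D.symm _ _ hac) hcd had.symm hk.1 ?_
    by_contra hne
    have h1 : D.R c (k • d) := D.adj_image (hk.2 c hac) hcd
    have h2 : D.R (k • d) (k • l) := D.smul k _ _ hdl
    have h3 : k • l ≠ c := fun e => hcl (smul_left_cancel k ((hk.2 c hac).trans e.symm))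
    have hklC := D.cen_smul k _ hlC
    have hin : D.zc (k • l) ∈ zOf D.R d := by
      have := mul_mem (D.cen_z_le hc (D.symm _ _ hcd) hm) hzl
      rwa [mul_assoc, D.z_sq D.zc_mem, mul_one] at this
    have := D.mem_Q4 hb hklC (D.symm _ _ h2) (D.symm _ _ h1) hcd h3 hne hin (D.z_le_Q D.zc_mem)
    exact D.zc_ne hklC (D.cen_inf (D.symm _ _ h1) h2 h3 hc this D.zc_mem)

theorem w_step {a'' : V} (hc : D.Cen c) (h : D.Outer a c d l) (hla : D.R l a'') (hag : D.R a'' g)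
    (hne1 : a'' ≠ d) (hne2 : g ≠ l) {k : G} (hk : k ∈ D.deep c) :
    k * D.zc g * k⁻¹ * D.zc g ∈ zOf D.R d := by
  obtain ⟨hac, hcd, hdl, had, hcl⟩ := h
  have one := D.one_three hb
  have hdA := D.act_of_cen hc hcd
  have hlC := D.cen_of_act hdA hdl
  have hgC := D.cen_of_act (D.act_of_cen hlC hla) hag
  have hkd : k ∈ kern D.R d := deep_le' hcd hk
  rw [one.conj_zc k hgC]
  exact D.outer_prod hb hlC
    ⟨hdl, D.adj_image (hkd.2 l hdl) hla, D.smul k _ _ hag,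
      fun e => hne1 (smul_left_cancel k (e.symm.trans hkd.1.symm)),
      fun e => hne2 (smul_left_cancel k (e.symm.trans (hkd.2 l hdl).symm))⟩
    ⟨hdl, hla, hag, hne1.symm, hne2.symm⟩

theorem parity (hc : D.Cen c) (ha : D.R a c) (ha₂ : D.R a₂ c) (hne : a₂ ≠ a) (he : D.R a e)
    (hf : D.R a f) (hec : e ≠ c) (hfc : f ≠ c) (hfe : f ≠ e) (he' : D.R a₂ e') (hf' : D.R a₂ f')
    (hec' : e' ≠ c) (hfc' : f' ≠ c) (hfe' : f' ≠ e') {k : G} (hk : k ∈ D.deep c) :
    (k ∈ kern D.R e' ↔ k ∈ kern D.R f') ↔ (k ∈ kern D.R e ↔ k ∈ kern D.R f) := by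
  obtain ⟨d, hd, hda, hda₂⟩ := D.exists_third (D.symm _ _ ha) (D.symm _ _ ha₂) hne.symm
  obtain ⟨l, hl, hlc⟩ := D.exists_next (D.symm _ _ hd)
  obtain ⟨a'', g, hla, hag, hne1, hne2⟩ := D.exists_ext hb (D.act_of_cen hc hd) hl
  obtain ⟨hwc, hwd, hwa, hwn, -⟩ :=
    D.w_image hb hc he ha hd hl hla hag hec hda.symm hlc hne1 hne2
  have hdA := D.act_of_cen hc hd
  have haA := D.act_of_cen' hc ha
  have hh := D.w_step hb hc ⟨ha, hd, hl, hda.symm, hlc.symm⟩ hla hag hne1 hne2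
    (k := k⁻¹) (inv_mem hk)
  set w := D.zc g
  have hwa₂ : w • a = a₂ :=
    D.swaps hwc hwd hd hwn (D.symm _ _ ha) (D.symm _ _ ha₂) hda.symm hda₂.symm hne
  rw [inv_inv] at hh
  set h := k⁻¹ * w * k * w with hh'
  have key : ∀ {x}, D.R a x → x ≠ c →
      (k ∈ kern D.R (w • x) ↔ (k ∈ kern D.R x ↔ h ∈ zOf D.R c)) := by
    intro x hx hxc
    have hxC := D.cen_of_act haA hx
    have wi : w⁻¹ = w := D.z_inv D.zc_mem
    have e1 : k ∈ kern D.R (w • x) ↔ k * h ∈ kern D.R x := by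
      have e2 : k * h = w * k * w⁻¹ := by rw [hh', wi]; group
      rw [e2]
      refine ⟨fun hm => ?_, fun hm => ?_⟩
      · have := D.conj_kern (g := w) hm
        rwa [← mul_smul, D.z_sq D.zc_mem, one_smul] at this
      · have := D.conj_kern (g := w) hm
        rwa [show w * (w * k * w⁻¹) * w⁻¹ = w * w * k * (w * w)⁻¹ by group, D.z_sq D.zc_mem,
          one_mul, inv_one, mul_one] at this
    have hfix : h • x = x ∧ h • a = a :=
      ⟨D.fix hdA (Within.step (D.symm _ _ hd) (D.within2 (D.symm _ _ ha) hx)) (by omega) hh,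
        D.fix hdA (D.within2 (D.symm _ _ hd) (D.symm _ _ ha)) (by omega) hh⟩
    have hkfix : k • x = x ∧ k • a = a :=
      ⟨(deep_le' (D.symm _ _ ha) hk).2 x hx, (deep_le' (D.symm _ _ ha) hk).1⟩
    rw [e1, D.mul_mem_Q_iff (D.symm _ _ hx) hkfix.1 hkfix.2 hfix.1 hfix.2]
    refine iff_congr Iff.rfl ⟨fun hq => ?_, fun hq => ?_⟩
    · exact D.mem_Q4 hb hxC (D.symm _ _ hx) ha hd hxc hda.symm hh hq
    · exact D.cen_le_Q hc (D.within2 (D.symm _ _ ha) hx) (by omega) hq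
  have we : D.R a₂ (w • e) := hwa₂ ▸ D.smul w _ _ he
  have wf : D.R a₂ (w • f) := hwa₂ ▸ D.smul w _ _ hf
  have wec : w • e ≠ c := fun h => hec (smul_left_cancel w (h.trans hwc.symm))
  have wfc : w • f ≠ c := fun h => hfc (smul_left_cancel w (h.trans hwc.symm))
  have wfe : w • f ≠ w • e := fun h => hfe (smul_left_cancel w h)
  have ke := key he hec
  have kf := key hf hfc
  rcases (show (w • e = e' ∧ w • f = f') ∨ (w • e = f' ∧ w • f = e') by
    by_cases h1 : w • e = e'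
    · exact Or.inl ⟨h1, D.third_unique ha₂ he' wf hf' hec' wfc (h1 ▸ wfe) hfc' hfe'⟩
    · have h2 : w • e = f' := D.third_unique ha₂ he' we hf' hec' wec h1 hfc' hfe'
      exact Or.inr ⟨h2, D.third_unique ha₂ hf' wf he' hfc' wfc (h2 ▸ wfe) hec' hfe'.symm⟩)
    with ⟨h1, h2⟩ | ⟨h1, h2⟩ <;> rw [h1] at ke <;> rw [h2] at kf <;> tauto

theorem v_moves (hc : D.Cen c) (he : D.Outer a e y l) (hac : D.R a c) (hec : e ≠ c) :
    D.zc l • a = a ∧ D.zc l • c = c ∧ D.zc l ∉ kern D.R c := by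
  obtain ⟨hae, hey, hyl, hay, hel⟩ := he
  have haA := D.act_of_cen' hc hac
  have heC := D.cen_of_act haA hae
  have hlC := D.cen_of_act (D.act_of_cen heC hey) hyl
  have wl : Within D.R 3 l a :=
    Within.step (D.symm _ _ hyl) (D.within2 (D.symm _ _ hey) (D.symm _ _ hae))
  exact ⟨D.cen_fix hlC wl (by omega) D.zc_mem, D.cen_fix hlC (wl.snoc hac) (by omega) D.zc_mem,
    D.crit4 hb hlC (D.symm _ _ hyl) (D.symm _ _ hey) (D.symm _ _ hae) hac hel.symm hay.symm hec⟩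

theorem diag {ye le yf lf : V} (hc : D.Cen c) (hac : D.R a c) (hec : e ≠ c) (hfc : f ≠ c)
    (hfe : f ≠ e) (he : D.Outer a e ye le) (hf : D.Outer a f yf lf) {k : G} (hk : k ∈ D.deep c)
    (hke : k ∈ kern D.R e) (hkf : k ∈ kern D.R f) (hd : k ∈ D.deep e) : k ∈ D.deep f := by
  have one := D.one_three hb
  have haA := D.act_of_cen' hc hac
  have hfC := D.cen_of_act haA hf.1
  have hka : k ∈ kern D.R a := deep_le' (D.symm _ _ hac) hk
  by_contra hn
  obtain ⟨hva, hvc, hvn⟩ := D.v_moves hb hc he hac hec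
  obtain ⟨hva', hvc', hvn'⟩ := D.v_moves hb hc hf hac hfc
  have hkv : k * D.zc le = D.zc le * k := D.deep_comm (D.cen_of_act haA he.1) he hd
  have hkv' : k * D.zc lf ≠ D.zc lf * k := fun h => hn (D.deep_of_comm hb hfC hf hka h)
  have hz : k * D.zc lf * k⁻¹ * D.zc lf = D.zc f := by
    refine one.eq_zc hfC ((D.Q_iff hb hfC hf hka).1 hkf) fun h => hkv' ?_
    have := congrArg (· * D.zc lf) h
    simp only [one_mul, mul_assoc (k * D.zc lf * k⁻¹), D.z_sq D.zc_mem, mul_one] at this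
    exact mul_inv_eq_iff_eq_mul.1 this
  obtain ⟨d, hcd, hda⟩ := D.exists_next (D.symm _ _ hac)
  obtain ⟨x, hx, hxc⟩ := D.exists_next (D.symm _ _ hcd)
  obtain ⟨z, hz', hzc, hzx⟩ := D.exists_third (D.symm _ _ hcd) hx hxc.symm
  set v := D.zc le
  set v' := D.zc lf
  obtain ⟨a₂, ha₂, ha₂a, ha₂d⟩ := D.exists_third (D.symm _ _ hac) hcd hda.symm
  have hvd : v • d = a₂ := D.swaps hvc hva (D.symm _ _ hac) hvn hcd ha₂ hda ha₂a ha₂d
  have hvd' : v' • d = a₂ := D.swaps hvc' hva' (D.symm _ _ hac) hvn' hcd ha₂ hda ha₂a ha₂d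
  have vx : D.R a₂ (v • x) := hvd ▸ D.smul v _ _ hx
  have vx' : D.R a₂ (v' • x) := hvd' ▸ D.smul v' _ _ hx
  have vxc : v • x ≠ c := fun h => hxc (smul_left_cancel v (h.trans hvc.symm))
  have vxc' : v' • x ≠ c := fun h => hxc (smul_left_cancel v' (h.trans hvc'.symm))
  have same : k ∈ kern D.R (v' • x) ↔ k ∈ kern D.R (v • x) := by
    by_cases h : v • x = v' • x
    · rw [h]
    exact (D.parity hb hc hac (D.symm _ _ ha₂) ha₂a he.1 hf.1 hec hfc hfe vx' vx vxc' vxc h hk).2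
      (iff_of_true hke hkf)
  have sv : k ∈ kern D.R (v • x) ↔ k ∈ kern D.R x := by
    have vi : v⁻¹ = v := D.z_inv D.zc_mem
    refine ⟨fun h => ?_, fun h => ?_⟩
    · have := D.conj_kern (g := v) h
      rwa [← hkv, mul_inv_cancel_right, ← mul_smul, D.z_sq D.zc_mem, one_smul] at this
    · have := D.conj_kern (g := v) h
      rwa [← hkv, mul_inv_cancel_right] at this
  have sv' : k ∈ kern D.R (v' • x) ↔ D.zc f * k ∈ kern D.R x := by
    have vi : v'⁻¹ = v' := D.z_inv D.zc_mem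
    have hfy : yf ≠ a := hf.2.2.2.1.symm
    have hzv : v' * D.zc f = D.zc f * v' := D.cen_comm hfC D.zc_mem (D.cen_fix
      (D.cen_of_act (D.act_of_cen hfC hf.2.1) hf.2.2.1)
      (D.within2 (D.symm _ _ hf.2.2.1) (D.symm _ _ hf.2.1)) (by omega) D.zc_mem)
    have e1 : v' * k * v'⁻¹ = D.zc f * k := by
      have e2 : k * v' * k⁻¹ = D.zc f * v' := by
        rw [← hz, mul_assoc (k * v' * k⁻¹), D.z_sq D.zc_mem, mul_one]
      calc v' * k * v'⁻¹ = v' * (k * v' * k⁻¹) * k := by rw [vi]; group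
        _ = D.zc f * (v' * v') * k := by rw [e2, ← mul_assoc, hzv]; group
        _ = D.zc f * k := by rw [D.z_sq D.zc_mem, mul_one]
    refine ⟨fun h => ?_, fun h => ?_⟩
    · have := D.conj_kern (g := v') h
      rwa [e1, ← mul_smul, D.z_sq D.zc_mem, one_smul] at this
    · have := D.conj_kern (g := v') h
      rwa [← e1, show v' * (v' * k * v'⁻¹) * v'⁻¹ = v' * v' * k * (v' * v')⁻¹ by group,
        D.z_sq D.zc_mem, one_mul, inv_one, mul_one] at this
  have hzn : D.zc f ∉ kern D.R x :=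
    D.crit4 hb hfC (D.symm _ _ hf.1) hac hcd hx hfc hda.symm hxc.symm
  have hzf : D.zc f • x = x ∧ D.zc f • d = d :=
    ⟨D.fix haA (Within.step hac (D.within2 hcd hx)) (by omega) (D.cen_z_le hfC hf.1 D.zc_mem),
      D.fix haA (D.within2 hac hcd) (by omega) (D.cen_z_le hfC hf.1 D.zc_mem)⟩
  have hkx : k • x = x ∧ k • d = d := ⟨(deep_le' hcd hk).2 x hx, (deep_le' hcd hk).1⟩
  rw [D.mul_mem_Q_iff (D.symm _ _ hx) hzf.1 hzf.2 hkx.1 hkx.2] at sv'
  tauto

theorem core_all (hc : D.Cen c) (hac : D.R a c) (ho : D.Outer a c d l) {k : G}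
    (hk : k ∈ D.core a) (hl : k ∈ kern D.R l) : k ∈ D.deep2 c := by
  obtain ⟨-, hcd, hdl, had, hcl⟩ := ho
  have haA := D.act_of_cen' hc hac
  obtain ⟨e, f, he, hf, hec, hfc, hef, -⟩ := D.third a c hac
  have hke := deep_le _ (core_le' he hk)
  have hkf := deep_le _ (core_le' hf hk)
  obtain ⟨y, hy, hya⟩ := D.exists_next (D.symm _ _ he)
  obtain ⟨le, hle, hlee⟩ := D.exists_next (D.symm _ _ hy)
  have hoe : D.Outer a e y le := ⟨he, hy, hle, hya.symm, hlee.symm⟩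
  obtain ⟨hva, hvc, hvn⟩ := D.v_moves hb hc hoe hac hec
  have hkv : k * D.zc le = D.zc le * k :=
    D.deep_comm (D.cen_of_act haA he) hoe (core_le' he hk)
  obtain ⟨a₂, ha₂, ha₂a, ha₂d⟩ := D.exists_third (D.symm _ _ hac) hcd had
  set v := D.zc le
  have hvd : v • d = a₂ := D.swaps hvc hva (D.symm _ _ hac) hvn hcd ha₂ had.symm ha₂a ha₂d
  have hvl : k ∈ kern D.R (v • l) := by
    have := D.conj_kern (g := v) hl
    rwa [← hkv, mul_inv_cancel_right] at this
  have par : ∀ {p q r}, D.R c p → p ≠ a → D.R p q → D.R p r → q ≠ c → r ≠ c →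
      k ∈ kern D.R q → k ∈ kern D.R r := by
    intro p q r hp hpa hq hr hqc hrc hkq
    by_cases h : r = q
    · rwa [h]
    · exact ((D.parity hb hc hac (D.symm _ _ hp) hpa he hf hec hfc hef.symm hq hr hqc hrc h
        (core_le' hac hk)).2 (iff_of_true hke hkf)).1 hkq
  refine mem_deep2.2 fun p hp q hq => ?_
  by_cases hqc : q = c
  · rw [hqc]; exact deep_le _ (core_le' hac hk)
  by_cases hpa : p = a
  · exact deep_le _ (core_le' (hpa ▸ hq) hk)
  by_cases hpd : p = d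
  · subst hpd; exact par hp hpa hdl hq hcl.symm hqc hl
  · have hpa₂ : p = a₂ :=
      D.third_unique (D.symm _ _ hac) hcd hp ha₂ had.symm hpa hpd ha₂a ha₂d
    subst hpa₂
    exact par hp hpa (hvd ▸ D.smul v _ _ hdl) hq
      (fun h => hcl (smul_left_cancel v (hvc.trans h.symm))) hqc hvl

theorem comm_w {a'' : V} (hc : D.Cen c) (h : D.Outer a c d l) (hla : D.R l a'')
    (hag : D.R a'' g) (hne1 : a'' ≠ d) (hne2 : g ≠ l) {k : G} (hk : k ∈ D.core a)
    (hk2 : k ∈ D.deep2 c) : k * D.zc g = D.zc g * k := by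
  obtain ⟨hac, hcd, hdl, had, hcl⟩ := h
  obtain ⟨e, he, hec⟩ := D.exists_next hac
  obtain ⟨hwc, hwd, hwa, hwn, -⟩ :=
    D.w_image hb hc he hac hcd hdl hla hag hec had hcl.symm hne1 hne2
  have hh := D.w_step hb hc ⟨hac, hcd, hdl, had, hcl⟩ hla hag hne1 hne2 (core_le' hac hk)
  have haA := D.act_of_cen' hc hac
  have hdA := D.act_of_cen hc hcd
  have hlC := D.cen_of_act hdA hdl
  have hpA := D.act_of_cen hlC hla
  have hgC := D.cen_of_act hpA hag
  set w := D.zc g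
  have wi : w⁻¹ = w := D.z_inv D.zc_mem
  have h1 : k * w * k⁻¹ * w ∈ kern D.R e := by
    have hwe := D.smul w _ _ he
    have hkwe : k⁻¹ ∈ kern D.R (w • e) :=
      inv_mem (mem_deep2.1 hk2 _ (D.adj_image hwc (D.symm _ _ hac)) _ hwe)
    have := D.conj_kern (g := w) hkwe
    rw [← mul_smul, D.z_sq D.zc_mem, one_smul, wi] at this
    rw [show k * w * k⁻¹ * w = k * (w * k⁻¹ * w) by group]
    exact mul_mem (deep_le _ (core_le' he hk)) this
  have hzc := D.mem_Q4 hb (D.cen_of_act haA he) (D.symm _ _ he) hac hcd hec had hh h1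
  have hkl : k ∈ kern D.R l := mem_deep2.1 hk2 d hcd l hdl
  have hzl := D.com_mem_cen hpA (D.symm _ _ hla) (D.cen_z_le hgC hag (D.zc_mem (c := g)))
    (hkl.2 a'' hla) hkl.1
  rw [D.com_eq (D.cen_z_le hgC hag (D.zc_mem (c := g))), ← inv_mem_iff,
    show (w * (k * w * k⁻¹))⁻¹ = k * w⁻¹ * k⁻¹ * w⁻¹ by group, wi] at hzl
  have := D.cen_inf (D.symm _ _ hcd) hdl hcl.symm hc hzc hzl
  rw [mul_eq_one_iff_eq_inv, wi] at this
  exact mul_inv_eq_iff_eq_mul.1 this

theorem deep2_swap (hc : D.Cen c) (hac : D.R a c) (he : D.R a e) (hf : D.R a f) (hec : e ≠ c)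
    (hfc : f ≠ c) (hfe : f ≠ e) {k : G} (hk : k ∈ D.core a) (hk2 : k ∈ D.deep2 c)
    (hke : k ∈ D.deep2 e) : k ∈ D.deep2 f := by
  have one := D.one_three hb
  obtain ⟨d, hd, hda⟩ := D.exists_next (D.symm _ _ hac)
  have hdA := D.act_of_cen hc hd
  obtain ⟨l, hl, hlc⟩ := D.exists_next (D.symm _ _ hd)
  obtain ⟨l₂, hl₂, hl₂c, hl₂l⟩ := D.exists_third (D.symm _ _ hd) hl hlc.symm
  obtain ⟨a'', g, hla, hag, hne1, hne2⟩ := D.exists_ext hb hdA hl
  obtain ⟨a₃, g₂, hla₂, hag₂, hne3, hne4⟩ := D.exists_ext hb hdA hl₂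
  obtain ⟨hwc, hwd, hwa, hwn, him⟩ :=
    D.w_image hb hc he hac hd hl hla hag hec hda.symm hlc hne1 hne2
  obtain ⟨hwc', hwd', hwa', hwn', him'⟩ :=
    D.w_image hb hc he hac hd hl₂ hla₂ hag₂ hec hda.symm hl₂c hne3 hne4
  have hkw := D.comm_w hb hc ⟨hac, hd, hl, hda.symm, hlc.symm⟩ hla hag hne1 hne2 hk hk2
  have hkw' := D.comm_w hb hc ⟨hac, hd, hl₂, hda.symm, hl₂c.symm⟩ hla₂ hag₂ hne3 hne4 hk hk2
  set w := D.zc g
  set w' := D.zc g₂
  obtain ⟨a₂, ha₂, ha₂a, ha₂d⟩ := D.exists_third (D.symm _ _ hac) hd hda.symm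
  have h1 : w • a = a₂ :=
    D.swaps hwc hwd hd hwn (D.symm _ _ hac) ha₂ hda.symm ha₂d ha₂a
  have h2 : w' • a = a₂ :=
    D.swaps hwc' hwd' hd hwn' (D.symm _ _ hac) ha₂ hda.symm ha₂d ha₂a
  have hne : w' • e ≠ w • e := fun h => by
    rw [h] at him'
    exact D.zc_ne_zc hl hl₂ hl₂l (D.cen_of_act hdA hl) (mul_left_cancel (him.symm.trans him'))
  have hwf : w' • e = w • f := D.third_unique (D.symm _ _ ha₂) (h1 ▸ D.smul w _ _ he)
    (h2 ▸ D.smul w' _ _ he) (h1 ▸ D.smul w _ _ hf)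
    (fun h => hec (smul_left_cancel w (h.trans hwc.symm)))
    (fun h => hec (smul_left_cancel w' (h.trans hwc'.symm))) hne
    (fun h => hfc (smul_left_cancel w (h.trans hwc.symm)))
    (fun h => hfe (smul_left_cancel w h))
  have h3 := D.conj_deep2 (s := w') hke
  rw [← hkw', mul_inv_cancel_right, hwf] at h3
  have h4 := D.conj_deep2 (s := w) h3
  rwa [← hkw, mul_inv_cancel_right, ← mul_smul, D.z_sq D.zc_mem, one_smul] at h4

variable [∀ v, Finite (MulAction.stabilizer G (v : V))]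

theorem core_card (hc : D.Cen c) (hac : D.R a c) : Nat.card (D.core a) ≤ 4 := by
  have one := D.one_three hb
  have haA := D.act_of_cen' hc hac
  obtain ⟨e, f, he, hf, hec, hfc, hef, hall⟩ := D.third a c hac
  have hee := D.cen_of_act haA he
  obtain ⟨d, hd, hda⟩ := D.exists_next (D.symm _ _ hac)
  obtain ⟨l, hl, hlc⟩ := D.exists_next (D.symm _ _ hd)
  obtain ⟨y, hy, hya⟩ := D.exists_next (D.symm _ _ he)
  obtain ⟨le, hle, hlee⟩ := D.exists_next (D.symm _ _ hy)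
  have e1 := D.card_le_two (D.symm _ _ hl) (K := D.core a)
    (fun k hk => ⟨(deep_le' hd (core_le' hac hk)).2 l hl, (deep_le' hd (core_le' hac hk)).1⟩)
  have i1 : D.core a ⊓ kern D.R l = D.core a ⊓ D.deep2 c := by
    refine le_antisymm (fun k hk => ⟨hk.1, ?_⟩) fun k hk => ⟨hk.1, mem_deep2.1 hk.2 d hd l hl⟩
    exact D.core_all hb hc hac ⟨hac, hd, hl, hda.symm, hlc.symm⟩ hk.1 hk.2
  rw [i1] at e1
  have e2 := D.card_le_two (D.symm _ _ hle) (K := D.core a ⊓ D.deep2 c)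
    (fun k hk => ⟨(deep_le' hy (core_le' he hk.1)).2 le hle, (deep_le' hy (core_le' he hk.1)).1⟩)
  have i2 : D.core a ⊓ D.deep2 c ⊓ kern D.R le = D.core a ⊓ D.deep2 c ⊓ D.deep2 e := by
    refine le_antisymm (fun k hk => ⟨hk.1, ?_⟩) fun k hk => ⟨hk.1, mem_deep2.1 hk.2 y hy le hle⟩
    exact D.core_all hb hee he ⟨he, hy, hle, hya.symm, hlee.symm⟩ hk.1.1 hk.2
  rw [i2] at e2
  suffices h : D.core a ⊓ D.deep2 c ⊓ D.deep2 e = ⊥ by
    rw [h, card_bot] at e2
    omega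
  refine D.eq_bot_avoid hc hac (fun k hk => ?_) (fun t ht k hk => ?_) fun k hk hkz => ?_
  · exact ⟨(core_le a hk.1.1).1, (core_le a hk.1.1).2 c hac⟩
  · have hta : t • a = a := ht.1
    have htc : t • c = c := ht.2
    refine ⟨⟨D.conj_core hta hk.1.1, by simpa [htc] using D.conj_deep2 (s := t) hk.1.2⟩, ?_⟩
    have h : D.R a (t⁻¹ • e) := D.adj_image (inv_smul_eq_iff.2 hta.symm) he
    rcases hall _ h with h' | h' | h'
    · exact absurd (inv_smul_eq_iff.1 h') (by rw [htc]; exact hec)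
    · have := D.conj_deep2 (s := t) hk.2
      rwa [show t • e = e by conv_rhs => rw [← smul_inv_smul t e, h']] at this
    · have := D.conj_deep2 (s := t)
        (D.deep2_swap hb hc hac he hf hec hfc hef.symm hk.1.1 hk.1.2 hk.2)
      rwa [show t • f = e by rw [← h', smul_inv_smul]] at this
  · rcases one.eq_or hc hkz with rfl | rfl
    · rfl
    · exact absurd (mem_deep2.1 hk.2 y hy le hle) (D.crit4 hb hc (D.symm _ _ hac) he hy hle
        hec.symm hya.symm hlee.symm)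

theorem no_mixed {ye le yf lf : V} (hc : D.Cen c) (hac : D.R a c) (hec : e ≠ c) (hfc : f ≠ c)
    (hfe : f ≠ e) (hoe : D.Outer a e ye le) (hof : D.Outer a f yf lf) {τ g : G}
    (hτ : τ ∈ D.deep c) (hτe : τ ∈ kern D.R e) (hτf : τ ∈ kern D.R f) (hτn : τ ∉ D.deep f)
    (hg : g ∈ D.deep c) (hgf : g ∈ kern D.R f) : g ∈ kern D.R e := by
  have one := D.one_three hb
  have haA := D.act_of_cen' hc hac
  have hee := D.cen_of_act haA hoe.1
  have hfC := D.cen_of_act haA hof.1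
  have hda : D.deep c ≤ kern D.R a := deep_le' (D.symm _ _ hac)
  have sq : ∀ {l : V} {x : G}, x * D.zc l * D.zc l = x := fun {l x} => by
    rw [mul_assoc, D.z_sq D.zc_mem, mul_one]
  by_contra hge
  -- first an example that is deep at `f`
  obtain ⟨g, hg, hgf, hge, hgd⟩ : ∃ g : G, g ∈ D.deep c ∧ g ∈ kern D.R f ∧ g ∉ kern D.R e ∧
      g ∈ D.deep f := by
    by_cases hgd : g ∈ D.deep f
    · exact ⟨g, hg, hgf, hge, hgd⟩
    refine ⟨g * τ, mul_mem hg hτ, mul_mem hgf hτf, fun h => hge ((mul_mem_cancel_right hτe).1 h), ?_⟩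
    refine D.deep_of_comm hb hfC hof (hda (mul_mem hg hτ)) ?_
    have act : ∀ {x : G}, x ∈ D.deep c → x ∈ kern D.R f → x ∉ D.deep f →
        x * D.zc lf * x⁻¹ = D.zc f * D.zc lf := by
      intro x hx hxf hxn
      have := one.eq_zc hfC ((D.Q_iff hb hfC hof (hda hx)).1 hxf) fun h => hxn <| by
        refine D.deep_of_comm hb hfC hof (hda hx) ?_
        have h2 := congrArg (· * D.zc lf) h
        simp only [one_mul, sq] at h2
        exact mul_inv_eq_iff_eq_mul.1 h2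
      rw [← this, sq]
    have hgz : g * D.zc f * g⁻¹ = D.zc f := D.cen_conj hfC D.zc_mem hgf.1
    have : g * τ * D.zc lf * (g * τ)⁻¹ = D.zc lf := by
      calc g * τ * D.zc lf * (g * τ)⁻¹ = g * (τ * D.zc lf * τ⁻¹) * g⁻¹ := by group
        _ = g * D.zc f * g⁻¹ * (g * D.zc lf * g⁻¹) := by rw [act hτ hτf hτn]; group
        _ = D.zc lf := by
          rw [hgz, act hg hgf hgd, ← mul_assoc, D.z_sq D.zc_mem, one_mul]
    exact mul_inv_eq_iff_eq_mul.1 this
  clear τ hτ hτe hτf hτn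
  obtain ⟨s, hsa, hse, hs⟩ := D.swap a e hoe.1
  have hsc : s • c = f := D.swaps hsa hse hoe.1 hs hac hof.1 hec.symm hfe hfc
  have hsf : s • f = c := D.swaps hsa hse hoe.1 hs hof.1 hac hfe hec.symm hfc.symm
  set v := D.zc le
  have hlC : D.Cen le := D.cen_of_act (D.act_of_cen hee hoe.2.1) hoe.2.2.1
  set ρ := g * v * g⁻¹ * v with hρ
  have hρa : ρ ∈ zOf D.R a := by
    rw [hρ, one.conj_zc g hlC]
    have hga := hda hg
    exact D.outer_prod hb hee ⟨hoe.1, D.adj_image (hga.2 e hoe.1) hoe.2.1, D.smul g _ _ hoe.2.2.1,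
      fun h => hoe.2.2.2.1 (smul_left_cancel g (hga.1.trans h)),
      fun h => hoe.2.2.2.2 (smul_left_cancel g ((hga.2 e hoe.1).trans h))⟩ hoe
  have hρe : ρ ∉ zOf D.R e := fun h => hge ((D.Q_iff hb hee hoe (hda hg)).2 h)
  -- the same commutator at another outer vertex
  have hρ' : g * (s⁻¹ * v * s) * g⁻¹ * (s⁻¹ * v * s) = ρ := by
    have hs' : s⁻¹ • a = a ∧ s⁻¹ • e = e :=
      ⟨inv_smul_eq_iff.2 hsa.symm, inv_smul_eq_iff.2 hse.symm⟩
    have hx := D.outer_prod hb hee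
      (show D.Outer a e (s⁻¹ • ye) (s⁻¹ • le) from ⟨hoe.1, D.adj_image hs'.2 hoe.2.1,
        D.smul _ _ _ hoe.2.2.1, fun h => hoe.2.2.2.1 (smul_left_cancel s⁻¹ (hs'.1.trans h)),
        fun h => hoe.2.2.2.2 (smul_left_cancel s⁻¹ (hs'.2.trans h))⟩) hoe
    rw [← one.conj_zc s⁻¹ hlC, inv_inv] at hx
    set x := s⁻¹ * v * s * v with hxd
    have hv : s⁻¹ * v * s = x * v := by rw [hxd, sq]
    have hgx : g * x * g⁻¹ = x := by
      rw [D.z_comm_Q hx (hda hg), mul_inv_cancel_right]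
    have hvy : v ∈ zOf D.R ye := D.cen_z_le hlC hoe.2.2.1 D.zc_mem
    have hxv : x * v = v * x :=
      D.comm haA (D.within2 hoe.1 hoe.2.1) (by omega) hx hvy
    have hxρ : x * ρ = ρ * x := D.z_comm hρa hx
    calc g * (s⁻¹ * v * s) * g⁻¹ * (s⁻¹ * v * s) = g * x * g⁻¹ * (g * v * g⁻¹ * v) * v * (x * v) := by
          rw [hv]
          simp only [mul_assoc, inv_mul_cancel_left]
          rw [← mul_assoc v v, D.z_sq D.zc_mem, one_mul]
      _ = ρ * x * (v * (x * v)) := by rw [hgx, ← hρ, hxρ]; group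
      _ = ρ * (x * x) * (v * v) := by rw [← mul_assoc v x v, ← hxv]; group
      _ = ρ := by rw [D.z_sq hx, D.z_sq D.zc_mem, mul_one, mul_one]
  have hρs : s * g * s⁻¹ * v * (s * g * s⁻¹)⁻¹ * v = s * ρ * s⁻¹ := by
    rw [← hρ']; group
  set g' := s * g * s⁻¹ with hg'
  have hg'c : g' ∈ D.deep c := by
    have := D.conj_deep (g := s) hgd; rwa [hsf] at this
  have hg'f : g' ∈ D.deep f := by
    have := D.conj_deep (g := s) hg; rwa [hsc] at this
  have hg'e : g' ∉ kern D.R e := fun h => hge <| by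
    have := D.conj_kern_self (g := s⁻¹) (inv_smul_eq_iff.2 hse.symm) h
    rwa [hg', show s⁻¹ * (s * g * s⁻¹) * s⁻¹⁻¹ = g by group] at this
  have hge' : ∀ {x : G}, x ∈ D.deep c → x • e = e ∧ x • a = a := fun hx =>
    ⟨(hda hx).2 e hoe.1, (hda hx).1⟩
  have hm : g * g' ∈ kern D.R e := D.mul_mem_Q (D.symm _ _ hoe.1) (hge' hg).1 (hge' hg).2
    (hge' hg'c).1 (hge' hg'c).2 hge hg'e
  have hmd : g * g' ∈ D.deep e := D.diag hb hc hac hfc hec hfe.symm hof hoe (mul_mem hg hg'c)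
    (mul_mem hgf (deep_le _ hg'f)) hm (mul_mem hgd hg'f)
  have hmv := D.deep_comm hee hoe hmd
  have hρρ : s * ρ * s⁻¹ = ρ := by
    set σ := s * ρ * s⁻¹ with hσ
    have hσa : σ ∈ zOf D.R a := D.conj_z_self hsa hρa
    have hgσ : g * σ * g⁻¹ = σ := by rw [D.z_comm_Q hσa (hda hg), mul_inv_cancel_right]
    have e1 : g' * v * g'⁻¹ = σ * v := by rw [← hρs, sq]
    have e2 : g * v * g⁻¹ = ρ * v := by rw [hρ, sq]
    have e3 : σ * (ρ * v) = v := by
      calc σ * (ρ * v) = g * σ * g⁻¹ * (g * v * g⁻¹) := by rw [hgσ, e2]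
        _ = g * (g' * v * g'⁻¹) * g⁻¹ := by rw [e1]; group
        _ = g * g' * v * (g * g')⁻¹ := by group
        _ = v := by rw [hmv, mul_inv_cancel_right]
    have e4 : σ * ρ = 1 := mul_right_cancel (b := v) (by rw [mul_assoc, e3, one_mul])
    rw [eq_inv_of_mul_eq_one_left e4, D.z_inv hρa]
  exact hρe (D.mem_cen_z_of_comm haA hoe.1 hρa hsa hse hs (mul_inv_eq_iff_eq_mul.1 hρρ))

theorem bound_three : ∃ a c, D.R a c ∧ ¬ D.Cen a ∧ Nat.card (est (G := G) a c) ≤ 2 ^ 7 := by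
  obtain ⟨x, hx⟩ := D.exists_critical
  have hac : D.R (x 0) (x 1) := hx.1.adj (by omega)
  have haA : ¬ D.Cen (x 0) := hx.2.1
  generalize x 0 = a at hac haA
  generalize x 1 = c at hac
  have hc := D.cen_of_act haA hac
  refine ⟨a, c, hac, haA, ?_⟩
  obtain ⟨e, f, he, hf, hec, hfc, hef, hall⟩ := D.third a c hac
  have hee := D.cen_of_act haA he
  obtain ⟨d, hd, hda⟩ := D.exists_next (D.symm _ _ hac)
  obtain ⟨l, hl, hlc⟩ := D.exists_next (D.symm _ _ hd)
  obtain ⟨ye, hy, hya⟩ := D.exists_next (D.symm _ _ he)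
  obtain ⟨le, hle, hlee⟩ := D.exists_next (D.symm _ _ hy)
  obtain ⟨yf, hyf, hyfa⟩ := D.exists_next (D.symm _ _ hf)
  obtain ⟨lf, hlf, hlff⟩ := D.exists_next (D.symm _ _ hyf)
  have hoe : D.Outer a e ye le := ⟨he, hy, hle, hya.symm, hlee.symm⟩
  have hof : D.Outer a f yf lf := ⟨hf, hyf, hlf, hyfa.symm, hlff.symm⟩
  have hoc : D.Outer a c d l := ⟨hac, hd, hl, hda.symm, hlc.symm⟩
  have hda' : D.deep c ≤ kern D.R a := deep_le' (D.symm _ _ hac)
  have q0 := D.card_est_le hac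
  have q1 := D.card_le_two (D.symm _ _ hac) (K := kern (G := G) D.R a)
    (fun k hk => ⟨hk.2 c hac, hk.1⟩)
  have q2 := D.card_le_two (D.symm _ _ hd) (K := kern (G := G) D.R a ⊓ kern D.R c)
    (fun k hk => ⟨hk.2.2 d hd, hk.2.1⟩)
  have hW : kern D.R a ⊓ kern D.R c ⊓ kern D.R d ≤ D.deep c := fun k hk =>
    D.deep_of_comm hb hc hoc hk.1.1
      (D.cen_comm (D.cen_of_act (D.act_of_cen hc hd) hl) D.zc_mem (hk.2.2 l hl))
  haveI : ∀ v : V, Finite (D.deep v) := fun v =>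
    finite_of_fix (V := V) (p := v) fun k hk => (deep_le v hk).1
  haveI : Finite (D.core a) := finite_of_fix (V := V) (p := a) fun k hk => (core_le a hk).1
  have q3 := card_le_of_le hW
  have q4 := D.core_card hb hc hac
  set W₁ := D.deep c ⊓ kern D.R e ⊓ kern D.R f with hW₁
  have hsmall : W₁ ⊓ kern D.R ye ≤ D.core a := by
    intro k hk
    have hke : k ∈ D.deep e := D.deep_of_comm hb hee hoe (hda' hk.1.1.1)
      (D.cen_comm (D.cen_of_act (D.act_of_cen hee hy) hle) D.zc_mem (hk.2.2 le hle))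
    refine mem_core.2 ⟨hda' hk.1.1.1, fun z hz => ?_⟩
    rcases hall z hz with rfl | rfl | rfl
    exacts [hk.1.1.1, hke,
      D.diag hb hc hac hec hfc hef.symm hoe hof hk.1.1.1 hk.1.1.2 hk.1.2 hke]
  have p3 := D.card_le_two (D.symm _ _ hy) (K := W₁) (fun k hk => ⟨hk.1.2.2 ye hy, hk.1.2.1⟩)
  have p3' := card_le_of_le hsmall
  have p1 := D.card_le_two (D.symm _ _ hf) (K := D.deep c)
    (fun k hk => ⟨(hda' hk).2 f hf, (hda' hk).1⟩)
  by_cases hcase : W₁ ≤ D.core a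
  · have p2 := D.card_le_two (D.symm _ _ he) (K := D.deep c ⊓ kern D.R f)
      (fun k hk => ⟨(hda' hk.1).2 e he, (hda' hk.1).1⟩)
    have p4 := card_le_of_le (show D.deep c ⊓ kern D.R f ⊓ kern D.R e ≤ D.core a from
      fun k hk => hcase ⟨⟨hk.1.1, hk.2⟩, hk.1.2⟩)
    omega
  · obtain ⟨τ, hτ, hτn⟩ := SetLike.not_le_iff_exists.1 hcase
    have hτf : τ ∉ D.deep f := fun h => hτn <| by
      refine mem_core.2 ⟨hda' hτ.1.1, fun z hz => ?_⟩
      rcases hall z hz with rfl | rfl | rfl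
      exacts [hτ.1.1, D.diag hb hc hac hfc hec hef hof hoe hτ.1.1 hτ.2 hτ.1.2 h, h]
    haveI : Finite W₁ := finite_of_fix (V := V) (p := c) fun k hk => (deep_le c hk.1.1).1
    have p4 := card_le_of_le (show D.deep c ⊓ kern D.R f ≤ W₁ from fun k hk =>
      ⟨⟨hk.1, D.no_mixed hb hc hac hec hfc hef.symm hoe hof hτ.1.1 hτ.1.2 hτ.2 hτf hk.1 hk.2⟩,
        hk.2⟩)
    omega

end Mix

end CfsgLib.SThreeAmalgam
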