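import Cfsg.Prelude.Def_Amalgam
import Cfsg.Agent.Amalgam.CosetGraph
import Cfsg.Agent.Amalgam.MixSmall
import Cfsg.Agent.Amalgam.MixThreeBound
import Cfsg.Agent.Amalgam.MixOddMain
import Cfsg.Agent.Solvable.Fitting

/-!
The bound for `Mix`, and the facts about one end of the base edge of a coset graph.
-/

set_option autoImplicit false
set_option linter.unusedSectionVars false
set_option linter.style.haveILetI false

namespace CfsgLib.SThreeAmalgam

open MulAction

variable {G V : Type*} [Group G] [MulAction G V]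

theorem Mix.bound (D : Mix G V) [Nonempty V] [∀ v, Finite (stabilizer G (v : V))] :
    ∃ a c, D.R a c ∧ ¬ D.Cen a ∧ Nat.card (Mix.est (G := G) a c) ≤ 2 ^ 7 := by
  have h0 := D.crit_pos
  by_cases h1 : D.crit = 1
  · exact D.bound_one h1
  by_cases h2 : D.crit = 2
  · exact D.bound_two h2
  by_cases h3 : D.crit = 3
  · exact D.bound_three h3
  rcases Nat.even_or_odd D.crit with hE | hO
  · exact (D.even_false hE (by omega)).elim
  · obtain ⟨k, hk⟩ := id hO
    exact (D.odd_false (by omega) hO).elim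

namespace MixGraph

theorem mem_kern_smul {R : V → V → Prop} (hR : ∀ (g : G) a b, R a b → R (g • a) (g • b))
    {g x : G} {a : V} : x ∈ kern R (g • a) ↔ g⁻¹ * x * g ∈ kern R a := by
  constructor
  · rintro ⟨h1, h2⟩
    exact ⟨by rw [mul_smul, mul_smul, h1, inv_smul_smul],
      fun b hb => by rw [mul_smul, mul_smul, h2 _ (hR g a b hb), inv_smul_smul]⟩
  · rintro ⟨h1, h2⟩
    refine ⟨?_, fun b hb => ?_⟩
    · rw [mul_smul, mul_smul, inv_smul_eq_iff] at h1; exact h1
    · have := h2 (g⁻¹ • b) (by simpa using hR g⁻¹ _ _ hb)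
      rw [mul_smul, mul_smul, inv_smul_eq_iff, smul_inv_smul] at this
      exact this

/-- The facts needed at one end of the base edge. -/
theorem base {R : V → V → Prop} {v w : V} (P P' T : Subgroup G) [Finite P]
    (hv : stabilizer G v = P) (hw : stabilizer G w = P') (hT : T = P ⊓ P') (hvw : R v w)
    (hR : ∀ (g : G) a b, R a b → R (g • a) (g • b))
    (hnb : ∀ b, R v b → ∃ x ∈ P, x • w = b)
    (h1 : P ⊓ Subgroup.centralizer (Cfsg.pCoreOf 2 P : Set G) ≤ Cfsg.pCoreOf 2 P)
    (h2 : ∃ S : Sylow 2 ↥P, (S : Subgroup ↥P) = T.subgroupOf P)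
    (h4 : Nonempty (↥P ⧸ Cfsg.pCore 2 ↥P ≃* Equiv.Perm (Fin 3)))
    :
    (∀ b, R v b → ∃ c d, R v c ∧ R v d ∧ c ≠ b ∧ d ≠ b ∧ c ≠ d ∧
      ∀ e, R v e → e = b ∨ e = c ∨ e = d) ∧
    (∃ t : G, t • v = v ∧ t • w = w ∧ t ∉ kern R v) ∧
    (∀ x : G, x • v = v → (∀ q ∈ kern (G := G) R v, q * x = x * q) → x ∈ kern R v) := by
  haveI : Fact (Nat.Prime 2) := ⟨Nat.prime_two⟩
  obtain ⟨S, hS⟩ := h2
  obtain ⟨e⟩ := h4
  set Q := Cfsg.pCore 2 ↥P with hQ
  have memP : ∀ {x : G}, x ∈ P ↔ x • v = v := fun {x} => by rw [← hv, mem_stabilizer_iff]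
  have memP' : ∀ {x : G}, x ∈ P' ↔ x • w = w := fun {x} => by rw [← hw, mem_stabilizer_iff]
  obtain ⟨k, hk⟩ := IsPGroup.iff_card.1 (CfsgLib.Solvable.isPGroup_pCore (G := P) 2)
  rw [← hQ] at hk
  have hidx : Q.index = 6 := by
    show Nat.card (↥P ⧸ Q) = 6
    rw [Nat.card_congr e.toEquiv, Nat.card_perm, Nat.card_fin]; rfl
  have hcardP : Nat.card P = 2 ^ (k + 1) * 3 := by
    rw [← Q.index_mul_card, hidx, hk, pow_succ]; ring
  have hcardT : Nat.card (S : Subgroup P) = 2 ^ (k + 1) := by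
    rw [S.card_eq_multiplicity, hcardP, Nat.factorization_mul (by positivity) (by norm_num),
      Finsupp.add_apply, Nat.Prime.factorization_pow Nat.prime_two, Finsupp.single_eq_same,
      Nat.factorization_eq_zero_of_not_dvd (show ¬ 2 ∣ 3 by norm_num), add_zero]
  set T' := T.subgroupOf P with hT'
  rw [hS] at hcardT
  have hT3 : Nat.card (↥P ⧸ T') = 3 := by
    have h := T'.index_mul_card
    rw [hcardT, hcardP, mul_comm (2 ^ (k + 1))] at h
    exact Nat.eq_of_mul_eq_mul_right (Nat.two_pow_pos _) h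
  let f : ↥P ⧸ T' → {b // R v b} := Quotient.lift
    (fun x : P => ⟨(x : G) • w, by simpa [memP.1 x.2] using hR (x : G) _ _ hvw⟩)
    fun x y hxy => by
      have h := QuotientGroup.leftRel_apply.1 hxy
      rw [hT', Subgroup.mem_subgroupOf, hT] at h
      have h' := memP'.1 h.2
      rw [Subgroup.coe_mul, Subgroup.coe_inv, mul_smul, inv_smul_eq_iff] at h'
      exact Subtype.ext h'.symm
  have hfb : Function.Bijective f := by
    refine ⟨fun a b => ?_, fun b => ?_⟩
    · obtain ⟨x, rfl⟩ := QuotientGroup.mk_surjective a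
      obtain ⟨y, rfl⟩ := QuotientGroup.mk_surjective b
      intro h
      refine QuotientGroup.eq.2 ?_
      rw [hT', Subgroup.mem_subgroupOf, hT]
      refine ⟨(x⁻¹ * y).2, memP'.2 ?_⟩
      have h' : (x : G) • w = (y : G) • w := congrArg Subtype.val h
      rw [Subgroup.coe_mul, Subgroup.coe_inv, mul_smul, inv_smul_eq_iff, h']
    · obtain ⟨x, hx, hxb⟩ := hnb b b.2
      exact ⟨QuotientGroup.mk ⟨x, hx⟩, Subtype.ext hxb⟩
  have hnbcard : Nat.card {b // R v b} = 3 := by
    rw [← Nat.card_congr (Equiv.ofBijective f hfb), hT3]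
  haveI : Finite {b // R v b} := Nat.finite_of_card_ne_zero (by rw [hnbcard]; norm_num)
  have hkern : kern R v = Cfsg.pCoreOf 2 P := by
    refine le_antisymm (fun x hx => ?_) ?_
    · have hxP : x ∈ P := memP.2 hx.1
      have hle : (kern R v).subgroupOf P ≤ Q := by
        refine CfsgLib.Solvable.le_pCore 2 ⟨fun n hn g => ?_⟩ ?_
        · rw [Subgroup.mem_subgroupOf] at hn ⊢
          have hg : (g : G)⁻¹ • v = v := memP.1 (inv_mem g.2)
          have := (mem_kern_smul (g := (g : G)⁻¹) (a := v) (x := (n : G)) hR).1 (by rw [hg]; exact hn)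
          simpa using this
        · refine S.2.to_le fun n hn => ?_
          rw [hS, Subgroup.mem_subgroupOf, hT]
          exact ⟨n.2, memP'.2 ((Subgroup.mem_subgroupOf.1 hn).2 w hvw)⟩
      exact ⟨⟨x, hxP⟩, hle (Subgroup.mem_subgroupOf.2 hx), rfl⟩
    · rintro _ ⟨q, hq, rfl⟩
      refine ⟨memP.1 q.2, fun b hb => ?_⟩
      obtain ⟨x, hx, rfl⟩ := hnb b hb
      have hq' := ((CfsgLib.Solvable.pCore_spec (G := P) 2).1).conj_mem q hq ⟨x, hx⟩⁻¹
      have h := CfsgLib.Fitting.pCore_le_sylow S hq'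
      rw [hS, Subgroup.mem_subgroupOf, hT] at h
      have h' := memP'.1 h.2
      simp only [Subgroup.coe_mul, inv_inv, Subgroup.coe_inv] at h'
      rw [mul_smul, mul_smul, inv_smul_eq_iff] at h'
      exact h'
  refine ⟨fun b hb => ?_, ?_, fun x hx hc => ?_⟩
  · classical
    haveI : Fintype {b // R v b} := Fintype.ofFinite _
    have h3 : ((Finset.univ : Finset {b // R v b}).erase ⟨b, hb⟩).card = 2 := by
      rw [Finset.card_erase_of_mem (Finset.mem_univ _), Finset.card_univ,
        ← Nat.card_eq_fintype_card, hnbcard]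
    obtain ⟨c, d, hcd, hset⟩ := Finset.card_eq_two.1 h3
    have hcm : c ∈ (Finset.univ : Finset {b // R v b}).erase ⟨b, hb⟩ := by rw [hset]; simp
    have hdm : d ∈ (Finset.univ : Finset {b // R v b}).erase ⟨b, hb⟩ := by rw [hset]; simp
    refine ⟨c, d, c.2, d.2, fun h => Finset.ne_of_mem_erase hcm (Subtype.ext h),
      fun h => Finset.ne_of_mem_erase hdm (Subtype.ext h), fun h => hcd (Subtype.ext h), fun e he => ?_⟩
    by_cases heb : e = b
    · exact Or.inl heb
    right
    have : (⟨e, he⟩ : {b // R v b}) ∈ ({c, d} : Finset _) := by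
      rw [← hset]; exact Finset.mem_erase.2 ⟨fun h => heb (congrArg Subtype.val h), Finset.mem_univ _⟩
    simp only [Finset.mem_insert, Finset.mem_singleton] at this
    exact this.imp (congrArg Subtype.val) (congrArg Subtype.val)
  · obtain ⟨t, htT, htQ⟩ : ∃ t ∈ (S : Subgroup P), t ∉ Q := by
      by_contra hcon
      push Not at hcon
      have h := Subgroup.card_dvd_of_le (show (S : Subgroup P) ≤ Q from hcon)
      rw [hS, hcardT, hk] at h
      have := Nat.le_of_dvd (Nat.two_pow_pos _) h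
      rw [pow_succ] at this
      have := Nat.two_pow_pos k
      omega
    rw [hS, Subgroup.mem_subgroupOf, hT] at htT
    refine ⟨t, memP.1 htT.1, memP'.1 htT.2, fun h => htQ ?_⟩
    rw [hkern] at h
    obtain ⟨t', ht', e'⟩ := h
    rwa [← show t' = t from Subtype.ext e']
  · rw [hkern] at hc ⊢
    exact h1 ⟨memP.2 hx, Subgroup.mem_centralizer_iff.2 fun q hq => hc q hq⟩

end MixGraph

end CfsgLib.SThreeAmalgam
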