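import Cfsg.Agent.Amalgam.MixTrans

/-!
For `Mix` an even critical distance is at most two.
-/

set_option autoImplicit false
set_option linter.unusedSectionVars false
set_option linter.unusedVariables false

namespace CfsgLib.SThreeAmalgam

open scoped commutatorElement
open Subgroup

variable {G V : Type*} [Group G] [MulAction G V]

namespace Mix

variable (D : Mix G V) {a b c d e f p q y : V}

/-- The group generated by the centres of the neighbours. -/
def vOf (c : V) : Subgroup G := ⨆ (y : V) (_ : D.R c y), zOf D.R y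

theorem z_le_vOf (h : D.R c y) : zOf (G := G) D.R y ≤ D.vOf c :=
  le_iSup₂_of_le (f := fun y (_ : D.R c y) => zOf (G := G) D.R y) y h le_rfl

theorem cen_z_le_vOf (hc : D.Cen c) : zOf (G := G) D.R c ≤ D.vOf c := by
  obtain ⟨y, hy⟩ := D.exists_adj c
  exact (D.cen_z_le hc (D.symm _ _ hy)).trans (D.z_le_vOf hy)

theorem vOf_le {H : Subgroup G} (h : ∀ y, D.R c y → zOf (G := G) D.R y ≤ H) : D.vOf c ≤ H :=
  iSup₂_le h

theorem conj_vOf {g x : G} (hx : x ∈ D.vOf c) : g * x * g⁻¹ ∈ D.vOf (g • c) := by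
  have h : D.vOf c ≤ (D.vOf (g • c)).comap (MulAut.conj g).toMonoidHom :=
    D.vOf_le fun y hy z hz => D.z_le_vOf (D.smul g _ _ hy) (D.conj_z (g := g) hz)
  exact h hx

theorem conj_vOf_self {g x : G} (hg : g • c = c) (hx : x ∈ D.vOf c) :
    g * x * g⁻¹ ∈ D.vOf c := by simpa [hg] using D.conj_vOf (g := g) hx

theorem vOf_ne_bot (hc : D.Cen c) : D.vOf c ≠ ⊥ := fun h => by
  obtain ⟨x, hx, hx1⟩ := D.exists_z_ne_one hc
  have := D.cen_z_le_vOf hc hx
  rw [h, mem_bot] at this
  exact hx1 this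

variable [Nonempty V]

theorem vOf_fix {n : ℕ} {v : G} (hc : D.Cen c) (h : Within D.R n c p) (hn : n + 1 ≤ D.crit)
    (hv : v ∈ D.vOf c) : v • p = p := by
  refine (D.vOf_le (H := MulAction.stabilizer G p) (fun y hy z hz => ?_)) hv
  exact D.fix (D.act_of_cen hc hy) (Within.step (D.symm _ _ hy) h) hn hz

theorem vOf_le_Q {n : ℕ} (hc : D.Cen c) (h : Within D.R n c p) (hn : n + 2 ≤ D.crit) :
    D.vOf c ≤ kern D.R p :=
  D.vOf_le fun y hy => D.le_Q (D.act_of_cen hc hy) (Within.step (D.symm _ _ hy) h) (by omega)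

omit [Nonempty V]

/-- Movers at both types of ends give transitivity on longer paths. -/
theorem tr_up {N : ℕ} {x y : ℕ → V} (hx : D.Path N x) (hy : D.Path N y)
    (hgx : D.HasMover N x) (hgy : D.HasMover N y) (hxy : D.Cen (x N) ↔ ¬ D.Cen (y N)) :
    ∀ m, 1 ≤ m → m ≤ N + 1 → ∀ t : Prop, D.Tr m t := by
  intro m hm
  induction m, hm using Nat.le_induction with
  | base => exact fun _ t => D.tr_one t
  | succ m hm ih =>
    intro hmN t
    have sx : ∀ {z : ℕ → V}, D.Path N z → D.HasMover N z →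
        D.HasMover m (fun i => z (N - m + i)) := by
      rintro z hz ⟨g, hg, hgn⟩
      exact ⟨g, fun i hi => hg _ (by omega), by
        show g ∉ kern D.R (z (N - m + m))
        rwa [Nat.sub_add_cancel (by omega)]⟩
    have hx' := hx.drop (N - m) m (by omega)
    have hy' := hy.drop (N - m) m (by omega)
    have key : (D.Cen (x (N - m)) ↔ t) ∨ (D.Cen (y (N - m)) ↔ t) := by
      have h1 := hx'.cen le_rfl
      have h2 := hy'.cen le_rfl
      simp only [Nat.sub_add_cancel (show m ≤ N by omega), Nat.add_zero] at h1 h2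
      tauto
    rcases key with h | h
    · exact (ih (by omega) t).succ hm hx' h (sx hx hgx)
    · exact (ih (by omega) t).succ hm hy' h (sx hy hgy)

/-- Movers exist on all paths once they exist at both types of ends. -/
theorem mover_up {N : ℕ} {x y : ℕ → V} (hx : D.Path N x) (hy : D.Path N y)
    (hgx : D.HasMover N x) (hgy : D.HasMover N y) (hxy : D.Cen (x N) ↔ ¬ D.Cen (y N))
    {m : ℕ} (hm : 1 ≤ m) (hmN : m ≤ N) {z : ℕ → V} (hz : D.Path m z) : D.HasMover m z := by
  have hx' := hx.drop (N - m) m (by omega)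
  have hy' := hy.drop (N - m) m (by omega)
  have sx : ∀ {w : ℕ → V}, D.HasMover N w → D.HasMover m (fun i => w (N - m + i)) := by
    rintro w ⟨g, hg, hgn⟩
    exact ⟨g, fun i hi => hg _ (by omega), by
      show g ∉ kern D.R (w (N - m + m))
      rwa [Nat.sub_add_cancel hmN]⟩
  have htr := D.tr_up hx hy hgx hgy hxy m hm (by omega) (D.Cen (z 0))
  have key : (D.Cen (x (N - m)) ↔ D.Cen (z 0)) ∨ (D.Cen (y (N - m)) ↔ D.Cen (z 0)) := by
    have h1 := hx'.cen le_rfl
    have h2 := hy'.cen le_rfl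
    simp only [Nat.sub_add_cancel hmN, Nat.add_zero] at h1 h2
    tauto
  rcases key with h | h
  · exact htr.mover hx' h (sx hgx) hz Iff.rfl
  · exact htr.mover hy' h (sx hgy) hz Iff.rfl

/-- Central vertices joined by a path that has a mover have centres meeting trivially. -/
theorem cen_inf_path {L : ℕ} {P : ℕ → V} (hP : D.Path L P) (hc : D.Cen (P 0)) (hL : 2 ≤ L)
    (he : Even L) (hm : D.HasMover (L - 1) P) {r : G} (h1 : r ∈ zOf D.R (P 0))
    (h2 : r ∈ zOf D.R (P L)) : r = 1 := by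
  obtain ⟨k, rfl⟩ : ∃ k, L = k + 1 + 1 := ⟨L - 2, by omega⟩
  obtain ⟨g, hg, hgn⟩ := hm
  simp only [Nat.add_sub_cancel] at hg hgn
  have hmv := D.moves (hg _ le_rfl) (hg k (by omega)) (D.symm _ _ (hP.adj (by omega))) hgn
    (hP.adj (Nat.lt_succ_self _)) (hP.ne2 le_rfl).symm
  have hcL : D.Cen (P (k + 1 + 1)) := by rw [hP.cen le_rfl]; tauto
  refine D.cen_inf (hP.adj (Nat.lt_succ_self _)) (D.adj_image (hg _ le_rfl)
    (hP.adj (Nat.lt_succ_self _))) hmv hcL h2 ?_
  have := D.conj_z (g := g) h2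
  rwa [D.cen_conj hc h1 (hg 0 (Nat.zero_le _))] at this

variable [Nonempty V]

theorem even_data (hE : Even D.crit) {x : ℕ → V} (hx : D.Critical x) :
    ¬ D.Cen (x D.crit) ∧ D.Cen (x 1) ∧ D.Cen (x (D.crit - 1)) ∧
    ∃ w ∈ zOf (G := G) D.R (x D.crit), w • x 0 = x 0 ∧ w • x 1 = x 1 ∧ w ∉ kern D.R (x 0) := by
  have hb := D.crit_pos
  have hp := hx.1
  have ha' : ¬ D.Cen (x D.crit) := hp.act_even hx.2.1 le_rfl hE
  have hc' : D.Cen (x (D.crit - 1)) := by
    refine hp.cen_odd hx.2.1 (by omega) ?_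
    obtain ⟨k, hk⟩ := hE
    exact ⟨k - 1, by omega⟩
  refine ⟨ha', hp.cen_odd hx.2.1 (by omega) odd_one, hc', ?_⟩
  obtain ⟨u, hu, hun⟩ := hx.exists_not_Q
  obtain ⟨w, hw, hwn⟩ : ∃ w ∈ zOf (G := G) D.R (x D.crit), w ∉ kern D.R (x 0) := by
    by_contra hcon
    push Not at hcon
    refine hun (D.mem_Q ha' (D.fix hx.2.1 (hp.within (Nat.zero_le _) le_rfl) (by omega) hu) ?_)
    exact fun w hw => (D.z_comm_Q hu (hcon w hw)).symm
  exact ⟨w, hw, D.fix ha' (hp.within' le_rfl (Nat.zero_le _) (i := D.crit) (m := D.crit)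
    (by omega) (by omega)) le_rfl hw,
    D.fix ha' (hp.within' le_rfl (by omega) (i := D.crit) (j := 1) (m := D.crit)
      (by omega) (by omega)) le_rfl hw, hwn⟩

theorem one_of_even (hE : Even D.crit) : D.One := by
  obtain ⟨x, hx⟩ := D.exists_critical
  obtain ⟨ha', hc, hc', w, hw, hwa, hwc, hwn⟩ := D.even_data hE hx
  have hb := D.crit_pos
  have hp := hx.1
  obtain ⟨k, hk⟩ : ∃ k, D.crit = k + 1 := ⟨D.crit - 1, by omega⟩
  have hac : D.R (x 0) (x 1) := hp.adj (by omega)
  obtain ⟨e, he, hec⟩ := D.exists_next hac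
  have hee := D.cen_of_act hx.2.1 he
  refine D.one_of hee (v := x D.crit) (p := x k) (by rw [hk]; exact D.symm _ _ (hp.adj (by omega)))
    (fun z hz => ⟨D.fix hx.2.1 (hp.within (Nat.zero_le _) le_rfl) (by omega)
      (D.cen_z_le hee he hz), D.fix hx.2.1 (hp.within (Nat.zero_le _) (by omega)) (by omega)
      (D.cen_z_le hee he hz)⟩) fun z hz hzQ => ?_
  refine D.cen_inf hac he hec hc ?_ hz
  exact D.mem_cen_z_of_comm hx.2.1 hac (D.cen_z_le hee he hz) hwa hwc hwn
    (D.z_comm_Q hw hzQ).symm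

theorem even_eq (hE : Even D.crit) {x : ℕ → V} (hx : D.Critical x) :
    D.zc (x 1) = D.zc (x (D.crit - 1)) := by
  obtain ⟨ha', hc, hc', w, hw, hwa, hwc, hwn⟩ := D.even_data hE hx
  obtain ⟨u, hu, hun⟩ := hx.exists_not_Q
  have hb := D.crit_pos
  have hp := hx.1
  have one := D.one_of_even hE
  have hac : D.R (x 0) (x 1) := hp.adj (by omega)
  have hne : ⁅u, w⁆ ≠ 1 := fun h => hun (D.cen_le_Q hc
    (hp.within (show 1 ≤ D.crit by omega) le_rfl) (by omega)
    ((D.com_eq_one_iff hx.2.1 hac hu hwa hwc hwn).1 h))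
  have h1 := one.eq_zc hc (D.com_mem_cen hx.2.1 hac hu hwa hwc) hne
  have hR' : D.R (x D.crit) (x (D.crit - 1)) := by
    have := D.symm _ _ (hp.adj (i := D.crit - 1) (by omega))
    rwa [Nat.sub_add_cancel (by omega)] at this
  have h2 : ⁅w, u⁆ ∈ zOf D.R (x (D.crit - 1)) := D.com_mem_cen ha' hR' hw
    (D.fix hx.2.1 (hp.within (Nat.zero_le _) le_rfl) (by omega) hu)
    (D.fix hx.2.1 (hp.within (Nat.zero_le _) (by omega)) (by omega) hu)
  rw [← commutatorElement_inv u w, inv_mem_iff] at h2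
  rw [← h1]
  exact one.eq_zc hc' h2 hne

/-- The critical distance is odd or at most two. -/
theorem even_false (hE : Even D.crit) (h4 : 4 ≤ D.crit) : False := by
  obtain ⟨x, hx⟩ := D.exists_critical
  obtain ⟨ha', hc, hc', w, hw, hwa, hwc, hwn⟩ := D.even_data hE hx
  obtain ⟨u, hu, hun⟩ := hx.exists_not_Q
  have hp := hx.1
  have one := D.one_of_even hE
  obtain ⟨k, hk⟩ : ∃ k, D.crit = k + 4 := ⟨D.crit - 4, by omega⟩
  have hac : D.R (x 0) (x 1) := hp.adj (by omega)
  obtain ⟨e, he, hec⟩ := D.exists_next hac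
  have hee := D.cen_of_act hx.2.1 he
  have hzz : D.zc (x 1) = D.zc (x (k + 3)) := by
    have := D.even_eq hE hx; rwa [hk, show k + 4 - 1 = k + 3 from rfl] at this
  have hPe : D.Path D.crit (pcons e x) :=
    ((hp.cons (D.symm _ _ he) (fun _ => hec)).take (Nat.le_succ _))
  have hlast : pcons e x D.crit = x (k + 3) := by rw [hk]; rfl
  -- no shift
  have hVQ : D.vOf e ≤ kern D.R (x (k + 2)) := by
    refine D.vOf_le fun y hy => ?_
    by_contra hcon
    have hya : y ≠ x 0 := by
      rintro rfl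
      exact hcon (D.le_Q hx.2.1 (hp.within (Nat.zero_le _) (by omega)) (by omega))
    have hy0 := D.act_of_cen hee hy
    have hcr : D.Critical (pcons y (pcons e x)) :=
      ⟨((hPe.take (m := k + 3) (by omega)).cons (D.symm _ _ hy) (fun _ => hya)).congr
          (fun i _ => rfl) |>.take (by omega), hy0, by
        rw [hk]; exact hcon⟩
    have h := D.even_eq hE hcr
    rw [hk, show k + 4 - 1 = k + 1 + 2 from rfl] at h
    simp only [pcons_succ] at h
    have hc1 : D.Cen (x (k + 1)) := by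
      refine hp.cen_odd hx.2.1 (by omega) ?_
      obtain ⟨j, hj⟩ := hE
      exact ⟨j - 2, by omega⟩
    have hz1 : D.zc (x (k + 1)) ∈ zOf D.R (x (k + 2)) :=
      D.cen_z_le hc1 (D.symm _ _ (hp.adj (by omega))) D.zc_mem
    have hz3 : D.zc (x (k + 3)) ∈ zOf D.R (x (k + 2)) :=
      D.cen_z_le (by rw [← show k + 4 - 1 = k + 3 from rfl, ← hk]; exact hc')
        (hp.adj (by omega)) D.zc_mem
    have ha2 : ¬ D.Cen (x (k + 2)) := by
      refine hp.act_even hx.2.1 (by omega) ?_
      obtain ⟨j, hj⟩ := hE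
      exact ⟨j - 1, by omega⟩
    refine hun (D.le_Q ha2 (hp.within' (by omega) le_rfl (m := 2) (by omega) (by omega))
      (by omega) ?_)
    have h' : D.zc e = D.zc (x (k + 1)) := h
    rcases one.z_cases hx.2.1 hac he hec hu with rfl | rfl | rfl | rfl
    · exact one_mem _
    · rw [hzz]; exact hz3
    · rw [h']; exact hz1
    · rw [hzz, h']; exact mul_mem hz3 hz1
  have hR3 : D.R (x (k + 2)) (x (k + 3)) := hp.adj (by omega)
  by_cases hV : D.vOf e ≤ kern D.R (x (k + 3))
  · refine D.vOf_ne_bot hee (D.eq_bot_mover he (fun n hn => ?_)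
      (fun g hg n hn => D.conj_vOf_self hg hn) hwa
      (D.moves hwa hwc hac hwn he hec) ?_)
    · exact ⟨D.vOf_fix hee (Within.single (D.symm _ _ he)) (by omega) hn,
        D.vOf_fix hee (Within.refl _ 0) (by omega) hn⟩
    have key : ∀ n ∈ D.vOf e, w * n * w⁻¹ ∈ D.vOf e := fun n hn => by
      have hn3 : n • x (k + 3) = x (k + 3) := (hV hn).1
      have hn4 : n • x (k + 4) = x (k + 4) := (hV hn).2 _ (hp.adj (by omega))
      have h := D.com_mem_cen (a := x D.crit) (b := x (k + 3)) ha'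
        (by rw [hk]; exact D.symm _ _ (hp.adj (by omega))) hw (by rw [hk]; exact hn4) hn3
      have hc3 : D.Cen (x (k + 3)) := by rwa [hk] at hc'
      have hmem : ⁅w, n⁆ ∈ D.vOf e := by
        rcases one.eq_or hc3 h with h' | h' <;> rw [h']
        · exact one_mem _
        · rw [← hzz]
          exact D.z_le_vOf (D.symm _ _ he) (D.cen_z_le hc hac D.zc_mem)
      rw [show w * n * w⁻¹ = ⁅w, n⁆ * n by rw [commutatorElement_def]; group]
      exact mul_mem hmem hn
    refine mem_normalizer_iff.2 fun n => ⟨key n, fun hn => ?_⟩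
    have h2 := key _ hn
    rwa [show w * (w * n * w⁻¹) * w⁻¹ = w * w * n * (w * w)⁻¹ by group, D.z_sq hw, one_mul,
      inv_one, mul_one] at h2
  · obtain ⟨v, hv, hvn⟩ := SetLike.not_le_iff_exists.1 hV
    have hgy : D.HasMover D.crit (pcons e x) := by
      refine ⟨v, fun i hi => ?_, by rw [hlast]; exact hvn⟩
      cases i with
      | zero => exact D.vOf_fix hee (Within.refl _ 0) (by omega) hv
      | succ i =>
        show v • x i = x i
        by_cases hi3 : i = k + 3
        · subst hi3; exact (hVQ hv).2 _ hR3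
        · exact D.vOf_fix hee ((Within.step (D.symm _ _ he) (hp.within (Nat.zero_le i) (by omega))))
            (by omega) hv
    have hgx : D.HasMover D.crit x :=
      ⟨u, fun i hi => D.fix hx.2.1 (hp.within (Nat.zero_le i) hi) (by omega) hu, hun⟩
    have hends : D.Cen (x D.crit) ↔ ¬ D.Cen (pcons e x D.crit) := by
      rw [hlast]; simp [ha', show D.Cen (x (k + 3)) by rwa [hk] at hc']
    have hL : D.Path (k + 2) (fun i => x (1 + i)) := hp.drop 1 (k + 2) (by omega)
    refine D.zc_ne hc (D.cen_inf_path hL hc (by omega) ?_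
      (D.mover_up hp hPe hgx hgy hends (by omega) (by omega) (hL.take (by omega))) D.zc_mem ?_)
    · obtain ⟨j, hj⟩ := hE
      exact ⟨j - 1, by omega⟩
    · show D.zc (x 1) ∈ zOf D.R (x (1 + (k + 2)))
      rw [show 1 + (k + 2) = k + 3 by omega, hzz]
      exact D.zc_mem

end Mix

end CfsgLib.SThreeAmalgam
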