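import Cfsg.Agent.Amalgam.MixThree

/-!
For `Mix` an odd critical distance is at most three: preliminary facts.
-/

set_option autoImplicit false
set_option linter.unusedSectionVars false
set_option linter.unusedVariables false

namespace CfsgLib.SThreeAmalgam

open scoped commutatorElement
open Subgroup

variable {G V : Type*} [Group G] [MulAction G V]

namespace Mix

variable (D : Mix G V) {a a'' c d e f g l p q y : V}

theorem Q_of_two' {t : G} (ht : t • a = a) (hp : D.R a p) (hq : D.R a q) (hpq : q ≠ p)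
    (htp : t • p = p) (htq : t • q = q) : t ∈ kern D.R a := by
  by_contra h
  exact D.moves ht htp hp h hq hpq htq

variable [Nonempty V]

/-- No critical path has an element of the far end moving at its start only. -/
def Tight : Prop :=
  ∀ x, D.Critical x → ∀ v ∈ D.vOf (x D.crit), v ∈ kern D.R (x 1) → v ∈ kern D.R (x 0)

theorem cen_end (hO : Odd D.crit) {x : ℕ → V} (hx : D.Critical x) :
    ¬ D.Cen (x 0) ∧ D.Cen (x 1) ∧ ¬ D.Cen (x (D.crit - 1)) ∧ D.Cen (x D.crit) := by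
  have hp := hx.1
  obtain ⟨k, hk⟩ := hO
  exact ⟨hx.2.1, hp.cen_odd hx.2.1 (by omega) odd_one,
    hp.act_even hx.2.1 (by omega) ⟨k, by omega⟩, hp.cen_odd hx.2.1 le_rfl ⟨k, hk⟩⟩

theorem mover_crit {x : ℕ → V} (hx : D.Critical x) : D.HasMover D.crit x := by
  obtain ⟨u, hu, hun⟩ := hx.exists_not_Q
  exact ⟨u, fun i hi => D.fix hx.2.1 (hx.1.within (Nat.zero_le i) hi) (by omega) hu, hun⟩

theorem suffix_mover {N m : ℕ} {x : ℕ → V} (hm : m ≤ N) (h : D.HasMover N x) :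
    D.HasMover m (fun i => x (N - m + i)) := by
  obtain ⟨g, hg, hgn⟩ := h
  exact ⟨g, fun i hi => hg _ (by omega), by
    show g ∉ kern D.R (x (N - m + m))
    rwa [Nat.sub_add_cancel hm]⟩

omit [Nonempty V] in
theorem vOf_sq [Nonempty V] (hb : 3 ≤ D.crit) (hc : D.Cen c) {k : G} (hk : k ∈ D.vOf c) :
    k * k = 1 := by
  let H : Subgroup G :=
    { carrier := {x | x ∈ D.vOf c ∧ x * x = 1}
      one_mem' := ⟨one_mem _, one_mul 1⟩
      mul_mem' := fun {x y} hx hy => ⟨mul_mem hx.1 hy.1, by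
        rw [mul_assoc x y, ← mul_assoc y x y, D.vOf_comm hb hc hy.1 hx.1,
          mul_assoc x y y, hy.2, mul_one, hx.2]⟩
      inv_mem' := fun {x} hx => ⟨inv_mem hx.1, by rw [← mul_inv_rev, hx.2, inv_one]⟩ }
  exact (D.vOf_le (H := H) (fun y hy z hz => ⟨D.z_le_vOf hy hz, D.z_sq hz⟩) hk).2

/-- A critical path has the tightness property. -/
theorem tight (hb : 5 ≤ D.crit) (hO : Odd D.crit) : D.Tight := by
  intro x hx w hw hwc
  by_contra hwa
  obtain ⟨ha, hc, hb1, hbC⟩ := D.cen_end hO hx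
  have hp := hx.1
  obtain ⟨u, hu, hun⟩ := hx.exists_not_Q
  have hac : D.R (x 0) (x 1) := hp.adj (by omega)
  have hwa0 : w • x 0 = x 0 := hwc.2 _ (D.symm _ _ hac)
  have hwc0 : w • x 1 = x 1 := hwc.1
  have hR : D.HasMover D.crit (fun i => x (D.crit - i)) := by
    refine ⟨w, fun i hi => ?_, by simpa using hwa⟩
    show w • x (D.crit - i) = x (D.crit - i)
    by_cases hi0 : i = D.crit
    · rw [hi0, Nat.sub_self]; exact hwa0
    · exact D.vOf_fix hbC
        ((hp.within (i := D.crit - i) (by omega) le_rfl).symm D.symm) (by omega) hw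
  have hX := D.mover_crit hx
  have hends : D.Cen (x D.crit) ↔ ¬ D.Cen ((fun i => x (D.crit - i)) D.crit) := by
    simp [ha, hbC]
  have mov := fun {m : ℕ} (h1 : 1 ≤ m) (h2 : m ≤ D.crit) {z : ℕ → V} (hz : D.Path m z) =>
    D.mover_up hp hp.rev hX hR hends h1 h2 hz
  have inj : ∀ {L : ℕ} {P : ℕ → V}, D.Path L P → D.Cen (P 0) → 2 ≤ L → Even L → L ≤ D.crit + 1 →
      ∀ {r : G}, r ∈ zOf D.R (P 0) → r ∈ zOf D.R (P L) → r = 1 :=
    fun hP h0 h2 he hle => D.cen_inf_path hP h0 h2 he (mov (by omega) (by omega) (hP.take (by omega)))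
  have hpar : Even (D.crit - 1) := by
    obtain ⟨k, hk⟩ := hO
    exact ⟨k, by omega⟩
  obtain ⟨e, he, hec⟩ := D.exists_next hac
  have hee := D.cen_of_act ha he
  have hlast : D.R (x (D.crit - 1)) (x D.crit) := by
    have := hp.adj (i := D.crit - 1) (by omega)
    rwa [Nat.sub_add_cancel (by omega)] at this
  have one : D.One := by
    refine D.one_of hee (D.symm _ _ hlast) (fun z hz => ⟨D.fix ha
      (hp.within (Nat.zero_le _) le_rfl) (by omega) (D.cen_z_le hee he hz),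
      D.fix ha (hp.within (Nat.zero_le _) (by omega)) (by omega) (D.cen_z_le hee he hz)⟩)
      fun z hz hzQ => ?_
    have h1 := D.com_mem_cen ha hac (D.cen_z_le hee he hz) hwa0 hwc0
    have h2 := D.vOf_com (by omega) hbC hw hzQ
    rw [← commutatorElement_inv z w, inv_mem_iff] at h2
    have h3 : ⁅z, w⁆ = 1 := inj (L := D.crit - 1) (hp.drop 1 (D.crit - 1) (by omega)) hc
      (by omega) hpar (by omega) h1 (by
        show ⁅z, w⁆ ∈ zOf D.R (x (1 + (D.crit - 1)))
        rwa [Nat.add_sub_cancel' (by omega : 1 ≤ D.crit)])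
    exact D.cen_inf hac he hec hc
      ((D.com_eq_one_iff ha hac (D.cen_z_le hee he hz) hwa0 hwc0 hwa).1 h3) hz
  have hne : ⁅u, w⁆ ≠ 1 := fun h => hun (D.cen_le_Q hc (hp.within (show 1 ≤ D.crit by omega) le_rfl)
    (by omega) ((D.com_eq_one_iff ha hac hu hwa0 hwc0 hwa).1 h))
  have hzc : ⁅u, w⁆ = D.zc (x 1) := one.eq_zc hc (D.com_mem_cen ha hac hu hwa0 hwc0) hne
  -- the image of `v ↦ ⁅u, v⁆` has order two
  obtain ⟨y₁, hy₁, hy₁n⟩ := D.exists_next (D.symm _ _ hlast)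
  obtain ⟨g₁, hg₁, hg₁n⟩ := D.exists_next (D.symm _ _ hy₁)
  have hy₁A := D.act_of_cen hbC hy₁
  have hub : u • x D.crit = x D.crit := D.fix ha (hp.within (Nat.zero_le _) le_rfl) (by omega) hu
  have hub1 : u • x (D.crit - 1) = x (D.crit - 1) :=
    D.fix ha (hp.within (Nat.zero_le _) (by omega)) (by omega) hu
  have huconj : ∀ {v : G}, v ∈ D.vOf (x D.crit) → u * v * u⁻¹ ∈ D.vOf (x D.crit) := fun hv =>
    D.conj_vOf_self hub hv
  set δ := ⁅u, D.zc g₁⁆ with hδ
  have hg₁V : D.zc g₁ ∈ D.vOf (x D.crit) :=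
    D.z_le_vOf hy₁ (D.cen_z_le (D.cen_of_act hy₁A hg₁) hg₁ D.zc_mem)
  have comV : ∀ {v : G}, v ∈ D.vOf (x D.crit) → ⁅u, v⁆ ∈ D.vOf (x D.crit) := fun {v} hv => by
    rw [commutatorElement_def]; exact mul_mem (huconj hv) (inv_mem hv)
  have hδ2 : δ * δ = 1 := D.vOf_sq (by omega) hbC (comV hg₁V)
  have hhom : ∀ {v v' : G}, v ∈ D.vOf (x D.crit) → v' ∈ D.vOf (x D.crit) →
      ⁅u, v * v'⁆ = ⁅u, v⁆ * ⁅u, v'⁆ := fun {v v'} hv hv' => by
    rw [show ⁅u, v * v'⁆ = ⁅u, v⁆ * (v * ⁅u, v'⁆ * v⁻¹) by simp only [commutatorElement_def]; group,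
      D.vOf_comm (by omega) hbC hv (comV hv'), mul_inv_cancel_right]
  let H : Subgroup G :=
    { carrier := {v | v ∈ D.vOf (x D.crit) ∧ (⁅u, v⁆ = 1 ∨ ⁅u, v⁆ = δ)}
      one_mem' := ⟨one_mem _, Or.inl (commutatorElement_one_right u)⟩
      mul_mem' := fun {v v'} hv hv' => ⟨mul_mem hv.1 hv'.1, by
        rw [hhom hv.1 hv'.1]
        rcases hv.2 with h | h <;> rcases hv'.2 with h' | h' <;> rw [h, h'] <;> simp [hδ2]⟩
      inv_mem' := fun {v} hv => by
        have : v⁻¹ = v := inv_eq_of_mul_eq_one_right (D.vOf_sq (by omega) hbC hv.1)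
        rw [this]; exact hv }
  have hgen : ∀ z ∈ zOf (G := G) D.R y₁, z ∈ H := by
    intro z hz
    obtain ⟨p, hp', q, hq, rfl⟩ := D.exists_mul hy₁A (D.symm _ _ hy₁) hg₁ hg₁n hz
    refine H.mul_mem ⟨D.cen_z_le_vOf hbC hp', Or.inl ?_⟩ ?_
    · exact commutatorElement_eq_one_iff_mul_comm.2 (D.cen_comm hbC hp' hub)
    · rcases one.eq_or (D.cen_of_act hy₁A hg₁) hq with rfl | rfl
      exacts [H.one_mem, ⟨hg₁V, Or.inr rfl⟩]
  have hall : D.vOf (x D.crit) ≤ H := D.vOf_le fun y hy z hz => by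
    by_cases h1 : y = x (D.crit - 1)
    · refine ⟨D.z_le_vOf hy hz, Or.inl ?_⟩
      subst h1
      exact commutatorElement_eq_one_iff_mul_comm.2
        (D.comm ha (hp.within (Nat.zero_le _) (Nat.sub_le _ _)) (by omega) hu hz)
    by_cases h2 : y = y₁
    · exact hgen z (h2 ▸ hz)
    have huy : u • y = y₁ :=
      D.swaps hub hub1 (D.symm _ _ hlast) hun hy hy₁ h1 hy₁n (Ne.symm h2)
    have hz1 : u * z * u⁻¹ ∈ zOf D.R y₁ := huy ▸ D.conj_z (g := u) hz
    have hm := hgen _ hz1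
    refine ⟨D.z_le_vOf hy hz, ?_⟩
    have : ⁅u, z⁆ = ⁅u, u * z * u⁻¹⁆⁻¹ := by
      have hu2 : u⁻¹ = u := D.z_inv hu
      have huu : ∀ t : G, u * (u * t) = t := fun t => by rw [← mul_assoc, D.z_sq hu, one_mul]
      rw [commutatorElement_inv]
      simp [commutatorElement_def, mul_inv_rev, hu2, mul_assoc, huu, D.z_sq hu]
    rcases hm.2 with h | h <;> rw [this, h]
    · exact Or.inl inv_one
    · exact Or.inr (inv_eq_of_mul_eq_one_right hδ2)
  have hδc : δ = D.zc (x 1) := by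
    rcases (hall hw).2 with h | h
    · exact absurd h hne
    · rw [← h, hzc]
  -- conjugate by a mover at `x 2`
  have hd : ¬ D.Cen (x 2) := hp.act_even ha (by omega) even_two
  have h12 := hp.adj (i := 1) (by omega)
  have h23 := hp.adj (i := 2) (by omega)
  have hc3 : D.Cen (x 3) := hp.cen_odd ha (by omega) (by decide)
  obtain ⟨h, hh, hhn⟩ := mov (m := D.crit - 2) (by omega) (by omega)
    (hp.rev.take (Nat.sub_le D.crit 2))
  have hfix : ∀ i, 2 ≤ i → i ≤ D.crit → h • x i = x i := fun i h1 h2 => by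
    have := hh (D.crit - i) (by omega)
    simpa [show D.crit - (D.crit - i) = i by omega] using this
  simp only [show D.crit - (D.crit - 2) = 2 by omega] at hhn
  have hhc : h • x 1 ≠ x 1 := D.moves (hfix 2 le_rfl (by omega)) (hfix 3 (by omega) (by omega)) h23
    hhn (D.symm _ _ h12) (hp.ne2 (i := 1) (by omega))
  have hf3 : h • x 1 ≠ x 3 := fun e => hp.ne2 (i := 1) (by omega)
    (smul_left_cancel h (e.trans (hfix 3 (by omega) (by omega)).symm))
  have hfd : D.R (x 2) (h • x 1) := D.adj_image (hfix 2 le_rfl (by omega)) (D.symm _ _ h12)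
  have hzf := D.third_eq one hd (D.symm _ _ h12) h23 hfd (hp.ne2 (i := 1) (by omega)).symm hhc hf3
  have hfC := D.cen_smul h _ hc
  set zb := D.zc (x D.crit) with hzb
  have hbb : h • x D.crit = x D.crit := hfix _ (by omega) le_rfl
  have hb1' : h • x (D.crit - 1) = x (D.crit - 1) := hfix _ (by omega) (by omega)
  set u' := h * u * h⁻¹ with hu'
  have hu'f : u' • x D.crit = x D.crit ∧ u' • x (D.crit - 1) = x (D.crit - 1) := by
    constructor
    · rw [hu', mul_smul, mul_smul, inv_smul_eq_iff.2 hbb.symm, hub, hbb]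
    · rw [hu', mul_smul, mul_smul, inv_smul_eq_iff.2 hb1'.symm, hub1, hb1']
  have hu'n : u' ∉ kern D.R (x D.crit) := fun hh' => hun <| by
    have := D.conj_kern_self (g := h⁻¹) (inv_smul_eq_iff.2 hbb.symm) hh'
    rwa [hu', show h⁻¹ * (h * u * h⁻¹) * h⁻¹⁻¹ = u by group] at this
  have hq := D.inv_mul_mem_Q (D.symm _ _ hlast) hub hub1 hu'f.1 hu'f.2 hun hu'n
  set qq := u⁻¹ * u' with hqq
  have hv : h * w * h⁻¹ ∈ D.vOf (x D.crit) := D.conj_vOf_self hbb hw
  have e1 : D.zc (h • x 1) = u * ⁅qq, h * w * h⁻¹⁆ * u⁻¹ * ⁅u, h * w * h⁻¹⁆ := by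
    rw [← one.conj_zc h hc, ← hzc, hqq, hu']
    simp only [commutatorElement_def]; group
  have e2 : ⁅qq, h * w * h⁻¹⁆ = 1 ∨ ⁅qq, h * w * h⁻¹⁆ = zb := by
    refine one.eq_or hbC ?_
    rw [← inv_mem_iff, commutatorElement_inv]
    exact D.vOf_com (by omega) hbC hv hq
  have e3 : D.zc (h • x 1) = 1 ∨ D.zc (h • x 1) = D.zc (x 1) ∨ D.zc (h • x 1) = zb ∨
      D.zc (h • x 1) = zb * D.zc (x 1) := by
    have hcz : u * zb * u⁻¹ = zb := D.cen_conj hbC D.zc_mem hub
    rcases e2 with h' | h' <;> rcases (hall hv).2 with h'' | h'' <;>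
      rw [e1, h', h''] <;> simp [hcz, hδc]
  have he2 : Even (D.crit - 3) := by
    obtain ⟨k, hk⟩ := hO
    exact ⟨k - 1, by omega⟩
  rcases e3 with h' | h' | h' | h'
  · exact D.zc_ne hfC h'
  · exact D.zc_ne_zc hfd (D.symm _ _ h12) hhc.symm hfC h'
  · have hP : D.Path (D.crit - 1) (pcons (h • x 1) (fun i => x (2 + i))) := by
      have := (hp.drop 2 (D.crit - 2) (by omega)).cons (v := h • x 1) (D.symm _ _ hfd) (fun _ => hf3)
      rwa [show D.crit - 2 + 1 = D.crit - 1 by omega] at this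
    refine D.zc_ne hfC (inj hP hfC (by omega) hpar (by omega) D.zc_mem ?_)
    obtain ⟨j, hj⟩ : ∃ j, D.crit - 1 = j + 1 := ⟨D.crit - 2, by omega⟩
    rw [hj, pcons_succ, show 2 + j = D.crit by omega, h']
    exact D.zc_mem
  · rw [hzf, D.z_comm (D.cen_z_le hc (D.symm _ _ h12) (D.zc_mem (c := x 1)))
      (D.cen_z_le hc3 h23 (D.zc_mem (c := x 3))) |>.symm] at h'
    refine D.zc_ne hc3 (inj (L := D.crit - 3) (hp.drop 3 (D.crit - 3) (by omega)) hc3 (by omega)
      he2 (by omega) D.zc_mem ?_)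
    show D.zc (x 3) ∈ zOf D.R (x (3 + (D.crit - 3)))
    rw [Nat.add_sub_cancel' (by omega : 3 ≤ D.crit), mul_right_cancel h']
    exact D.zc_mem

end Mix

end CfsgLib.SThreeAmalgam
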