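import Cfsg.Agent.Amalgam.MixOdd

/-!
Reversal and shifting of critical paths of odd length at least five.
-/

set_option autoImplicit false
set_option linter.unusedSectionVars false
set_option linter.unusedVariables false

namespace CfsgLib.SThreeAmalgam

open scoped commutatorElement
open Subgroup

variable {G V : Type*} [Group G] [MulAction G V]

namespace Mix

variable (D : Mix G V) {a a'' c d e e' f g l p q y : V}

variable [Nonempty V] (hb : 5 ≤ D.crit) (hO : Odd D.crit)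
include hb hO

theorem rev_crit {x : ℕ → V} (hx : D.Critical x) (ha : D.R (x D.crit) a'')
    (hne : a'' ≠ x (D.crit - 1)) : D.Critical (pcons a'' fun i => x (D.crit - i)) := by
  obtain ⟨hA, hc, hb1, hbC⟩ := D.cen_end hO hx
  have hp := hx.1
  obtain ⟨u, hu, hun⟩ := hx.exists_not_Q
  have hub : u • x D.crit = x D.crit := D.fix hA (hp.within (Nat.zero_le _) le_rfl) (by omega) hu
  have hub1 : u • x (D.crit - 1) = x (D.crit - 1) :=
    D.fix hA (hp.within (Nat.zero_le _) (Nat.sub_le _ _)) (by omega) hu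
  have hlast : D.R (x D.crit) (x (D.crit - 1)) := by
    have := hp.adj (i := D.crit - 1) (by omega)
    rw [Nat.sub_add_cancel (by omega)] at this
    exact D.symm _ _ this
  obtain ⟨y, hy, hyn⟩ :
      ∃ y, D.R (x D.crit) y ∧ ¬ zOf (G := G) D.R y ≤ kern D.R (x 1) := by
    by_contra hcon
    push Not at hcon
    have huc : ∀ {y}, D.R (x D.crit) y → ∀ z ∈ zOf (G := G) D.R y, u * z * u⁻¹ = z :=
      fun {y} hy z hz => by
        rw [← D.z_comm_Q hu (D.tight hb hO x hx z (D.z_le_vOf hy hz) (hcon y hy hz)),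
          mul_inv_cancel_right]
    obtain ⟨y, z, hy, hz, hyb, hzb, hyz, -⟩ := D.third (x D.crit) (x (D.crit - 1)) hlast
    have huy : u • y = z := D.swaps hub hub1 hlast hun hy hz hyb hzb hyz.symm
    have huz : u • z = y := D.swaps hub hub1 hlast hun hz hy hzb hyb hyz
    refine D.z_ne hbC hy hz hyz (le_antisymm (fun v hv => ?_) fun v hv => ?_)
    · have := D.conj_z (g := u) hv
      rwa [huy, huc hy v hv] at this
    · have := D.conj_z (g := u) hv
      rwa [huz, huc hz v hv] at this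
  have hy1 : y ≠ x (D.crit - 1) := by
    rintro rfl
    exact hyn (D.le_Q hb1 (hp.within' (Nat.sub_le _ _) (by omega : 1 ≤ D.crit)
      (m := D.crit - 2) (by omega) (by omega)) (by omega))
  have hn : ¬ zOf (G := G) D.R a'' ≤ kern D.R (x 1) := by
    by_cases h : a'' = y
    · rwa [h]
    intro hle
    refine hyn fun v hv => ?_
    have hz := D.conj_z (g := u) hv
    rw [D.swaps hub hub1 hlast hun hy ha hy1 hne h] at hz
    have h1 : u • x 1 = x 1 := (D.z_le_Q hu).2 _ (hp.adj (by omega))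
    have := D.conj_kern_self (g := u⁻¹) (inv_smul_eq_iff.2 h1.symm) (hle hz)
    rwa [show u⁻¹ * (u * v * u⁻¹) * u⁻¹⁻¹ = v by group] at this
  refine ⟨(hp.rev.cons (by simpa using D.symm _ _ ha) (fun _ => hne)).take (Nat.le_succ _),
    D.act_of_cen hbC ha, ?_⟩
  obtain ⟨j, hj⟩ : ∃ j, D.crit = j + 1 := ⟨D.crit - 1, by omega⟩
  simpa [hj] using hn

omit hO in
theorem rev_vals {x : ℕ → V} (v : V) :
    pcons v (fun i => x (D.crit - i)) 1 = x D.crit ∧
    pcons v (fun i => x (D.crit - i)) D.crit = x 1 ∧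
    ∀ i, 1 ≤ i → pcons v (fun i => x (D.crit - i)) i = x (D.crit + 1 - i) := by
  have h : ∀ i, 1 ≤ i → pcons v (fun i => x (D.crit - i)) i = x (D.crit + 1 - i) := by
    intro i hi
    obtain ⟨k, rfl⟩ : ∃ k, i = k + 1 := ⟨i - 1, by omega⟩
    rw [pcons_succ, show D.crit + 1 - (k + 1) = D.crit - k by omega]
  exact ⟨by simpa using h 1 le_rfl, by rw [h _ (by omega)]; simp, h⟩

/-- An involution at the near end, from the far end. -/
theorem exists_w_far {x : ℕ → V} (hx : D.Critical x) (ha : D.R (x D.crit) a'')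
    (hne : a'' ≠ x (D.crit - 1)) : ∃ w ∈ zOf (G := G) D.R a'',
      w • x 1 = x 1 ∧ w • x 2 = x 2 ∧ w ∉ kern D.R (x 1) := by
  have hR := D.rev_crit hb hO hx ha hne
  obtain ⟨h1, h2, h3⟩ := D.rev_vals hb (x := x) a''
  obtain ⟨w, hw, hwn⟩ := hR.exists_not_Q
  rw [pcons_zero] at hw
  rw [h2] at hwn
  refine ⟨w, hw, ?_, ?_, hwn⟩
  · have := D.fix hR.2.1 (hR.1.within (Nat.zero_le _) le_rfl) (by omega) (z := w) hw
    rwa [h2] at this
  · have := D.fix hR.2.1 (hR.1.within (Nat.zero_le _) (Nat.sub_le D.crit 1)) (by omega) (z := w) hw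
    rwa [h3 _ (by omega), show D.crit + 1 - (D.crit - 1) = 2 by omega] at this

theorem far_adj {x : ℕ → V} (hx : D.Critical x) :
    ∃ a'', D.R (x D.crit) a'' ∧ a'' ≠ x (D.crit - 1) := by
  have := hx.1.adj (i := D.crit - 1) (by omega)
  rw [Nat.sub_add_cancel (by omega)] at this
  exact D.exists_next (D.symm _ _ this)

theorem short_moves :
    (∀ m, 1 ≤ m → m ≤ 4 → ∀ t : Prop, D.Tr m t) ∧
    ∀ m, 1 ≤ m → m ≤ 3 → ∀ z, D.Path m z → D.HasMover m z := by
  obtain ⟨x, hx⟩ := D.exists_critical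
  obtain ⟨hA, hc, hb1, hbC⟩ := D.cen_end hO hx
  obtain ⟨a'', ha, hne⟩ := D.far_adj hb hO hx
  obtain ⟨w, hw, hwc, hwd, hwn⟩ := D.exists_w_far hb hO hx ha hne
  have hp := hx.1
  have h01 := hp.adj (i := 0) (by omega)
  have h12 := hp.adj (i := 1) (by omega)
  obtain ⟨q, hqc, hqd, hqa⟩ :=
    D.exists_q3 (by omega) h01 h12 (hp.ne2 (i := 0) (by omega)) hc hwc hwd hwn (D.z_sq hw)
  obtain ⟨l, hl, hlc⟩ := D.exists_next (D.symm _ _ h12)
  have hY : D.Path 3 (P3 l (x 2) (x 1) (x 0)) :=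
    D.path3 (D.symm _ _ hl) (D.symm _ _ h12) (D.symm _ _ h01) hlc
      (hp.ne2 (i := 0) (by omega)).symm
  have hgy : D.HasMover 3 (P3 l (x 2) (x 1) (x 0)) := ⟨q, fun i hi => by
    rcases (by omega : i = 0 ∨ i = 1 ∨ i = 2 ∨ i = 3) with rfl | rfl | rfl | rfl
    · exact hqd.2 l hl
    · exact hqd.1
    · exact hqc.1
    · exact hqc.2 _ (D.symm _ _ h01), hqa⟩
  have hX := hp.drop (D.crit - 3) 3 (by omega)
  have hgx := D.suffix_mover (by omega) (D.mover_crit hx) (m := 3)
  have hends : D.Cen ((fun i => x (D.crit - 3 + i)) 3) ↔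
      ¬ D.Cen (P3 l (x 2) (x 1) (x 0) 3) := by
    show D.Cen (x (D.crit - 3 + 3)) ↔ ¬ D.Cen (x 0)
    rw [Nat.sub_add_cancel (by omega)]; simp [hA, hbC]
  exact ⟨D.tr_up hX hY hgx hgy hends, fun m h1 h2 z hz => D.mover_up hX hY hgx hgy hends h1 h2 hz⟩

theorem inj4' (he : D.Cen e) (h1 : D.R e a) (h2 : D.R a c) (h3 : D.R c d) (h4 : D.R d l)
    (n1 : e ≠ c) (n2 : a ≠ d) (n3 : c ≠ l) {r : G} (r1 : r ∈ zOf D.R e) (r2 : r ∈ zOf D.R l) :
    r = 1 :=
  D.cen_inf_path (P := P4 e a c d l) (D.path4 h1 h2 h3 h4 n1 n2 n3) he (by omega) (by decide)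
    ((D.short_moves hb hO).2 3 (by omega) le_rfl _ ((D.path4 h1 h2 h3 h4 n1 n2 n3).take (by omega)))
    r1 r2

theorem tr_five : D.Tr 5 False ∧ ∀ z, D.Path 5 z → ¬ D.Cen (z 0) → D.HasMover 5 z := by
  obtain ⟨x, hx⟩ := D.exists_critical
  have hp := hx.1
  obtain ⟨k, hk⟩ := id hO
  have h4 : D.Cen (x (D.crit - 4)) := hp.cen_odd hx.2.1 (by omega) ⟨k - 2, by omega⟩
  have h5 : ¬ D.Cen (x (D.crit - 5)) := hp.act_even hx.2.1 (by omega) ⟨k - 2, by omega⟩
  have hT : D.Tr 5 True := ((D.short_moves hb hO).1 4 (by omega) le_rfl True).succ (by omega)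
    (hp.drop (D.crit - 4) 4 (by omega)) (iff_true_intro h4)
    (D.suffix_mover (by omega) (D.mover_crit hx))
  have hF : D.Tr 5 False := hT.rev (by decide) (by tauto)
  exact ⟨hF, fun z hz hz0 => hF.mover (hp.drop (D.crit - 5) 5 (by omega)) (iff_false_intro h5)
    (D.suffix_mover (by omega) (D.mover_crit hx)) hz (iff_false_intro hz0)⟩

theorem one_odd : D.One := by
  obtain ⟨x, hx⟩ := D.exists_critical
  obtain ⟨hA, hc, hb1, hbC⟩ := D.cen_end hO hx
  obtain ⟨a'', ha, hne⟩ := D.far_adj hb hO hx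
  obtain ⟨w, hw, hwc, hwd, hwn⟩ := D.exists_w_far hb hO hx ha hne
  have hp := hx.1
  have h01 := hp.adj (i := 0) (by omega)
  have h12 := hp.adj (i := 1) (by omega)
  obtain ⟨e, he, hec⟩ := D.exists_next h01
  have hee := D.cen_of_act hA he
  have hlast : D.R (x D.crit) (x (D.crit - 1)) := by
    have := hp.adj (i := D.crit - 1) (by omega)
    rw [Nat.sub_add_cancel (by omega)] at this
    exact D.symm _ _ this
  refine D.one_of hee hlast (fun z hz => ⟨D.fix hA
    (hp.within (Nat.zero_le _) le_rfl) (by omega) (D.cen_z_le hee he hz),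
    D.fix hA (hp.within (Nat.zero_le _) (Nat.sub_le _ _)) (by omega) (D.cen_z_le hee he hz)⟩)
    fun z hz hzQ => ?_
  have hR := D.rev_crit hb hO hx ha hne
  obtain ⟨r1, r2, -⟩ := D.rev_vals hb (x := x) a''
  have hzQ' := D.tight hb hO _ hR z
    (by rw [r2]; exact D.z_le_vOf (D.symm _ _ h01) (D.cen_z_le hee he hz)) (by rw [r1]; exact hzQ)
  rw [pcons_zero] at hzQ'
  have hmv := D.moves hwc hwd h12 hwn (D.symm _ _ h01) (hp.ne2 (i := 0) (by omega))
  have hwa : D.R (x 1) (w • x 0) := D.adj_image hwc (D.symm _ _ h01)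
  refine D.inj4' hb hO hee (D.symm _ _ he) h01 hwa (D.smul w _ _ he) hec hmv.symm
    (fun h => hec (smul_left_cancel w (h.symm.trans hwc.symm))) hz ?_
  have := D.conj_z (g := w) hz
  rwa [← D.z_comm_Q hw hzQ', mul_inv_cancel_right] at this

theorem end_not_Q {x : ℕ → V} (hx : D.Critical x) (he : D.R (x 0) e) (hec : e ≠ x 1) :
    D.zc e ∉ kern D.R (x D.crit) := by
  obtain ⟨hA, hc, -, -⟩ := D.cen_end hO hx
  obtain ⟨u, hu, hun⟩ := hx.exists_not_Q
  intro hcon
  obtain ⟨p, hp', q, hq, rfl⟩ := D.exists_mul hA (hx.1.adj (by omega)) he hec hu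
  refine hun (mul_mem (D.cen_le_Q hc (hx.1.within (show 1 ≤ D.crit by omega) le_rfl) (by omega) hp') ?_)
  rcases (D.one_odd hb hO).eq_or (D.cen_of_act hA he) hq with rfl | rfl
  exacts [one_mem _, hcon]

theorem g_data {x : ℕ → V} (hx : D.Critical x) (ha : D.R (x D.crit) a'')
    (hne : a'' ≠ x (D.crit - 1)) (hg : D.R a'' g) (hgn : g ≠ x D.crit) :
    D.zc g • x 1 = x 1 ∧ D.zc g • x 2 = x 2 ∧ D.zc g ∉ kern D.R (x 1) ∧
      D.zc g • x 0 ≠ x 0 := by
  have hR := D.rev_crit hb hO hx ha hne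
  obtain ⟨r1, r2, r3⟩ := D.rev_vals hb (x := x) a''
  have hzg : D.zc g ∈ zOf D.R a'' :=
    D.cen_z_le (D.cen_of_act hR.2.1 hg) hg D.zc_mem
  have hwn : D.zc g ∉ kern D.R (x 1) := by
    have := D.end_not_Q hb hO hR hg (by rw [r1]; exact hgn)
    rwa [r2] at this
  have hwc : D.zc g • x 1 = x 1 := by
    have := D.fix hR.2.1 (hR.1.within (Nat.zero_le _) le_rfl) (by omega) (z := D.zc g) hzg
    rwa [r2] at this
  have hwd : D.zc g • x 2 = x 2 := by
    have := D.fix hR.2.1 (hR.1.within (Nat.zero_le _) (Nat.sub_le D.crit 1)) (by omega)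
      (z := D.zc g) hzg
    rwa [r3 _ (by omega), show D.crit + 1 - (D.crit - 1) = 2 by omega] at this
  have hp := hx.1
  exact ⟨hwc, hwd, hwn, D.moves hwc hwd (hp.adj (i := 1) (by omega)) hwn
    (D.symm _ _ (hp.adj (i := 0) (by omega))) (hp.ne2 (i := 0) (by omega))⟩

theorem shift_exists {x : ℕ → V} (hx : D.Critical x) (he : D.R (x 0) e) (hec : e ≠ x 1) :
    ∃ y, D.R e y ∧ y ≠ x 0 ∧ D.Critical (pcons y (pcons e x)) := by
  have one := D.one_odd hb hO
  obtain ⟨hA, hc, hb1, hbC⟩ := D.cen_end hO hx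
  have hee := D.cen_of_act hA he
  have hp := hx.1
  obtain ⟨j, hj⟩ : ∃ j, D.crit = j + 2 := ⟨D.crit - 2, by omega⟩
  have hb2 : ¬ zOf (G := G) D.R (x 0) ≤ kern D.R (x D.crit) := hx.2.2
  have hlast : D.R (x (D.crit - 1)) (x D.crit) := by
    have := hp.adj (i := D.crit - 1) (by omega)
    rwa [Nat.sub_add_cancel (by omega)] at this
  have hPe : D.Path D.crit (pcons e x) := (hp.cons (D.symm _ _ he) (fun _ => hec)).take (Nat.le_succ _)
  have mk : ∀ y, D.R e y → y ≠ x 0 → ¬ zOf (G := G) D.R y ≤ kern D.R (x j) →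
      D.Critical (pcons y (pcons e x)) := fun y hy hya hn =>
    ⟨(hPe.cons (D.symm _ _ hy) (fun _ => hya)).take (Nat.le_succ _), D.act_of_cen hee hy, by
      rw [hj]; exact hn⟩
  by_contra hcon
  push Not at hcon
  have hVQ : D.vOf e ≤ kern D.R (x j) := D.vOf_le fun y hy => by
    by_cases hya : y = x 0
    · subst hya; exact D.le_Q hA (hp.within (Nat.zero_le _) (by omega)) (by omega)
    by_contra hn
    exact hcon y hy hya (mk y hy hya hn)
  have hjR : D.R (x j) (x (D.crit - 1)) := by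
    rw [show D.crit - 1 = j + 1 by omega]; exact hp.adj (by omega)
  have hfixV : ∀ v ∈ D.vOf e, ∀ i ≤ D.crit - 1, v • x i = x i := by
    intro v hv i hi
    by_cases h : i = D.crit - 1
    · subst h; exact (hVQ hv).2 _ hjR
    · exact D.vOf_fix hee (Within.step (D.symm _ _ he) (hp.within (Nat.zero_le i) (by omega)))
        (by omega) hv
  have hefix : ∀ v ∈ D.vOf e, v • e = e := fun v hv =>
    D.vOf_fix hee (Within.refl _ 0) (by omega) hv
  have hX := D.mover_crit hx
  have hPe_end : pcons e x D.crit = x (D.crit - 1) := by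
    rw [hj, show j + 2 - 1 = j + 1 by omega]; rfl
  -- first `V_e ≤ Q_{b-1}`
  have hV1 : D.vOf e ≤ kern D.R (x (D.crit - 1)) := by
    by_contra hn
    obtain ⟨v, hv, hvn⟩ := SetLike.not_le_iff_exists.1 hn
    have hPm : D.HasMover D.crit (pcons e x) := ⟨v, fun i hi => by
      cases i with
      | zero => exact hefix v hv
      | succ i => exact hfixV v hv i (by omega), by rw [hPe_end]; exact hvn⟩
    have hends : D.Cen (x D.crit) ↔ ¬ D.Cen (pcons e x D.crit) := by
      rw [hPe_end]; simp [hb1, hbC]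
    have hQe : ¬ zOf (G := G) D.R (x (D.crit - 1)) ≤ kern D.R e := by
      intro hle
      refine hvn (D.mem_Q hb1 (hfixV v hv _ le_rfl) fun z hz => ?_)
      have h1 := D.com_mem_cen hb1 (D.symm _ _ hjR) hz (hfixV v hv _ le_rfl) (hfixV v hv j (by omega))
      have h2 := D.vOf_com (by omega) hee hv (hle hz)
      rw [← commutatorElement_inv z v, inv_mem_iff] at h2
      have hPd : D.Path (D.crit - 1) (pcons e x) := hPe.take (Nat.sub_le _ _)
      have hev : Even (D.crit - 1) := by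
        obtain ⟨k, hk⟩ := hO
        exact ⟨k, by omega⟩
      have := D.cen_inf_path hPd (by exact hee) (by omega) hev
        (D.mover_up hp hPe hX hPm hends (by omega) (by omega) (hPd.take (Nat.sub_le _ _))) h2
        (by rw [show D.crit - 1 = j + 1 by omega]; exact h1)
      exact (commutatorElement_eq_one_iff_mul_comm.1 this).symm
    have hcr : D.Critical (fun i => pcons e x (D.crit - i)) := by
      refine ⟨hPe.rev, ?_, ?_⟩
      · show ¬ D.Cen (pcons e x (D.crit - 0))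
        rw [Nat.sub_zero, hPe_end]; exact hb1
      · show ¬ zOf (G := G) D.R (pcons e x (D.crit - 0)) ≤ kern D.R (pcons e x (D.crit - D.crit))
        rw [Nat.sub_zero, hPe_end, Nat.sub_self]; exact hQe
    have := D.tight hb hO _ hcr v (by show v ∈ D.vOf (pcons e x (D.crit - D.crit))
                                      rw [Nat.sub_self]; exact hv)
      (by show v ∈ kern D.R (pcons e x (D.crit - 1))
          rw [show D.crit - 1 = j + 1 by omega]; exact hVQ hv)
    refine hvn ?_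
    rw [← hPe_end]
    simpa using this
  have hfixb : ∀ v ∈ D.vOf e, v • x D.crit = x D.crit := fun v hv => (hV1 hv).2 _ hlast
  obtain ⟨a'', ha, hne⟩ := D.far_adj hb hO hx
  -- `V_e ∩ Q_b` lies in `Q_{a''}`
  have hY : ∀ v ∈ D.vOf e, v ∈ kern D.R (x D.crit) → v ∈ kern D.R a'' := by
    intro v hv hvQ
    by_contra hvn
    set P : ℕ → V := fun i => if i ≤ D.crit - 1 then x (1 + i) else a'' with hPdef
    have hP : D.Path D.crit P := by
      have := (hp.drop 1 (D.crit - 1) (by omega)).snoc (v := a'')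
        (by show D.R (x (1 + (D.crit - 1))) a''
            rwa [Nat.add_sub_cancel' (by omega : 1 ≤ D.crit)])
        (fun m hm => by
          show x (1 + m) ≠ a''
          rw [show 1 + m = D.crit - 1 by omega]; exact hne.symm)
      rwa [Nat.sub_add_cancel (by omega : 1 ≤ D.crit)] at this
    have hPend : P D.crit = a'' := if_neg (by omega)
    have hPm : D.HasMover D.crit P := ⟨v, fun i hi => by
      by_cases h : i ≤ D.crit - 1
      · simp only [hPdef, if_pos h]
        by_cases h' : 1 + i = D.crit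
        · rw [h']; exact hfixb v hv
        · exact hfixV v hv _ (by omega)
      · simp only [hPdef, if_neg h]
        exact hvQ.2 _ ha, by rw [hPend]; exact hvn⟩
    have hends : D.Cen (x D.crit) ↔ ¬ D.Cen (P D.crit) := by
      rw [hPend]; simp [hbC, D.act_of_cen hbC ha]
    obtain ⟨y, hy, hya⟩ := D.exists_next (D.symm _ _ he)
    have hcr := (D.tr_up hp hP hX hPm hends D.crit (by omega) (by omega) False).critical hx
      ((hPe.cons (D.symm _ _ hy) (fun _ => hya)).take (Nat.le_succ _)) (D.act_of_cen hee hy)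
    exact hcon y hy hya hcr
  obtain ⟨w, hw, hwc, hwd, hwn⟩ := D.exists_w_far hb hO hx ha hne
  have h01 := hp.adj (i := 0) (by omega)
  have h12 := hp.adj (i := 1) (by omega)
  have hmv := D.moves hwc hwd h12 hwn (D.symm _ _ h01) (hp.ne2 (i := 0) (by omega))
  have hwa : D.R (x 1) (w • x 0) := D.adj_image hwc (D.symm _ _ h01)
  have hwe : D.R (w • x 0) (w • e) := D.smul w _ _ he
  have hwec : x 1 ≠ w • e := fun h => hec (smul_left_cancel w (h.symm.trans hwc.symm))
  have he'C := D.cen_smul w _ hee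
  have Y_le : ∀ v ∈ D.vOf e, v ∈ kern D.R (x D.crit) → v ∈ D.vOf (w • e) := fun v hv hvQ => by
    have := D.conj_vOf (g := w) hv
    rwa [← D.z_comm_Q hw (hY v hv hvQ), mul_inv_cancel_right] at this
  set u := D.zc e with hudef
  have huV : u ∈ D.vOf e := D.z_le_vOf (D.symm _ _ he) (D.cen_z_le hee he D.zc_mem)
  have hun := D.end_not_Q hb hO hx he hec
  have split : ∀ v ∈ D.vOf e, v ∉ kern D.R (x D.crit) → v * u ∈ kern D.R (x D.crit) :=
    fun v hv hvn => D.mul_mem_Q (D.symm _ _ hlast) (hfixb v hv) (hfixV v hv _ le_rfl)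
      (hfixb u huV) (hfixV u huV _ le_rfl) hvn hun
  have path4e : D.Path 4 (P4 e (x 0) (x 1) (w • x 0) (w • e)) :=
    D.path4 (D.symm _ _ he) h01 hwa hwe hec hmv.symm hwec
  obtain ⟨ρ, hρ⟩ := (D.short_moves hb hO).1 4 (by omega) le_rfl True _ _ path4e
    (D.path4 (D.symm _ _ hwe) (D.symm _ _ hwa) (D.symm _ _ h01) he hwec.symm hmv hec.symm)
    (iff_true_intro hee) (iff_true_intro he'C)
  have hρ1 : ρ • e = w • e := hρ 0 (by omega)
  have hρ2 : ρ • (w • e) = e := hρ 4 le_rfl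
  have hu' : u ∉ D.vOf (w • e) := by
    intro hin
    have le1 : D.vOf e ≤ D.vOf (w • e) := fun v hv => by
      by_cases h : v ∈ kern D.R (x D.crit)
      · exact Y_le v hv h
      · exact (mul_mem_cancel_right hin).1 (Y_le _ (mul_mem hv huV) (split v hv h))
    have le2 : D.vOf (w • e) ≤ D.vOf e := fun v hv => by
      have h1 := le1 (hρ2 ▸ D.conj_vOf (g := ρ) hv)
      have := D.conj_vOf (g := ρ⁻¹) h1
      rwa [show ρ⁻¹ * (ρ * v * ρ⁻¹) * ρ⁻¹⁻¹ = v by group,
        show ρ⁻¹ • (w • e) = e by rw [← hρ1, inv_smul_smul]] at this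
    -- all centres at distance four agree
    have heq : ∀ {p q r s t}, D.Cen p → D.R p q → D.R q r → D.R r s → D.R s t →
        p ≠ r → q ≠ s → r ≠ t → D.vOf p ≤ D.vOf t ∧ D.vOf t ≤ D.vOf p := by
      intro p q r s t hpC h1 h2 h3 h4 n1 n2 n3
      obtain ⟨σ, hσ⟩ := (D.short_moves hb hO).1 4 (by omega) le_rfl True _ _ path4e
        (D.path4 h1 h2 h3 h4 n1 n2 n3) (iff_true_intro hee) (iff_true_intro hpC)
      have e0 : σ • e = p := hσ 0 (by omega)
      have e4 : σ • (w • e) = t := hσ 4 le_rfl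
      refine ⟨fun v hv => ?_, fun v hv => ?_⟩
      · have h := D.conj_vOf (g := σ⁻¹) hv
        rw [← e0, inv_smul_smul, inv_inv] at h
        have := D.conj_vOf (g := σ) (le1 h)
        rwa [e4, show σ * (σ⁻¹ * v * σ) * σ⁻¹ = v by group] at this
      · have h := D.conj_vOf (g := σ⁻¹) hv
        rw [← e4, inv_smul_smul, inv_inv] at h
        have := D.conj_vOf (g := σ) (le2 h)
        rwa [e0, show σ * (σ⁻¹ * v * σ) * σ⁻¹ = v by group] at this
    obtain ⟨f, hf, hfc, hfe⟩ := D.exists_third h01 he hec.symm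
    obtain ⟨y, hy, hya⟩ := D.exists_next (D.symm _ _ he)
    obtain ⟨l, hl, hle⟩ := D.exists_next (D.symm _ _ hy)
    have h1 := heq hc (D.symm _ _ h01) he hy hl hec.symm hya.symm hle.symm
    have h2 := heq (D.cen_of_act hA hf) (D.symm _ _ hf) he hy hl hfe hya.symm hle.symm
    have h3 := heq (D.cen_of_act hA hf) (D.symm _ _ hf) h01 hwa hwe hfc hmv.symm hwec
    have ef : D.vOf f = D.vOf e :=
      le_antisymm (h3.1.trans le2) (le1.trans h3.2)
    have ec : D.vOf (x 1) = D.vOf e :=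
      le_antisymm (h1.1.trans (h2.2.trans ef.le)) (ef.ge.trans (h2.1.trans h1.2))
    refine D.vOf_ne_bot hee (D.eq_bot he (fun n hn => ⟨hfixV n hn 0 (by omega), hefix n hn⟩)
      (fun s hs n hn => ?_) fun s hs n hn => D.conj_vOf_self hs hn)
    have hse : D.R (x 0) (s • e) := D.adj_image hs he
    have := D.conj_vOf (g := s) hn
    obtain ⟨c', d', -, -, -, -, -, hall⟩ := D.third (x 0) e he
    by_cases q1 : s • e = e
    · rwa [q1] at this
    by_cases q2 : s • e = x 1
    · rwa [q2, ec] at this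
    · rwa [D.third_unique he h01 hse hf hec.symm q1 q2 hfe hfc, ef] at this
  have Y_eq : ∀ v, v ∈ D.vOf e → v ∈ D.vOf (w • e) → v ∈ kern D.R (x D.crit) := fun v hv hv' => by
    by_contra h
    exact hu' ((mul_mem_cancel_left hv').1 (Y_le _ (mul_mem hv huV) (split v hv h)))
  have hze' : D.zc (w • e) ∉ D.vOf e := by
    intro hin
    have h := D.conj_vOf (g := ρ) hin
    rw [(D.one_odd hb hO).conj_zc ρ he'C, hρ2, hρ1] at h
    exact hu' h
  obtain ⟨y₂, hy₂, hy₂n⟩ := D.exists_next (D.symm _ _ hwe)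
  have hy₂A := D.act_of_cen he'C hy₂
  obtain ⟨m, hm, hmn⟩ := (D.tr_five hb hO).2 (pcons y₂ (P4 (w • e) (w • x 0) (x 1) (x 0) e))
    ((D.path4 (D.symm _ _ hwe) (D.symm _ _ hwa) (D.symm _ _ h01) he hwec.symm hmv
      hec.symm).cons (D.symm _ _ hy₂) (fun _ => hy₂n)) hy₂A
  have m0 : m • y₂ = y₂ := hm 0 (by omega)
  have m1 : m • (w • e) = w • e := hm 1 (by omega)
  have m2 : m • (w • x 0) = w • x 0 := hm 2 (by omega)
  have m3 : m • x 1 = x 1 := hm 3 (by omega)
  have m4 : m • x 0 = x 0 := hm 4 (by omega)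
  have m5 : m • e = e := hm 5 le_rfl
  have hmn : m ∉ kern D.R e := hmn
  have hmQ : m ∈ kern D.R (w • e) :=
    D.Q_of_two' m1 (D.symm _ _ hwe) hy₂ hy₂n m2 m0
  have hmA : m ∈ kern D.R (x 0) := D.Q_of_two' m4 h01 he hec m3 m5
  have hYc : ∀ v ∈ D.vOf e, v ∈ kern D.R (x D.crit) → m * v = v * m := fun v hv hvQ => by
    have h1 := D.vOf_com (by omega) he'C (Y_le v hv hvQ) hmQ
    refine (commutatorElement_eq_one_iff_mul_comm.1 ?_).symm
    rcases one.eq_or he'C h1 with h | h
    · exact h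
    · refine absurd ?_ hze'
      rw [← h, show ⁅v, m⁆ = v * (m * v⁻¹ * m⁻¹) by rw [commutatorElement_def]; group]
      exact mul_mem hv (D.conj_vOf_self m5 (inv_mem hv))
  have hcm : ∀ v ∈ D.vOf e, m * v = v * m := fun v hv => by
    by_cases h : v ∈ kern D.R (x D.crit)
    · exact hYc v hv h
    have hu1 : m * u = u * m := D.z_comm_Q (D.cen_z_le hee he D.zc_mem) hmA
    have hvu := hYc _ (mul_mem hv huV) (split v hv h)
    exact mul_right_cancel (b := u) (by
      calc m * v * u = m * (v * u) := mul_assoc _ _ _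
        _ = v * u * m := hvu
        _ = v * m * u := by rw [mul_assoc, ← hu1, mul_assoc])
  obtain ⟨y, hy, hya⟩ := D.exists_next (D.symm _ _ he)
  have hyA := D.act_of_cen hee hy
  have hmy : D.R e (m • y) := D.adj_image m5 hy
  have hmmv : m • y ≠ y := D.moves m5 m4 (D.symm _ _ he) hmn hy hya
  refine D.z_ne hee hy hmy hmmv.symm (le_antisymm (fun v hv => ?_) fun v hv => ?_)
  · have := D.conj_z (g := m) hv
    rwa [hcm v (D.z_le_vOf hy hv), mul_inv_cancel_right] at this
  · have := D.conj_z (g := m⁻¹) hv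
    rwa [inv_smul_smul, inv_inv, mul_assoc, ← hcm v (D.z_le_vOf hmy hv), inv_mul_cancel_left] at this

theorem fwd {x : ℕ → V} (hx : D.Critical x) :
    ∃ F, D.Critical F ∧ ∀ i, i + 2 ≤ D.crit → F i = x (i + 2) := by
  obtain ⟨a'', ha, hne⟩ := D.far_adj hb hO hx
  have hR := D.rev_crit hb hO hx ha hne
  obtain ⟨r1, r2, r3⟩ := D.rev_vals hb (x := x) a''
  obtain ⟨g, hg, hgn⟩ := D.exists_next (D.symm _ _ ha)
  obtain ⟨y, hy, hyn, hS⟩ := D.shift_exists hb hO hR (e := g) hg (by rw [r1]; exact hgn)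
  obtain ⟨j, hj⟩ : ∃ j, D.crit = j + 3 := ⟨D.crit - 3, by omega⟩
  set S := pcons y (pcons g (pcons a'' fun i => x (D.crit - i))) with hSdef
  have S3 : ∀ i, S (i + 3) = x (D.crit - i) := fun i => rfl
  have hadj : D.R (S D.crit) (x 2) := by
    rw [hj, S3, hj, show j + 3 - j = 2 + 1 by omega]
    exact D.symm _ _ (hx.1.adj (by omega))
  have hne2 : x 2 ≠ S (D.crit - 1) := by
    rw [show D.crit - 1 = (j - 1) + 3 by omega, S3, show D.crit - (j - 1) = 2 + 2 by omega]
    exact hx.1.ne2 (by omega)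
  refine ⟨_, D.rev_crit hb hO hS hadj hne2, fun i hi => ?_⟩
  cases i with
  | zero => rfl
  | succ i =>
    show S (D.crit - i) = x (i + 1 + 2)
    rw [show D.crit - i = (D.crit - i - 3) + 3 by omega, S3]
    congr 1
    omega

end Mix

end CfsgLib.SThreeAmalgam
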