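import Cfsg.Agent.Amalgam.MixEven

/-!
`Mix` with critical distance three: structure of the neighbourhoods.
-/

set_option autoImplicit false
set_option linter.unusedSectionVars false
set_option linter.unusedVariables false

namespace CfsgLib.SThreeAmalgam

open scoped commutatorElement
open Subgroup

variable {G V : Type*} [Group G] [MulAction G V]

/-- The path through two vertices, and so on. -/
abbrev P2 {V : Type*} (u v w : V) : ℕ → V := pcons u (pcons v fun _ => w)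
/-- A path of length three. -/
abbrev P3 {V : Type*} (u v w x : V) : ℕ → V := pcons u (P2 v w x)
/-- A path of length four. -/
abbrev P4 {V : Type*} (u v w x y : V) : ℕ → V := pcons u (P3 v w x y)

namespace Mix

variable (D : Mix G V) {a b c d e f g l p q y : V}

theorem path2 {u v w : V} (h1 : D.R u v) (h2 : D.R v w) (n1 : u ≠ w) : D.Path 2 (P2 u v w) :=
  ((Path.zero _).cons h2 (fun h => absurd h (by omega))).cons h1 (fun _ => n1)

theorem path3 {u v w x : V} (h1 : D.R u v) (h2 : D.R v w) (h3 : D.R w x) (n1 : u ≠ w)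
    (n2 : v ≠ x) : D.Path 3 (P3 u v w x) :=
  (D.path2 h2 h3 n2).cons h1 (fun _ => n1)

theorem path4 {u v w x y : V} (h1 : D.R u v) (h2 : D.R v w) (h3 : D.R w x) (h4 : D.R x y)
    (n1 : u ≠ w) (n2 : v ≠ x) (n3 : w ≠ y) : D.Path 4 (P4 u v w x y) :=
  (D.path3 h2 h3 h4 n2 n3).cons h1 (fun _ => n1)

theorem within2 {u v w : V} (h1 : D.R u v) (h2 : D.R v w) : Within D.R 2 u w :=
  Within.step h1 (Within.single h2)

variable [Nonempty V]

/-- Some element in the kernels at `c` and `d` moves at `a`. -/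
theorem exists_q3 (hb : 3 ≤ D.crit) (ha : D.R a c) (hd : D.R c d) (had : a ≠ d) (hc : D.Cen c)
    {w : G} (hwc : w • c = c) (hwd : w • d = d) (hw : w ∉ kern D.R c) (hw2 : w * w = 1) :
    ∃ q ∈ kern (G := G) D.R c, q ∈ kern D.R d ∧ q ∉ kern D.R a := by
  by_contra hcon
  push Not at hcon
  have winv : w⁻¹ = w := inv_eq_of_mul_eq_one_right hw2
  have ww : ∀ x : G, w * (w * x * w) * w = x := fun x => by
    rw [show w * (w * x * w) * w = w * w * x * (w * w) by group, hw2, one_mul, mul_one]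
  have haA := D.act_of_cen' hc ha
  set a₂ := w • a with ha₂
  have ha₂c : D.R c a₂ := D.adj_image hwc (D.symm _ _ ha)
  have hca : D.R c a := D.symm _ _ ha
  have hmv : a₂ ≠ a := D.moves hwc hwd hd hw hca had
  have hwa₂ : w • a₂ = a := by rw [ha₂, ← mul_smul, hw2, one_smul]
  have conjc : ∀ x ∈ kern (G := G) D.R c, w * x * w ∈ kern D.R c := fun x hx => by
    have := D.conj_kern_self hwc hx; rwa [winv] at this
  have both : ∀ x ∈ kern (G := G) D.R c, x ∈ kern D.R d → x ∈ kern D.R a ∧ x ∈ kern D.R a₂ := by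
    intro x hx hxd
    refine ⟨hcon x hx hxd, ?_⟩
    have h := D.conj_kern (g := w) (hcon _ (conjc x hx)
      (by have := D.conj_kern_self hwd hxd; rwa [winv] at this))
    rwa [← ha₂, winv, ww] at h
  obtain ⟨s, hs, hsa⟩ := D.exists_Q_not_Q ha
  have hsd : s ∉ kern D.R d := fun h => hsa (both s hs h).1
  have SS : ∀ x ∈ kern (G := G) D.R c, x ∈ kern D.R a → x ∈ kern D.R a₂ := by
    intro x hx hxa
    by_cases hxd : x ∈ kern D.R d
    · exact (both x hx hxd).2
    have h := (both _ (mul_mem hx hs) (D.mul_mem_Q (D.symm _ _ hd) (hx.2 d hd) hx.1 (hs.2 d hd)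
      hs.1 hxd hsd)).1
    exact absurd ((mul_mem_cancel_left hxa).1 h) hsa
  have SS' : ∀ x ∈ kern (G := G) D.R c, x ∈ kern D.R a₂ → x ∈ kern D.R a := by
    intro x hx hxa
    have h1 : w * x * w ∈ kern D.R a := by
      have := D.conj_kern (g := w) hxa; rwa [hwa₂, winv] at this
    have h := D.conj_kern (g := w) (SS _ (conjc x hx) h1)
    rwa [hwa₂, winv, ww] at h
  have key : ∀ z ∈ zOf (G := G) D.R a, w * z * w ∈ zOf D.R a := by
    intro z hz
    have hz' : w * z * w ∈ zOf D.R a₂ := by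
      have := D.conj_z (g := w) hz; rwa [winv] at this
    have hzz : z * (w * z * w) = w * z * w * z :=
      D.comm haA (D.within2 ha ha₂c) (by omega) hz hz'
    have hzQ : ∀ t ∈ kern (G := G) D.R c, t * (z * (w * z * w)) = z * (w * z * w) * t := by
      intro t ht
      by_cases hta : t ∈ kern D.R a
      · exact Commute.mul_right (show Commute t z from D.z_comm_Q hz hta)
          (show Commute t (w * z * w) from D.z_comm_Q hz' (SS t ht hta))
      have htc' : w * t * w ∈ kern D.R c := conjc t ht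
      have htn : w * t * w ∉ kern D.R a := fun h => by
        refine hta (SS' t ht ?_)
        have := D.conj_kern (g := w) h
        rwa [← ha₂, winv, ww] at this
      have hs' := D.inv_mul_mem_Q ha (ht.2 a hca) ht.1 (htc'.2 a hca) htc'.1 hta htn
      have hζ := D.com_mem_cen haA ha hz (ht.2 a hca) ht.1
      set ζ := ⁅z, t⁆ with hζd
      have e1 : t * z * t⁻¹ = z * ζ := by rw [hζd, D.com_eq hz, ← mul_assoc, D.z_sq hz, one_mul]
      have hsz : t⁻¹ * (w * t * w) * z * (t⁻¹ * (w * t * w))⁻¹ = z := by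
        rw [D.z_comm_Q hz hs', mul_inv_cancel_right]
      have e2 : t * (w * z * w) * t⁻¹ = w * (t * z * t⁻¹) * w := by
        calc t * (w * z * w) * t⁻¹ = t * (w * z * w⁻¹) * t⁻¹ := by rw [winv]
          _ = w⁻¹ * (t * (t⁻¹ * (w * t * w) * z * (t⁻¹ * (w * t * w))⁻¹) * t⁻¹) * w := by group
          _ = w * (t * z * t⁻¹) * w := by rw [hsz, winv]
      have hw' : ζ * w = w * ζ := (D.cen_comm hc hζ hwc).symm
      have hzζ : ζ * z = z * ζ := (D.cen_comm hc hζ ((D.z_le_Q hz).2 c ha)).symm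
      have hX : ζ * (w * z * w) = w * z * w * ζ :=
        ((Commute.mul_right (show Commute ζ w from hw') (show Commute ζ z from hzζ)).mul_right
          (show Commute ζ w from hw')).eq
      have e4 : w * (z * ζ) * w = w * z * w * ζ := by
        calc w * (z * ζ) * w = w * z * (ζ * w) := by group
          _ = w * z * (w * ζ) := by rw [hw']
          _ = w * z * w * ζ := by group
      have e3 : t * (z * (w * z * w)) * t⁻¹ = z * (w * z * w) := by
        calc t * (z * (w * z * w)) * t⁻¹ = t * z * t⁻¹ * (t * (w * z * w) * t⁻¹) := by group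
          _ = z * ζ * (w * z * w * ζ) := by rw [e2, e1, e4]
          _ = z * (ζ * (w * z * w)) * ζ := by group
          _ = z * (w * z * w) * (ζ * ζ) := by rw [hX]; group
          _ = z * (w * z * w) := by rw [D.z_sq hζ, mul_one]
      exact mul_inv_eq_iff_eq_mul.1 e3
    have hzw : w * (z * (w * z * w)) = z * (w * z * w) * w := by
      calc w * (z * (w * z * w)) = w * z * w * z * w := by group
        _ = z * (w * z * w) * w := by rw [← hzz]
    have hfix : ∀ {p}, ¬ D.Cen p → D.R p c → ∀ x ∈ zOf (G := G) D.R p, x • c = c ∧ x • d = d :=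
      fun {p} hp hpc x hx => ⟨(D.z_le_Q hx).2 c hpc, D.fix hp (D.within2 hpc hd) (by omega) hx⟩
    have f1 := hfix haA ha z hz
    have f2 := hfix (D.act_of_cen hc ha₂c) (D.symm _ _ ha₂c) _ hz'
    have hX : IsX c d (z * (w * z * w)) := by
      refine ⟨by rw [mul_smul, f2.1, f1.1], by rw [mul_smul, f2.2, f1.2], ?_, fun t htc htd => ?_⟩
      · calc z * (w * z * w) * (z * (w * z * w)) = z * (w * z * w * z) * (w * z * w) := by group
          _ = z * z * (w * z * w * (w * z * w)) := by rw [← hzz]; group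
          _ = 1 := by rw [D.z_sq hz, D.z_sq hz', one_mul]
      · by_cases htQ : t ∈ kern D.R c
        · exact hzQ t htQ
        · have hq := hzQ _ (D.inv_mul_mem_Q hd hwc hwd htc htd hw htQ)
          rw [show t = w * (w⁻¹ * t) by group, mul_assoc, hq, ← mul_assoc, hzw, mul_assoc]
    have hv : z * (w * z * w) ∈ zOf D.R a := D.cen_z_le hc ha (D.isX_mem_z hd hX)
    exact (mul_mem_cancel_left hz).1 hv
  refine D.z_ne hc hca ha₂c hmv.symm (le_antisymm (fun x hx => ?_) fun x hx => ?_)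
  · have := D.conj_z (g := w) (key x hx)
    rwa [← ha₂, winv, ww] at this
  · have h1 : w * x * w ∈ zOf D.R a := by
      have := D.conj_z (g := w) hx; rwa [hwa₂, winv] at this
    have := key _ h1
    rwa [ww] at this

theorem vOf_comm (hb : 3 ≤ D.crit) (hc : D.Cen c) {x y : G} (hx : x ∈ D.vOf c)
    (hy : y ∈ D.vOf c) : x * y = y * x := by
  have h : D.vOf c ≤ centralizer {y} := by
    refine D.vOf_le fun p hp z hz => mem_centralizer_singleton_iff.2 ?_
    have h' : D.vOf c ≤ centralizer {z} := D.vOf_le fun q hq z' hz' =>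
      mem_centralizer_singleton_iff.2
        (D.comm (D.act_of_cen hc hq) (D.within2 (D.symm _ _ hq) hp) (by omega) hz' hz)
    exact (mem_centralizer_singleton_iff.1 (h' hy)).symm
  exact mem_centralizer_singleton_iff.1 (h hx)

theorem vOf_com (hb : 3 ≤ D.crit) (hc : D.Cen c) {x t : G} (hx : x ∈ D.vOf c)
    (ht : t ∈ kern D.R c) : ⁅x, t⁆ ∈ zOf D.R c := by
  let H : Subgroup G :=
    { carrier := {x | x • c = c ∧ ⁅x, t⁆ ∈ zOf D.R c}
      one_mem' := ⟨one_smul _ _, by rw [commutatorElement_one_left]; exact one_mem _⟩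
      mul_mem' := fun {u v} hu hv => ⟨by rw [mul_smul, hv.1, hu.1], by
        rw [show ⁅u * v, t⁆ = u * ⁅v, t⁆ * u⁻¹ * ⁅u, t⁆ by
          simp only [commutatorElement_def]; group, D.cen_conj hc hv.2 hu.1]
        exact mul_mem hv.2 hu.2⟩
      inv_mem' := fun {u} hu => by
        have hu' : u⁻¹ • c = c := inv_smul_eq_iff.2 hu.1.symm
        refine ⟨hu', ?_⟩
        rw [show ⁅u⁻¹, t⁆ = u⁻¹ * ⁅u, t⁆⁻¹ * u⁻¹⁻¹ by simp only [commutatorElement_def]; group,
          D.cen_conj hc (inv_mem hu.2) hu']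
        exact inv_mem hu.2 }
  have h : D.vOf c ≤ H := D.vOf_le fun y hy z hz =>
    ⟨(D.z_le_Q hz).2 c (D.symm _ _ hy), D.com_mem_cen (D.act_of_cen hc hy) (D.symm _ _ hy) hz
      (ht.2 y hy) ht.1⟩
  exact (h hx).2

theorem third_eq (h1 : D.One) (ha : ¬ D.Cen a) (hc : D.R a c) (he : D.R a e) (hf : D.R a f)
    (hec : e ≠ c) (hfc : f ≠ c) (hfe : f ≠ e) : D.zc f = D.zc c * D.zc e := by
  have hfC := D.cen_of_act ha hf
  rcases h1.z_cases ha hc he hec (D.cen_z_le hfC hf D.zc_mem) with h | h | h | h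
  · exact absurd h (D.zc_ne hfC)
  · exact absurd h (D.zc_ne_zc hf hc hfc.symm hfC)
  · exact absurd h (D.zc_ne_zc hf he hfe.symm hfC)
  · exact h

/-! ### Critical distance three -/

variable (hb : D.crit = 3)
include hb

theorem tr3 (t : Prop) : D.Tr 3 t := by
  obtain ⟨x, hx⟩ := D.exists_critical
  obtain ⟨u, hu, hun⟩ := hx.exists_not_Q
  have hp := hx.1
  rw [hb] at hp hun
  have hc : D.Cen (x 1) := hp.cen_odd hx.2.1 (by omega) odd_one
  have h : D.Tr 3 True := (D.tr_two True).succ (by omega) (hp.drop 1 2 (by omega))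
    (iff_true_intro hc) ⟨u, fun i hi => D.fix hx.2.1 (hp.within (Nat.zero_le (1 + i)) (by omega))
      (by omega) hu, hun⟩
  by_cases ht : t
  · intro x y hx hy hx0 hy0
    exact h x y hx hy (hx0.trans (iff_true_intro ht)) (hy0.trans (iff_true_intro ht))
  · intro x y hx hy hx0 hy0
    exact (h.rev (t' := False) (by decide) (by tauto)) x y hx hy
      (hx0.trans (iff_false_intro ht)) (hy0.trans (iff_false_intro ht))

theorem crit3 (ha : ¬ D.Cen a) (h1 : D.R a c) (h2 : D.R c d) (h3 : D.R d l) (n1 : a ≠ d)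
    (n2 : c ≠ l) : ∃ u ∈ zOf (G := G) D.R a, u ∉ kern D.R l := by
  obtain ⟨x, hx⟩ := D.exists_critical
  have hP : D.Path D.crit (P3 a c d l) := by rw [hb]; exact D.path3 h1 h2 h3 n1 n2
  have := (hb ▸ D.tr3 hb False : D.Tr D.crit False).critical hx hP ha
  simpa [hb] using this.exists_not_Q

/-- For an active-central-active path there is an involution swapping the far side. -/
theorem exists_w (hc : D.Cen c) (hd : D.R c d) :
    ∃ w : G, w • c = c ∧ w • d = d ∧ w ∉ kern D.R c ∧ w * w = 1 := by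
  have hdA := D.act_of_cen hc hd
  obtain ⟨x₃, hx₃, hx₃c⟩ := D.exists_next (D.symm _ _ hd)
  obtain ⟨a'', ha'', ha''d⟩ := D.exists_next (D.symm _ _ hx₃)
  obtain ⟨w, hw, hwn⟩ := D.crit3 hb (D.act_of_cen (D.cen_of_act hdA hx₃) ha'')
    (D.symm _ _ ha'') (D.symm _ _ hx₃) (D.symm _ _ hd) ha''d hx₃c
  have hA := D.act_of_cen (D.cen_of_act hdA hx₃) ha''
  exact ⟨w, D.fix hA (Within.step (D.symm _ _ ha'') (D.within2 (D.symm _ _ hx₃) (D.symm _ _ hd)))
    (by omega) hw, D.fix hA (D.within2 (D.symm _ _ ha'') (D.symm _ _ hx₃)) (by omega) hw, hwn,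
    D.z_sq hw⟩

/-- Central vertices at distance four have centres meeting trivially. -/
theorem inj4 (he : D.Cen e) (h1 : D.R e a) (h2 : D.R a c) (h3 : D.R c d) (h4 : D.R d l)
    (n1 : e ≠ c) (n2 : a ≠ d) (n3 : c ≠ l) {r : G} (r1 : r ∈ zOf D.R e) (r2 : r ∈ zOf D.R l) :
    r = 1 := by
  have hc : D.Cen c := D.cen_of_act (D.act_of_cen he h1) h2
  obtain ⟨w, hwc, hwd, hwn, hw2⟩ := D.exists_w hb hc h3
  obtain ⟨q, hqc, hqd, hqa⟩ := D.exists_q3 (by omega) h2 h3 n2 hc hwc hwd hwn hw2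
  have hlC := D.cen_of_act (D.act_of_cen hc h3) h4
  have hm : D.HasMover (4 - 1) (P4 l d c a e) := ⟨q, fun i hi => by
    rcases (by omega : i = 0 ∨ i = 1 ∨ i = 2 ∨ i = 3) with rfl | rfl | rfl | rfl
    · exact hqd.2 l h4
    · exact hqd.1
    · exact hqc.1
    · exact hqc.2 a (D.symm _ _ h2), hqa⟩
  exact D.cen_inf_path (L := 4) (P := P4 l d c a e)
    (D.path4 (D.symm _ _ h4) (D.symm _ _ h3) (D.symm _ _ h2) (D.symm _ _ h1) n3.symm n2.symm
      n1.symm) hlC (by omega) (by decide) hm r2 r1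

theorem one_three : D.One := by
  obtain ⟨x, hx⟩ := D.exists_critical
  have hp := hx.1
  rw [hb] at hp
  have ha : ¬ D.Cen (x 0) := hx.2.1
  have hc : D.Cen (x 1) := hp.cen_odd ha (by omega) odd_one
  have hd : ¬ D.Cen (x 2) := hp.act_even ha (by omega) even_two
  have hx3 : D.Cen (x 3) := hp.cen_odd ha le_rfl (by decide)
  have h01 := hp.adj (i := 0) (by omega)
  have h12 := hp.adj (i := 1) (by omega)
  have h23 := hp.adj (i := 2) (by omega)
  obtain ⟨e, he, hec⟩ := D.exists_next h01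
  have hee := D.cen_of_act ha he
  obtain ⟨a'', ha'', ha''d⟩ := D.exists_next (D.symm _ _ h23)
  have ha''A := D.act_of_cen hx3 ha''
  obtain ⟨g, hg, hg3⟩ := D.exists_next (D.symm _ _ ha'')
  have hgC := D.cen_of_act ha''A hg
  obtain ⟨w₀, hw₀, hw₀n⟩ := D.crit3 hb ha''A (D.symm _ _ ha'') (D.symm _ _ h23) (D.symm _ _ h12)
    ha''d (hp.ne2 (i := 1) le_rfl).symm
  obtain ⟨p, hp', w, hw, rfl⟩ := D.exists_mul ha''A (D.symm _ _ ha'') hg hg3 hw₀
  have hwn : w ∉ kern D.R (x 1) := fun h => hw₀n (mul_mem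
    (D.cen_le_Q hx3 (D.within2 (D.symm _ _ h23) (D.symm _ _ h12)) (by omega) hp') h)
  have wg : Within D.R 3 g (x 2) :=
    Within.step (D.symm _ _ hg) (D.within2 (D.symm _ _ ha'') (D.symm _ _ h23))
  have hwc : w • x 1 = x 1 := D.cen_fix hgC (wg.snoc (D.symm _ _ h12)) (by omega) hw
  have hwd : w • x 2 = x 2 := D.cen_fix hgC wg (by omega) hw
  by_cases hcase : ∀ h ∈ zOf (G := G) D.R e, h ∈ kern D.R (x 3) → h = 1
  · exact D.one_of hee (v := x 3) (p := x 2) (D.symm _ _ h23) (fun z hz =>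
      ⟨D.fix ha (hp.within (Nat.zero_le _) le_rfl) (by omega) (D.cen_z_le hee he hz),
        D.fix ha (hp.within (Nat.zero_le _) (by omega)) (by omega) (D.cen_z_le hee he hz)⟩) hcase
  push Not at hcase
  obtain ⟨h, hh, hhQ, hh1⟩ := hcase
  refine D.one_of hgC (v := x 1) (p := x 2) h12
    (fun z hz => ⟨D.cen_fix hgC (wg.snoc (D.symm _ _ h12)) (by omega) hz,
      D.cen_fix hgC wg (by omega) hz⟩) fun h' hh' hh'Q => ?_
  have hha : h • a'' = a'' := hhQ.2 _ ha''
  have hwa := D.moves hwc hwd h12 hwn (D.symm _ _ h01) (hp.ne2 (i := 0) (by omega))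
  have hhg : h • g ≠ g := fun hfix => by
    refine hh1 (D.inj4 hb hee (D.symm _ _ he) h01 (l := w • e)
      (D.adj_image hwc (D.symm _ _ h01)) (D.smul w _ _ he) hec hwa.symm
      (fun h' => hec (smul_left_cancel w (h'.symm.trans hwc.symm))) hh ?_)
    have := D.conj_z (g := w) hh
    rwa [← D.cen_comm hgC hw hfix, mul_inv_cancel_right] at this
  have h1 := D.com_mem_cen ha h01 (D.cen_z_le hee he hh) (t := h')
    (hh'Q.2 _ (D.symm _ _ h01)) hh'Q.1
  have h2 := D.com_mem_cen ha''A (D.symm _ _ ha'') (D.cen_z_le hgC hg hh') (t := h) hha hhQ.1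
  rw [← commutatorElement_inv h h', inv_mem_iff] at h2
  have hone := D.cen_inf (D.symm _ _ h12) h23 (hp.ne2 (i := 1) le_rfl).symm hc h1 h2
  rw [commutatorElement_eq_one_iff_mul_comm] at hone
  refine D.cen_inf hg (D.adj_image hha hg) hhg hgC hh' ?_
  have := D.conj_z (g := h) hh'
  rwa [hone, mul_inv_cancel_right] at this

theorem crit4 (he : D.Cen e) (h1 : D.R e a) (h2 : D.R a c) (h3 : D.R c d) (h4 : D.R d l)
    (n1 : e ≠ c) (n2 : a ≠ d) (n3 : c ≠ l) : D.zc e ∉ kern D.R l := by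
  have ha := D.act_of_cen he h1
  obtain ⟨u, hu, hun⟩ := D.crit3 hb ha h2 h3 h4 n2 n3
  intro hcon
  obtain ⟨p, hp, q, hq, rfl⟩ := D.exists_mul ha h2 (D.symm _ _ h1) n1 hu
  refine hun (mul_mem (D.cen_le_Q (D.cen_of_act ha h2) (D.within2 h3 h4) (by omega) hp) ?_)
  rcases (D.one_three hb).eq_or he hq with rfl | rfl
  exacts [one_mem _, hcon]

theorem mem_Q4 (he : D.Cen e) (h1 : D.R e a) (h2 : D.R a c) (h3 : D.R c d) (n1 : e ≠ c)
    (n2 : a ≠ d) {x : G} (hx : x ∈ zOf D.R d) (hQ : x ∈ kern D.R e) : x ∈ zOf D.R c := by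
  have hc : D.Cen c := D.cen_of_act (D.act_of_cen he h1) h2
  obtain ⟨l, hl, hlc⟩ := D.exists_next (D.symm _ _ h3)
  have hd := D.act_of_cen hc h3
  have hlC := D.cen_of_act hd hl
  obtain ⟨p, hp, q, hq, rfl⟩ := D.exists_mul hd (D.symm _ _ h3) hl hlc hx
  rcases (D.one_three hb).eq_or hlC hq with rfl | rfl
  · simpa using hp
  · refine absurd ?_ (D.crit4 hb hlC (D.symm _ _ hl) (D.symm _ _ h3) (D.symm _ _ h2)
      (D.symm _ _ h1) hlc n2.symm n1.symm)
    exact (mul_mem_cancel_left (D.cen_le_Q hc (D.within2 (D.symm _ _ h2) (D.symm _ _ h1))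
      (by omega) hp)).1 hQ

omit hb in
theorem vOf_est (hb3 : 3 ≤ D.crit) (hc : D.Cen c) (hd : D.R c d) {w k : G} (hwc : w • c = c)
    (hwd : w • d = d) (hwn : w ∉ kern D.R c) (hk : k ∈ D.vOf c) (hkw : k * w = w * k) {t : G}
    (htc : t • c = c) (htd : t • d = d) : ⁅k, t⁆ ∈ zOf D.R c := by
  by_cases htQ : t ∈ kern D.R c
  · exact D.vOf_com hb3 hc hk htQ
  have h := D.vOf_com hb3 hc hk (D.inv_mul_mem_Q hd hwc hwd htc htd hwn htQ)
  rw [show t = w * (w⁻¹ * t) by group, show ⁅k, w * (w⁻¹ * t)⁆ =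
    ⁅k, w⁆ * (w * ⁅k, w⁻¹ * t⁆ * w⁻¹) by simp only [commutatorElement_def]; group,
    commutatorElement_eq_one_iff_mul_comm.2 hkw, one_mul, D.cen_conj hc h hwc]
  exact h

theorem vOf_inf (hc : D.Cen c) (hd : D.R c d) (hl : D.R d l) (hlc : l ≠ c) {k : G}
    (hk : k ∈ D.vOf c) (hk' : k ∈ D.vOf l) : k ∈ zOf D.R d := by
  have one := D.one_three hb
  have hdA := D.act_of_cen hc hd
  have hlC := D.cen_of_act hdA hl
  obtain ⟨a, ha, had⟩ := D.exists_next hd
  obtain ⟨a'', ha'', ha''d⟩ := D.exists_next (D.symm _ _ hl)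
  obtain ⟨u, hu, hun⟩ := D.crit3 hb (D.act_of_cen hc ha) (D.symm _ _ ha) hd hl had hlc.symm
  obtain ⟨w, hw, hwn⟩ := D.crit3 hb (D.act_of_cen hlC ha'') (D.symm _ _ ha'') (D.symm _ _ hl)
    (D.symm _ _ hd) ha''d hlc
  have fc : ∀ {p q r s : V}, D.Cen q → D.R q p → D.R q r → D.R r s → ∀ z ∈ zOf (G := G) D.R p,
      z • s = s ∧ z • r = r := fun hq h1 h2 h3 z hz =>
    ⟨D.fix (D.act_of_cen hq h1) (Within.step (D.symm _ _ h1) (D.within2 h2 h3)) (by omega) hz,
      D.fix (D.act_of_cen hq h1) (D.within2 (D.symm _ _ h1) h2) (by omega) hz⟩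
  obtain ⟨hwc, hwd⟩ := fc hlC ha'' (D.symm _ _ hl) (D.symm _ _ hd) w hw
  obtain ⟨hul, hud⟩ := fc hc ha hd hl u hu
  have e1 : ∀ t : G, t • c = c → t • d = d → ⁅k, t⁆ ∈ zOf D.R c := fun t h1 h2 =>
    D.vOf_est (by omega) hc hd hwc hwd hwn hk
      (D.vOf_comm (by omega) hlC hk' (D.z_le_vOf ha'' hw)) h1 h2
  have e2 : ∀ t : G, t • l = l → t • d = d → ⁅k, t⁆ ∈ zOf D.R l := fun t h1 h2 =>
    D.vOf_est (by omega) hlC (D.symm _ _ hl) hul hud hun hk'
      (D.vOf_comm (by omega) hc hk (D.z_le_vOf ha hu)) h1 h2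
  have hQ : ∀ t ∈ kern (G := G) D.R d, t * k = k * t := fun t ht =>
    (commutatorElement_eq_one_iff_mul_comm.1 (D.cen_inf (D.symm _ _ hd) hl hlc hc
      (e1 t (ht.2 c (D.symm _ _ hd)) ht.1) (e2 t (ht.2 l hl) ht.1))).symm
  obtain ⟨t, htd, htc, ht⟩ := D.swap d c (D.symm _ _ hd)
  -- adjust by an element of `Z_d`
  obtain ⟨z, hz, hzc⟩ : ∃ z ∈ zOf (G := G) D.R l, ⁅z, t⁆ = ⁅k, t⁆ := by
    rcases one.eq_or hc (e1 t htc htd) with h | h
    · exact ⟨1, one_mem _, by rw [h, commutatorElement_one_left]⟩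
    · have hzd : D.zc l ∈ zOf D.R d := D.cen_z_le hlC hl D.zc_mem
      refine ⟨D.zc l, D.zc_mem, ?_⟩
      rw [h]
      refine one.eq_zc hc (D.com_mem_cen hdA (D.symm _ _ hd) hzd htd htc) fun h1 => ?_
      exact D.zc_ne hlC (D.cen_inf (D.symm _ _ hd) hl hlc hc
        ((D.com_eq_one_iff hdA (D.symm _ _ hd) hzd htd htc ht).1 h1) D.zc_mem)
  have hzd : z ∈ zOf D.R d := D.cen_z_le hlC hl hz
  have hkd : k ∈ kern D.R d :=
    D.vOf_le_Q hc (Within.single hd) (by omega) hk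
  have hkz : k * z = z * k := D.z_comm_Q hzd hkd
  have hk2 : k * k = 1 := by
    let H : Subgroup G :=
      { carrier := {x | x ∈ D.vOf c ∧ x * x = 1}
        one_mem' := ⟨one_mem _, one_mul 1⟩
        mul_mem' := fun {x y} hx hy => ⟨mul_mem hx.1 hy.1, by
          rw [mul_assoc x y, ← mul_assoc y x y, D.vOf_comm (by omega) hc hy.1 hx.1,
            mul_assoc x y y, hy.2, mul_one, hx.2]⟩
        inv_mem' := fun {x} hx => ⟨inv_mem hx.1, by rw [← mul_inv_rev, hx.2, inv_one]⟩ }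
    exact (D.vOf_le (H := H) (fun y hy z hz => ⟨D.z_le_vOf hy hz, D.z_sq hz⟩) hk).2
  have hkzd : k * z ∈ kern D.R d := mul_mem hkd (D.z_le_Q hzd)
  have hX : IsX d c (k * z) := by
    refine ⟨hkzd.1, hkzd.2 c (D.symm _ _ hd), ?_, fun s hsd hsc => ?_⟩
    · rw [mul_assoc k z, ← mul_assoc z k z, ← hkz, mul_assoc k z z, D.z_sq hzd, mul_one, hk2]
    have hQ' : ∀ q ∈ kern (G := G) D.R d, q * (k * z) = k * z * q := fun q hq => by
      rw [← mul_assoc, hQ q hq, mul_assoc, D.z_comm_Q hzd hq, mul_assoc]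
    have ht' : t * (k * z) = k * z * t := by
      have h1 : ⁅k * z, t⁆ = k * ⁅z, t⁆ * k⁻¹ * ⁅k, t⁆ := by
        simp only [commutatorElement_def]; group
      rw [hzc, D.cen_conj hc (e1 t htc htd) (hkd.2 c (D.symm _ _ hd)),
        D.z_sq (e1 t htc htd)] at h1
      exact (commutatorElement_eq_one_iff_mul_comm.1 h1).symm
    by_cases hsQ : s ∈ kern D.R d
    · exact hQ' s hsQ
    · rw [show s = t * (t⁻¹ * s) by group, mul_assoc,
        hQ' _ (D.inv_mul_mem_Q (D.symm _ _ hd) htd htc hsd hsc ht hsQ), ← mul_assoc, ht',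
        mul_assoc]
  exact (mul_mem_cancel_right hzd).1
    (D.cen_z_le hc (D.symm _ _ hd) (D.mem_cen_z hc (D.symm _ _ hd) hX))

/-- The image of an outer neighbour under the swapping involution. -/
theorem w_image {g a'' : V} (hc : D.Cen c) (he : D.R a e) (ha : D.R a c) (hd : D.R c d)
    (hl : D.R d l) (hp : D.R l a'') (hg : D.R a'' g) (hec : e ≠ c) (had : a ≠ d) (hlc : l ≠ c)
    (hpd : a'' ≠ d) (hgl : g ≠ l) :
    D.zc g • c = c ∧ D.zc g • d = d ∧ D.zc g • a ≠ a ∧ D.zc g ∉ kern D.R c ∧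
      D.zc (D.zc g • e) = D.zc e * D.zc c * D.zc l := by
  have one := D.one_three hb
  have haA := D.act_of_cen' hc ha
  have hee := D.cen_of_act haA he
  have hdA := D.act_of_cen hc hd
  have hlC := D.cen_of_act hdA hl
  have hpA := D.act_of_cen hlC hp
  have hgC := D.cen_of_act hpA hg
  have hwn : D.zc g ∉ kern D.R c := D.crit4 hb hgC (D.symm _ _ hg) (D.symm _ _ hp) (D.symm _ _ hl)
    (D.symm _ _ hd) hgl hpd hlc
  have wg : Within D.R 3 g d :=
    Within.step (D.symm _ _ hg) (D.within2 (D.symm _ _ hp) (D.symm _ _ hl))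
  have hwc : D.zc g • c = c := D.cen_fix hgC (wg.snoc (D.symm _ _ hd)) (by omega) D.zc_mem
  have hwd : D.zc g • d = d := D.cen_fix hgC wg (by omega) D.zc_mem
  have hwa : D.zc g • a ≠ a := D.moves hwc hwd hd hwn (D.symm _ _ ha) had
  refine ⟨hwc, hwd, hwa, hwn, ?_⟩
  have hwe : D.R (D.zc g • a) (D.zc g • e) := D.smul _ _ _ he
  have wi : (D.zc g)⁻¹ = D.zc g := D.z_inv D.zc_mem
  have hu : D.zc e ∈ D.vOf c :=
    D.z_le_vOf (D.symm _ _ ha) (D.cen_z_le hee he D.zc_mem)
  have hu' := one.conj_zc (D.zc g) hee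
  set r := D.zc e * D.zc (D.zc g • e) with hr
  have hrc : r ∈ D.vOf c := by
    refine mul_mem hu (D.z_le_vOf (y := D.zc g • a) (D.adj_image hwc (D.symm _ _ ha)) ?_)
    exact D.cen_z_le (D.cen_smul _ _ hee) hwe D.zc_mem
  have hue : D.zc e • l = l ∧ D.zc e • d = d :=
    ⟨D.fix haA (Within.step ha (D.within2 hd hl)) (by omega) (D.cen_z_le hee he D.zc_mem),
      D.fix haA (D.within2 ha hd) (by omega) (D.cen_z_le hee he D.zc_mem)⟩
  have hrl : r ∈ D.vOf l := by
    have hw : D.zc g ∈ D.vOf l := D.z_le_vOf hp (D.cen_z_le hgC hg D.zc_mem)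
    have h := mul_mem (D.conj_vOf_self hue.1 hw) (inv_mem hw)
    rw [hr, ← hu', wi]
    rw [D.z_inv (D.zc_mem (c := e)), wi] at h
    simpa [mul_assoc] using h
  have hrd := D.vOf_inf hb hc hd hl hlc hrc hrl
  have hQe : ∀ x ∈ zOf (G := G) D.R c, x ∈ kern D.R e := fun x hx =>
    D.cen_le_Q hc (D.within2 (D.symm _ _ ha) he) (by omega) hx
  have hwwe : D.zc (D.zc g • e) ∉ kern D.R e := D.crit4 hb (D.cen_smul _ _ hee)
    (D.symm _ _ hwe) (c := c) (by have := D.smul (D.zc g) _ _ ha; rwa [hwc] at this)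
    (D.symm _ _ ha) he (fun h => hec (smul_left_cancel (D.zc g) (h.trans hwc.symm))) hwa hec.symm
  have hzeQ : D.zc e ∈ kern D.R e := D.z_le_Q D.zc_mem
  have hrnc : r ∉ zOf D.R c := fun h => hwwe ((mul_mem_cancel_left hzeQ).1 (hQe r h))
  have hrnl : r ∉ zOf D.R l := by
    intro h
    -- the same element seen from the other end
    have hug : D.zc (D.zc e • g) = D.zc e * D.zc g * D.zc e := by
      rw [← one.conj_zc _ hgC, D.z_inv D.zc_mem]
    have hr' : r = D.zc e * D.zc g * D.zc e * D.zc g := by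
      rw [hr, ← hu', wi]; simp [mul_assoc]
    have hn : D.zc e ∉ kern D.R l := D.crit4 hb hee (D.symm _ _ he) ha hd hl hec had hlc.symm
    have hup : D.zc e • a'' ≠ a'' := D.moves hue.1 hue.2 (D.symm _ _ hl) hn hp hpd
    have h1 : D.zc (D.zc e • g) ∈ kern D.R g := by
      have hm : r * D.zc g ∈ kern D.R g :=
        mul_mem (D.cen_le_Q hlC (D.within2 hp hg) (by omega) h) (D.z_le_Q D.zc_mem)
      rw [hr', mul_assoc (D.zc e * D.zc g * D.zc e), D.z_sq D.zc_mem, mul_one] at hm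
      rwa [hug]
    refine D.crit4 hb (D.cen_smul _ _ hgC) (D.symm _ _ (D.smul (D.zc e) _ _ hg)) (c := l)
      ?_ hp hg ?_ hup hgl.symm h1
    · have := D.smul (D.zc e) _ _ hp
      rw [hue.1] at this
      exact D.symm _ _ this
    · exact fun h => hgl (smul_left_cancel (D.zc e) (h.trans hue.1.symm))
  rcases one.z_cases hdA (D.symm _ _ hd) hl hlc hrd with h | h | h | h
  · exact absurd (h ▸ one_mem _) hrnc
  · exact absurd (h ▸ D.zc_mem) hrnc
  · exact absurd (h ▸ D.zc_mem) hrnl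
  · rw [mul_assoc, ← h, hr, ← mul_assoc, D.z_sq D.zc_mem, one_mul]

end Mix

end CfsgLib.SThreeAmalgam
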