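import Cfsg.Agent.Amalgam.MixBasic

/-!
Non-backtracking paths, transitivity on paths, and the critical distance for `Mix`.
-/

set_option autoImplicit false
set_option linter.unusedSectionVars false
set_option linter.unusedVariables false

namespace CfsgLib.SThreeAmalgam

open scoped commutatorElement
open Subgroup

variable {G V : Type*} [Group G] [MulAction G V]

/-- Prepend a vertex to a sequence. -/
def pcons {V : Type*} (v : V) (x : ℕ → V) : ℕ → V
  | 0 => v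
  | i + 1 => x i

@[simp] theorem pcons_zero {V : Type*} (v : V) (x : ℕ → V) : pcons v x 0 = v := rfl
@[simp] theorem pcons_succ {V : Type*} (v : V) (x : ℕ → V) (i : ℕ) : pcons v x (i + 1) = x i := rfl

namespace Mix

variable (D : Mix G V) {a b c d e f p q : V}

/-- A non-backtracking path of length `n`. -/
def Path (n : ℕ) (x : ℕ → V) : Prop :=
  (∀ i, i < n → D.R (x i) (x (i + 1))) ∧ ∀ i, i + 2 ≤ n → x i ≠ x (i + 2)

variable {D}

theorem Path.zero (x : ℕ → V) : D.Path 0 x := ⟨fun i hi => by omega, fun i hi => by omega⟩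

theorem Path.adj {n : ℕ} {x : ℕ → V} (h : D.Path n x) {i : ℕ} (hi : i < n) :
    D.R (x i) (x (i + 1)) := h.1 i hi

theorem Path.ne2 {n : ℕ} {x : ℕ → V} (h : D.Path n x) {i : ℕ} (hi : i + 2 ≤ n) :
    x i ≠ x (i + 2) := h.2 i hi

theorem Path.take {n m : ℕ} {x : ℕ → V} (h : D.Path n x) (hm : m ≤ n) : D.Path m x :=
  ⟨fun i hi => h.1 i (by omega), fun i hi => h.2 i (by omega)⟩

theorem Path.drop {n : ℕ} {x : ℕ → V} (h : D.Path n x) (k m : ℕ) (hm : k + m ≤ n) :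
    D.Path m (fun i => x (k + i)) :=
  ⟨fun i hi => h.1 (k + i) (by omega), fun i hi => h.2 (k + i) (by omega)⟩

theorem Path.congr {n : ℕ} {x y : ℕ → V} (h : D.Path n x) (hxy : ∀ i ≤ n, y i = x i) :
    D.Path n y :=
  ⟨fun i hi => by rw [hxy i (by omega), hxy (i + 1) (by omega)]; exact h.1 i hi,
    fun i hi => by rw [hxy i (by omega), hxy (i + 2) (by omega)]; exact h.2 i hi⟩

theorem Path.smul {n : ℕ} {x : ℕ → V} (h : D.Path n x) (g : G) : D.Path n (fun i => g • x i) :=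
  ⟨fun i hi => D.smul g _ _ (h.1 i hi), fun i hi e => h.2 i hi (smul_left_cancel g e)⟩

theorem Path.rev {n : ℕ} {x : ℕ → V} (h : D.Path n x) : D.Path n (fun i => x (n - i)) := by
  refine ⟨fun i hi => ?_, fun i hi => ?_⟩
  · have := D.symm _ _ (h.1 (n - (i + 1)) (by omega))
    rwa [show n - (i + 1) + 1 = n - i by omega] at this
  · have := (h.2 (n - (i + 2)) (by omega)).symm
    rwa [show n - (i + 2) + 2 = n - i by omega] at this

theorem Path.cons {n : ℕ} {x : ℕ → V} {v : V} (h : D.Path n x) (hv : D.R v (x 0))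
    (hne : 1 ≤ n → v ≠ x 1) : D.Path (n + 1) (pcons v x) := by
  refine ⟨fun i hi => ?_, fun i hi => ?_⟩
  · cases i with
    | zero => exact hv
    | succ i => exact h.1 i (by omega)
  · cases i with
    | zero => exact hne (by omega)
    | succ i => exact h.2 i (by omega)

theorem Path.snoc {n : ℕ} {x : ℕ → V} {v : V} (h : D.Path n x) (hv : D.R (x n) v)
    (hne : ∀ m, n = m + 1 → x m ≠ v) :
    D.Path (n + 1) (fun i => if i ≤ n then x i else v) := by
  refine ⟨fun i hi => ?_, fun i hi => ?_⟩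
  · dsimp only
    rw [if_pos (by omega : i ≤ n)]
    by_cases h' : i + 1 ≤ n
    · rw [if_pos h']; exact h.1 i (by omega)
    · rw [if_neg h', show i = n by omega]; exact hv
  · dsimp only
    rw [if_pos (by omega : i ≤ n)]
    by_cases h' : i + 2 ≤ n
    · rw [if_pos h']; exact h.2 i h'
    · rw [if_neg h']; exact hne i (by omega)

theorem Path.within {n : ℕ} {x : ℕ → V} (h : D.Path n x) {i j : ℕ} (hij : i ≤ j) (hj : j ≤ n) :
    Within D.R (j - i) (x i) (x j) := by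
  obtain ⟨k, rfl⟩ : ∃ k, j = i + k := ⟨j - i, by omega⟩
  rw [Nat.add_sub_cancel_left]
  clear hij
  induction k with
  | zero => exact Within.refl _ _
  | succ k ih =>
    exact (ih (by omega)).snoc (h.1 (i + k) (by omega))

theorem Path.within' {n : ℕ} {x : ℕ → V} (h : D.Path n x) {i j m : ℕ} (hi : i ≤ n) (hj : j ≤ n)
    (h1 : i ≤ j + m) (h2 : j ≤ i + m) : Within D.R m (x i) (x j) := by
  rcases le_total i j with hle | hle
  · exact (h.within hle hj).mono (by omega)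
  · exact ((h.within hle hi).symm D.symm).mono (by omega)

theorem Path.cen {n : ℕ} {x : ℕ → V} (h : D.Path n x) {i : ℕ} (hi : i ≤ n) :
    D.Cen (x i) ↔ (D.Cen (x 0) ↔ Even i) := by
  induction i with
  | zero => simp
  | succ i ih =>
    rw [D.cen_adj _ _ (D.symm _ _ (h.1 i (by omega))), ih (by omega), Nat.even_add_one]
    tauto

theorem Path.act_even {n : ℕ} {x : ℕ → V} (h : D.Path n x) (h0 : ¬ D.Cen (x 0)) {i : ℕ}
    (hi : i ≤ n) (he : Even i) : ¬ D.Cen (x i) := by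
  rw [h.cen hi]; tauto

theorem Path.cen_odd {n : ℕ} {x : ℕ → V} (h : D.Path n x) (h0 : ¬ D.Cen (x 0)) {i : ℕ}
    (hi : i ≤ n) (he : Odd i) : D.Cen (x i) := by
  rw [h.cen hi]
  exact iff_of_false h0 (by simpa using he)

variable (D)

theorem exists_path {n : ℕ} {u v : V} (h : Within D.R n u v) :
    ∃ m ≤ n, ∃ x, D.Path m x ∧ x 0 = u ∧ x m = v := by
  induction h with
  | refl a n => exact ⟨0, Nat.zero_le _, fun _ => a, Path.zero _, rfl, rfl⟩
  | @step u w v n huw _ ih =>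
    obtain ⟨m, hm, x, hx, hx0, hxm⟩ := ih
    by_cases hb : 1 ≤ m ∧ x 1 = u
    · obtain ⟨k, rfl⟩ : ∃ k, m = k + 1 := ⟨m - 1, by omega⟩
      exact ⟨k, by omega, fun i => x (1 + i), hx.drop 1 k (by omega), hb.2,
        by simpa [add_comm] using hxm⟩
    · refine ⟨m + 1, by omega, pcons u x, hx.cons (hx0 ▸ huw) (fun h e => hb ⟨h, e.symm⟩), rfl, hxm⟩

/-- A third neighbour extends a path. -/
theorem exists_next {u v : V} (h : D.R v u) : ∃ w, D.R v w ∧ w ≠ u := by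
  obtain ⟨c, d, hc, -, hcb, -, -, -⟩ := D.third v u h
  exact ⟨c, hc, hcb⟩

/-! ### Transitivity on paths -/

/-- The group is transitive on paths of length `n` whose first vertex has type `t`. -/
def Tr (n : ℕ) (t : Prop) : Prop :=
  ∀ x y, D.Path n x → D.Path n y → (D.Cen (x 0) ↔ t) → (D.Cen (y 0) ↔ t) →
    ∃ g : G, ∀ i ≤ n, g • x i = y i

/-- An element fixing a path and moving at its last vertex. -/
def HasMover (n : ℕ) (x : ℕ → V) : Prop :=
  ∃ g : G, (∀ i ≤ n, g • x i = x i) ∧ g ∉ kern D.R (x n)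

theorem orbit_of_type (hab : D.R a c) (ha : ¬ D.Cen a) :
    ∀ v, (¬ D.Cen v → ∃ g : G, g • a = v) ∧ (D.Cen v → ∃ g : G, g • c = v) := by
  intro v
  obtain ⟨n, hn⟩ := D.conn v a
  suffices h : ∀ n v, Within D.R n v a →
      ∃ g : G, g • a = v ∧ (∀ w, D.R v w → ∃ k : G, k • c = w) ∨
        g • c = v ∧ (∀ w, D.R v w → ∃ k : G, k • a = w) by
    obtain ⟨g, ⟨rfl, -⟩ | ⟨rfl, -⟩⟩ := h n v hn
    · exact ⟨fun _ => ⟨g, rfl⟩, fun h => absurd h (D.act_smul g ha)⟩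
    · exact ⟨fun h => absurd (D.cen_smul g c (D.cen_of_act ha hab)) h, fun _ => ⟨g, rfl⟩⟩
  intro n v hv
  generalize hA : a = a' at hv
  induction hv with
  | refl v n =>
    subst hA
    refine ⟨1, Or.inl ⟨one_smul _ _, fun w hw => ?_⟩⟩
    obtain ⟨g, -, hg⟩ := D.trans hab hw
    exact ⟨g, hg⟩
  | @step v w u n hvw _ ih =>
    subst hA
    obtain ⟨g, h | h⟩ := ih rfl <;> obtain ⟨k, hk⟩ := h.2 v (D.symm _ _ hvw)
    · refine ⟨k, Or.inr ⟨hk, fun z hz => ?_⟩⟩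
      obtain ⟨j, -, hj⟩ := D.trans hvw hz
      exact ⟨j * g, by rw [mul_smul, h.1, hj]⟩
    · refine ⟨k, Or.inl ⟨hk, fun z hz => ?_⟩⟩
      obtain ⟨j, -, hj⟩ := D.trans hvw hz
      exact ⟨j * g, by rw [mul_smul, h.1, hj]⟩

theorem conj_of_type {u v : V} (h : D.Cen u ↔ D.Cen v) : ∃ g : G, g • u = v := by
  obtain ⟨w, hw⟩ := D.exists_adj u
  by_cases hu : D.Cen u
  · exact (D.orbit_of_type (D.symm _ _ hw) (D.act_of_cen hu hw) v).2 (h.1 hu)
  · exact (D.orbit_of_type hw hu v).1 (fun hv => hu (h.2 hv))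

theorem tr_one (t : Prop) : D.Tr 1 t := by
  intro x y hx hy hx0 hy0
  obtain ⟨g, hg⟩ := D.conj_of_type (hx0.trans hy0.symm)
  obtain ⟨k, hk, hk'⟩ := D.trans (a := y 0) (b := g • x 1) (c := y 1)
    (by rw [← hg]; exact D.smul g _ _ (hx.adj Nat.one_pos)) (hy.adj Nat.one_pos)
  refine ⟨k * g, fun i hi => ?_⟩
  rw [mul_smul]
  rcases (by omega : i = 0 ∨ i = 1) with rfl | rfl
  · rw [hg, hk]
  · exact hk'

theorem mover_one {x : ℕ → V} (hx : D.Path 1 x) : D.HasMover 1 x := by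
  obtain ⟨t, h1, h0, ht⟩ := D.swap (x 1) (x 0) (D.symm _ _ (hx.adj Nat.one_pos))
  exact ⟨t, fun i hi => by rcases (by omega : i = 0 ∨ i = 1) with rfl | rfl <;> assumption, ht⟩

variable {D}

theorem Tr.mover {n : ℕ} {t : Prop} (h : D.Tr n t) {x : ℕ → V} (hx : D.Path n x)
    (hx0 : D.Cen (x 0) ↔ t) (hm : D.HasMover n x) {y : ℕ → V} (hy : D.Path n y)
    (hy0 : D.Cen (y 0) ↔ t) : D.HasMover n y := by
  obtain ⟨g, hg⟩ := h x y hx hy hx0 hy0
  obtain ⟨k, hk, hkn⟩ := hm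
  refine ⟨g * k * g⁻¹, fun i hi => ?_, fun hcon => hkn ?_⟩
  · rw [← hg i hi, mul_smul, mul_smul, inv_smul_smul, hk i hi]
  · have := D.conj_kern (g := g⁻¹) hcon
    rwa [← hg n le_rfl, inv_smul_smul, inv_inv, show g⁻¹ * (g * k * g⁻¹) * g = k by group] at this

theorem Tr.succ {n : ℕ} {t : Prop} (h : D.Tr n t) (hn : 1 ≤ n) {x₀ : ℕ → V}
    (hx₀ : D.Path n x₀) (ht : D.Cen (x₀ 0) ↔ t) (hm : D.HasMover n x₀) : D.Tr (n + 1) t := by
  intro x y hx hy hx0 hy0
  obtain ⟨g, hg⟩ := h x y (hx.take (Nat.le_succ n)) (hy.take (Nat.le_succ n)) hx0 hy0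
  by_cases he : g • x (n + 1) = y (n + 1)
  · refine ⟨g, fun i hi => ?_⟩
    rcases (by omega : i ≤ n ∨ i = n + 1) with hi' | rfl
    exacts [hg i hi', he]
  obtain ⟨k, hk, hkn⟩ := h.mover hx₀ ht hm (hy.take (Nat.le_succ n)) hy0
  obtain ⟨m, rfl⟩ : ∃ m, n = m + 1 := ⟨n - 1, by omega⟩
  have hs : k • g • x (m + 1 + 1) = y (m + 1 + 1) := by
    refine D.swaps (hk _ le_rfl) (hk m (by omega)) (D.symm _ _ (hy.adj (by omega))) hkn ?_
      (hy.adj (Nat.lt_succ_self _)) ?_ (hy.ne2 le_rfl).symm (Ne.symm he)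
    · rw [← hg _ le_rfl]; exact D.smul g _ _ (hx.adj (Nat.lt_succ_self _))
    · rw [← hg m (by omega)]
      exact fun e => hx.ne2 le_rfl (smul_left_cancel g e).symm
  refine ⟨k * g, fun i hi => ?_⟩
  rw [mul_smul]
  rcases (by omega : i ≤ m + 1 ∨ i = m + 1 + 1) with hi' | rfl
  · rw [hg i hi', hk i hi']
  · exact hs

theorem Tr.rev {n : ℕ} (hn : Odd n) {t t' : Prop} (htt : t' ↔ ¬ t) (h : D.Tr n t) : D.Tr n t' := by
  intro x y hx hy hx0 hy0
  have he : ¬ Even n := by simpa using hn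
  obtain ⟨g, hg⟩ := h _ _ hx.rev hy.rev (by rw [Nat.sub_zero, hx.cen le_rfl, hx0, htt]; tauto)
    (by rw [Nat.sub_zero, hy.cen le_rfl, hy0, htt]; tauto)
  refine ⟨g, fun i hi => ?_⟩
  have := hg (n - i) (Nat.sub_le n i)
  rwa [show n - (n - i) = i by omega] at this

variable (D)

theorem tr_two (t : Prop) : D.Tr 2 t := by
  intro x y hx hy hx0 hy0
  exact (D.tr_one t).succ le_rfl (hx.take one_le_two) hx0 (D.mover_one (hx.take one_le_two))
    x y hx hy hx0 hy0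

/-! ### The critical distance -/

theorem exists_bad [Nonempty V] :
    ∃ n a v, ¬ D.Cen a ∧ Within D.R n a v ∧ ¬ zOf (G := G) D.R a ≤ kern D.R v := by
  by_contra hcon
  push Not at hcon
  obtain ⟨v⟩ := ‹Nonempty V›
  obtain ⟨w, hw⟩ := D.exists_adj v
  obtain ⟨a, c, hac, ha⟩ : ∃ a c, D.R a c ∧ ¬ D.Cen a := by
    by_cases h : D.Cen v
    · exact ⟨w, v, D.symm _ _ hw, D.act_of_cen h hw⟩
    · exact ⟨v, w, hw, h⟩
  obtain ⟨x, hx1, hx⟩ := D.nontriv a c hac
  refine hx1 (D.faithful x fun u => ?_)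
  obtain ⟨n, hn⟩ := D.conn a u
  exact (hcon n a u ha hn (D.isX_mem_z hac hx)).1

/-- The critical distance. -/
noncomputable def crit [Nonempty V] : ℕ :=
  sInf {n | ∃ a v, ¬ D.Cen a ∧ Within D.R n a v ∧ ¬ zOf (G := G) D.R a ≤ kern D.R v}

variable [Nonempty V]

theorem crit_spec :
    ∃ a v, ¬ D.Cen a ∧ Within D.R D.crit a v ∧ ¬ zOf (G := G) D.R a ≤ kern D.R v :=
  Nat.sInf_mem (s := {n | ∃ a v, ¬ D.Cen a ∧ Within D.R n a v ∧ ¬ zOf (G := G) D.R a ≤ kern D.R v})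
    D.exists_bad

theorem le_Q {n : ℕ} (ha : ¬ D.Cen a) (h : Within D.R n a c) (hn : n < D.crit) :
    zOf (G := G) D.R a ≤ kern D.R c := by
  by_contra hcon
  exact absurd (Nat.sInf_le
    (s := {n | ∃ a v, ¬ D.Cen a ∧ Within D.R n a v ∧ ¬ zOf (G := G) D.R a ≤ kern D.R v})
    ⟨a, c, ha, h, hcon⟩) (Nat.not_le.2 hn)

theorem crit_pos : 0 < D.crit := by
  obtain ⟨a, v, ha, h, hn⟩ := D.crit_spec
  by_contra h0
  rw [Nat.eq_zero_of_not_pos h0] at h
  exact hn (h.eq_of_zero ▸ D.z_le_Q)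

theorem fix {n : ℕ} {z : G} (ha : ¬ D.Cen a) (h : Within D.R n a c) (hn : n ≤ D.crit)
    (hz : z ∈ zOf D.R a) : z • c = c := by
  cases n with
  | zero => rw [← h.eq_of_zero]; exact (D.z_le_Q hz).1
  | succ n =>
    rcases h.last D.symm with e | ⟨p, hp, hpc⟩
    · rw [← e]; exact (D.z_le_Q hz).1
    · exact (D.le_Q ha hp (by omega) hz).2 c hpc

theorem cen_le_Q {n : ℕ} (hc : D.Cen c) (h : Within D.R n c a) (hn : n ≤ D.crit) :
    zOf (G := G) D.R c ≤ kern D.R a := by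
  cases n with
  | zero => rw [← h.eq_of_zero]; exact D.z_le_Q
  | succ n =>
    rcases h.first with e | ⟨p, hp, hpa⟩
    · rw [← e]; exact D.z_le_Q
    · exact (D.cen_z_le hc (D.symm _ _ hp)).trans
        (D.le_Q (D.act_of_cen hc hp) hpa (by omega))

theorem cen_fix {n : ℕ} {z : G} (hc : D.Cen c) (h : Within D.R n c a) (hn : n ≤ D.crit + 1)
    (hz : z ∈ zOf D.R c) : z • a = a := by
  cases n with
  | zero => rw [← h.eq_of_zero]; exact (D.z_le_Q hz).1
  | succ n =>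
    rcases h.last D.symm with e | ⟨p, hp, hpa⟩
    · rw [← e]; exact (D.z_le_Q hz).1
    · exact (D.cen_le_Q hc hp (by omega) hz).2 a hpa

theorem comm {n : ℕ} {z w : G} (ha : ¬ D.Cen a) (h : Within D.R n a c) (hn : n < D.crit)
    (hz : z ∈ zOf D.R a) (hw : w ∈ zOf D.R c) : z * w = w * z :=
  D.z_comm_Q hw (D.le_Q ha h hn hz)

theorem cen_comm_z {n : ℕ} {z w : G} (hc : D.Cen c) (h : Within D.R n c a) (hn : n ≤ D.crit)
    (hz : z ∈ zOf D.R c) (hw : w ∈ zOf D.R a) : z * w = w * z :=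
  D.z_comm_Q hw (D.cen_le_Q hc h hn hz)

/-- A critical path. -/
def Critical (x : ℕ → V) : Prop :=
  D.Path D.crit x ∧ ¬ D.Cen (x 0) ∧ ¬ zOf (G := G) D.R (x 0) ≤ kern D.R (x D.crit)

theorem exists_critical : ∃ x, D.Critical x := by
  obtain ⟨a, v, ha, h, hn⟩ := D.crit_spec
  obtain ⟨m, hm, x, hx, hx0, hxm⟩ := D.exists_path h
  rcases hm.lt_or_eq with hlt | rfl
  · refine absurd (D.le_Q ha ?_ hlt) hn
    simpa [hx0, hxm] using hx.within (Nat.zero_le m) le_rfl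
  · exact ⟨x, hx, by rwa [hx0], by rwa [hx0, hxm]⟩

variable {D}

theorem Critical.exists_not_Q {x : ℕ → V} (h : D.Critical x) :
    ∃ u ∈ zOf (G := G) D.R (x 0), u ∉ kern D.R (x D.crit) :=
  SetLike.not_le_iff_exists.1 h.2.2

theorem Critical.smul {x : ℕ → V} (h : D.Critical x) (g : G) : D.Critical (fun i => g • x i) := by
  refine ⟨h.1.smul g, D.act_smul g h.2.1, fun hle => ?_⟩
  obtain ⟨u, hu, hun⟩ := h.exists_not_Q
  refine hun ?_
  have := D.conj_kern (g := g⁻¹) (hle (D.conj_z (g := g) hu))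
  rwa [inv_smul_smul, inv_inv, show g⁻¹ * (g * u * g⁻¹) * g = u by group] at this

theorem Critical.congr {x y : ℕ → V} (h : D.Critical x) (he : ∀ i ≤ D.crit, y i = x i) :
    D.Critical y := by
  refine ⟨h.1.congr he, ?_, ?_⟩
  · rw [he 0 (Nat.zero_le _)]; exact h.2.1
  · rw [he 0 (Nat.zero_le _), he _ le_rfl]; exact h.2.2

theorem Tr.critical (h : D.Tr D.crit False) {x y : ℕ → V} (hx : D.Critical x)
    (hy : D.Path D.crit y) (hy0 : ¬ D.Cen (y 0)) : D.Critical y := by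
  obtain ⟨g, hg⟩ := h x y hx.1 hy (iff_false_intro hx.2.1) (iff_false_intro hy0)
  exact (hx.smul g).congr fun i hi => (hg i hi).symm

variable (D)

/-! ### Centres of order two -/

/-- Every centre of a central vertex has order at most two. -/
def One : Prop :=
  ∀ c, D.Cen c → ∀ x ∈ zOf (G := G) D.R c, ∀ y ∈ zOf (G := G) D.R c, x ≠ 1 → y ≠ 1 → x = y

theorem one_of {e p v : V} (he : D.Cen e) (hv : D.R v p)
    (hfix : ∀ z ∈ zOf (G := G) D.R e, z • v = v ∧ z • p = p)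
    (hinj : ∀ z ∈ zOf (G := G) D.R e, z ∈ kern D.R v → z = 1) : D.One := by
  intro c hc x hx y hy hx1 hy1
  obtain ⟨g, hg⟩ := D.conj_of_type (iff_of_true hc he)
  have mem : ∀ z ∈ zOf (G := G) D.R c, g * z * g⁻¹ ∈ zOf D.R e := fun z hz => by
    simpa [hg] using D.conj_z (g := g) hz
  have nQ : ∀ z ∈ zOf (G := G) D.R c, z ≠ 1 → g * z * g⁻¹ ∉ kern D.R v := fun z hz h1 hQ =>
    h1 (conj_eq_one_iff.1 (hinj _ (mem z hz) hQ))
  have h := hinj _ (mul_mem (mem x hx) (mem y hy))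
    (D.mul_mem_Q hv (hfix _ (mem x hx)).1 (hfix _ (mem x hx)).2 (hfix _ (mem y hy)).1
      (hfix _ (mem y hy)).2 (nQ x hx hx1) (nQ y hy hy1))
  rw [show g * x * g⁻¹ * (g * y * g⁻¹) = g * (x * y) * g⁻¹ by group, conj_eq_one_iff] at h
  rw [← mul_right_cancel_iff (a := y), h, D.z_sq hy]

/-- The involution of the centre of a central vertex. -/
noncomputable def zc (c : V) : G :=
  open Classical in if h : D.Cen c then (D.exists_z_ne_one h).choose else 1

theorem zc_mem : D.zc c ∈ zOf (G := G) D.R c := by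
  unfold zc; split
  · rename_i h; exact (D.exists_z_ne_one h).choose_spec.1
  · exact one_mem _

theorem zc_ne (hc : D.Cen c) : D.zc c ≠ 1 := by
  unfold zc; rw [dif_pos hc]; exact (D.exists_z_ne_one hc).choose_spec.2

variable {D}

theorem One.eq_or (h1 : D.One) {x : G} (hc : D.Cen c) (hx : x ∈ zOf D.R c) :
    x = 1 ∨ x = D.zc c :=
  or_iff_not_imp_left.2 fun h => h1 c hc x hx _ D.zc_mem h (D.zc_ne hc)

theorem One.eq_zc (h1 : D.One) {x : G} (hc : D.Cen c) (hx : x ∈ zOf D.R c) (hne : x ≠ 1) :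
    x = D.zc c := (h1.eq_or hc hx).resolve_left hne

theorem One.conj_zc (h1 : D.One) (g : G) (hc : D.Cen c) :
    g * D.zc c * g⁻¹ = D.zc (g • c) :=
  h1.eq_zc (D.cen_smul g c hc) (D.conj_z D.zc_mem) fun h => D.zc_ne hc (conj_eq_one_iff.1 h)

theorem One.z_cases (h1 : D.One) (ha : ¬ D.Cen a) (hc : D.R a c) (he : D.R a e) (hne : e ≠ c)
    {x : G} (hx : x ∈ zOf D.R a) :
    x = 1 ∨ x = D.zc c ∨ x = D.zc e ∨ x = D.zc c * D.zc e := by
  obtain ⟨u, hu, v, hv, rfl⟩ := D.exists_mul ha hc he hne hx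
  rcases h1.eq_or (D.cen_of_act ha hc) hu with rfl | rfl <;>
    rcases h1.eq_or (D.cen_of_act ha he) hv with rfl | rfl <;> simp

variable (D)

theorem zc_ne_zc (hc : D.R a c) (he : D.R a e) (hne : e ≠ c) (hcc : D.Cen c) :
    D.zc c ≠ D.zc e := fun h =>
  D.zc_ne hcc (D.cen_inf hc he hne hcc D.zc_mem (h ▸ D.zc_mem))

end Mix

end CfsgLib.SThreeAmalgam
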